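import Cfsg.Agent.Lib.Helper5.OT3

set_option autoImplicit false
set_option maxRecDepth 100000

/-! generated data: group C2 of order 2 and degree 2 -/

namespace Cfsg.Agent.Lib.Helper5.OT.D

/-- enumeration data -/
def e0 : EData where
  d := 2
  gens := [[1, 0]]
  Ls := [[0, 1], [1, 0]]
  nxt := [[1], [0]]
  words := [[], [0]]

/-- element orders -/
def ords0 : List ℕ := [1, 2]

theorem chk0 : chkAll e0 = true := by decide +kernel

theorem ord0 : e0.Ls.map (rord e0.d) = ords0 := by decide +kernel

theorem nz0 : ∀ k ∈ ords0, k ≠ 0 := by decide +kernel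

theorem ex0 : ∀ k ∈ ords0, k ∣ 84 := by decide +kernel

/-- solvable series data -/
def s0 : SData where
  d := 2
  series := [[[1, 0]]]
  conjW := [[[]]]
  commW := [[[[]]]]

theorem chkS0 : chkS s0 = true := by decide +kernel

end Cfsg.Agent.Lib.Helper5.OT.D
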