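import Cfsg.Agent.Lib.Helper5.OT3

set_option autoImplicit false
set_option maxRecDepth 100000

/-! generated data: group C3 of order 3 and degree 3 -/

namespace Cfsg.Agent.Lib.Helper5.OT.D

/-- enumeration data -/
def e1 : EData where
  d := 3
  gens := [[1, 2, 0]]
  Ls := [[0, 1, 2], [1, 2, 0], [2, 0, 1]]
  nxt := [[1], [2], [0]]
  words := [[], [0], [0, 0]]

/-- element orders -/
def ords1 : List ℕ := [1, 3, 3]

theorem chk1 : chkAll e1 = true := by decide +kernel

theorem ord1 : e1.Ls.map (rord e1.d) = ords1 := by decide +kernel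

theorem nz1 : ∀ k ∈ ords1, k ≠ 0 := by decide +kernel

theorem ex1 : ∀ k ∈ ords1, k ∣ 84 := by decide +kernel

/-- solvable series data -/
def s1 : SData where
  d := 3
  series := [[[1, 2, 0]]]
  conjW := [[[]]]
  commW := [[[[]]]]

theorem chkS1 : chkS s1 = true := by decide +kernel

end Cfsg.Agent.Lib.Helper5.OT.D
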