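import Cfsg.Agent.Lib.Helper5.OT3

set_option autoImplicit false
set_option maxRecDepth 100000

/-! generated data: group R14_8971 of order 28 and degree 11 -/

namespace Cfsg.Agent.Lib.Helper5.OT.D

/-- enumeration data -/
def e11 : EData where
  d := 11
  gens := [[6, 5, 4, 3, 2, 1, 0, 8, 9, 10, 7], [2, 3, 4, 5, 6, 0, 1, 9, 10, 7, 8]]
  Ls := [[0, 1, 2, 3, 4, 5, 6, 7, 8, 9, 10], [0, 1, 2, 3, 4, 5, 6, 9, 10, 7, 8], [0, 6, 5, 4, 3, 2, 1, 8, 9, 10, 7], [0, 6, 5, 4, 3, 2, 1, 10, 7, 8, 9], [1, 0, 6, 5, 4, 3, 2, 8, 9, 10, 7], [1, 0, 6, 5, 4, 3, 2, 10, 7, 8, 9], [1, 2, 3, 4, 5, 6, 0, 7, 8, 9, 10], [1, 2, 3, 4, 5, 6, 0, 9, 10, 7, 8], [2, 1, 0, 6, 5, 4, 3, 8, 9, 10, 7], [2, 1, 0, 6, 5, 4, 3, 10, 7, 8, 9], [2, 3, 4, 5, 6, 0, 1, 7, 8, 9, 10], [2, 3, 4, 5, 6, 0, 1, 9, 10, 7, 8],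 [3, 2, 1, 0, 6, 5, 4, 8, 9, 10, 7], [3, 2, 1, 0, 6, 5, 4, 10, 7, 8, 9], [3, 4, 5, 6, 0, 1, 2, 7, 8, 9, 10], [3, 4, 5, 6, 0, 1, 2, 9, 10, 7, 8], [4, 3, 2, 1, 0, 6, 5, 8, 9, 10, 7], [4, 3, 2, 1, 0, 6, 5, 10, 7, 8, 9], [4, 5, 6, 0, 1, 2, 3, 7, 8, 9, 10], [4, 5, 6, 0, 1, 2, 3, 9, 10, 7, 8], [5, 4, 3, 2, 1, 0, 6, 8, 9, 10, 7], [5, 4, 3, 2, 1, 0, 6, 10, 7, 8, 9], [5, 6, 0, 1, 2, 3, 4, 7, 8, 9, 10], [5, 6, 0, 1, 2, 3, 4, 9, 10, 7, 8], [6, 0, 1, 2, 3, 4, 5, 7, 8, 9, 10], [6, 0, 1, 2, 3, 4, 5, 9, 10, 7, 8], [6, 5, 4, 3, 2, 1, 0, 8, 9, 10, 7], [6, 5, 4, 3, 2, 1, 0, 10, 7, 8, 9]]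
  nxt := [[26, 11], [27, 10], [25, 9], [24, 8], [23, 13], [22, 12], [20, 15], [21, 14], [19, 17], [18, 16], [16, 19], [17, 18], [15, 21], [14, 20], [12, 23], [13, 22], [11, 27], [10, 26], [8, 25], [9, 24], [7, 3], [6, 2], [4, 1], [5, 0], [2, 7], [3, 6], [1, 5], [0, 4]]
  words := [[], [0, 0], [1, 1, 1, 1, 0], [0, 1, 1, 1], [1, 0, 0, 0], [1, 0], [1, 1, 1, 1], [1, 1, 1, 1, 0, 0], [0, 1, 1], [0, 1, 1, 0, 0], [1, 0, 0], [1], [1, 1, 0], [1, 1, 0, 0, 0], [0, 1, 1, 0, 0, 0], [0, 1, 1, 0], [0, 1, 0, 0], [0, 1], [1, 1], [1, 1, 0, 0], [0, 1, 1, 1, 1], [1, 1, 1, 0], [0, 1, 0], [0, 1, 0, 0, 0], [1, 1, 1, 0, 0], [1, 1, 1], [0], [0, 0, 0]]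

/-- element orders -/
def ords11 : List ℕ := [1, 2, 4, 4, 4, 4, 7, 14, 4, 4, 7, 14, 4, 4, 7, 14, 4, 4, 7, 14, 4, 4, 7, 14, 7, 14, 4, 4]

theorem chk11 : chkAll e11 = true := by decide +kernel

theorem ord11 : e11.Ls.map (rord e11.d) = ords11 := by decide +kernel

theorem nz11 : ∀ k ∈ ords11, k ≠ 0 := by decide +kernel

theorem ex11 : ∀ k ∈ ords11, k ∣ 84 := by decide +kernel

/-- solvable series data -/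
def s11 : SData where
  d := 11
  series := [[[6, 5, 4, 3, 2, 1, 0, 8, 9, 10, 7], [2, 3, 4, 5, 6, 0, 1, 9, 10, 7, 8]], [[4, 5, 6, 0, 1, 2, 3, 7, 8, 9, 10]]]
  conjW := [[[([0, 0, 0, 0, 0, 0], [0, 0, 0, 0, 0, 0])], [([0], [0])]], [[]]]
  commW := [[[[], [0, 0, 0, 0, 0, 0]], [[0], []]], [[[]]]]

theorem chkS11 : chkS s11 = true := by decide +kernel

end Cfsg.Agent.Lib.Helper5.OT.D
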