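import Cfsg.Agent.Lib.Helper5.OT3

set_option autoImplicit false
set_option maxRecDepth 100000

/-! generated data: group R14_22963 of order 36 and degree 11 -/

namespace Cfsg.Agent.Lib.Helper5.OT.D

/-- enumeration data -/
def e12 : EData where
  d := 11
  gens := [[0, 1, 2, 3, 6, 7, 4, 5, 9, 10, 8], [2, 1, 0, 3, 7, 4, 5, 6, 9, 8, 10], [2, 0, 1, 3, 6, 7, 4, 5, 9, 10, 8]]
  Ls := [[0, 1, 2, 3, 4, 5, 6, 7, 8, 9, 10], [0, 1, 2, 3, 4, 5, 6, 7, 9, 10, 8], [0, 1, 2, 3, 4, 5, 6, 7, 10, 8, 9], [0, 1, 2, 3, 6, 7, 4, 5, 8, 9, 10], [0, 1, 2, 3, 6, 7, 4, 5, 9, 10, 8], [0, 1, 2, 3, 6, 7, 4, 5, 10, 8, 9], [0, 2, 1, 3, 5, 6, 7, 4, 8, 10, 9], [0, 2, 1, 3, 5, 6, 7, 4, 9, 8, 10], [0, 2, 1, 3, 5, 6, 7, 4, 10, 9, 8], [0, 2, 1, 3, 7, 4, 5, 6, 8, 10, 9], [0, 2, 1, 3, 7, 4, 5, 6, 9,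 8, 10], [0, 2, 1, 3, 7, 4, 5, 6, 10, 9, 8], [1, 0, 2, 3, 5, 6, 7, 4, 8, 10, 9], [1, 0, 2, 3, 5, 6, 7, 4, 9, 8, 10], [1, 0, 2, 3, 5, 6, 7, 4, 10, 9, 8], [1, 0, 2, 3, 7, 4, 5, 6, 8, 10, 9], [1, 0, 2, 3, 7, 4, 5, 6, 9, 8, 10], [1, 0, 2, 3, 7, 4, 5, 6, 10, 9, 8], [1, 2, 0, 3, 4, 5, 6, 7, 8, 9, 10], [1, 2, 0, 3, 4, 5, 6, 7, 9, 10, 8], [1, 2, 0, 3, 4, 5, 6, 7, 10, 8, 9], [1, 2, 0, 3, 6, 7, 4, 5, 8, 9, 10], [1, 2, 0, 3, 6, 7, 4, 5, 9, 10, 8], [1, 2, 0, 3, 6, 7, 4, 5, 10, 8, 9], [2, 0, 1, 3, 4, 5, 6, 7, 8, 9, 10], [2, 0, 1, 3, 4, 5, 6, 7, 9, 10, 8], [2, 0, 1, 3, 4, 5, 6, 7, 10, 8, 9], [2, 0, 1, 3, 6, 7, 4, 5, 8, 9, 10], [2, 0, 1, 3, 6, 7, 4, 5, 9, 10, 8], [2, 0, 1, 3, 6, 7, 4, 5, 10, 8, 9], [2, 1, 0, 3, 5, 6, 7, 4, 8, 10, 9], [2, 1, 0, 3, 5, 6, 7, 4, 9, 8, 10], [2, 1,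 0, 3, 5, 6, 7, 4, 10, 9, 8], [2, 1, 0, 3, 7, 4, 5, 6, 8, 10, 9], [2, 1, 0, 3, 7, 4, 5, 6, 9, 8, 10], [2, 1, 0, 3, 7, 4, 5, 6, 10, 9, 8]]
  nxt := [[4, 34, 28], [5, 33, 29], [3, 35, 27], [1, 31, 25], [2, 30, 26], [0, 32, 24], [10, 25, 34], [11, 24, 35], [9, 26, 33], [7, 28, 31], [8, 27, 32], [6, 29, 30], [16, 19, 10], [17, 18, 11], [15, 20, 9], [13, 22, 7], [14, 21, 8], [12, 23, 6], [22, 16, 4], [23, 15, 5], [21, 17, 3], [19, 13, 1], [20, 12, 2], [18, 14, 0], [28, 10, 22], [29, 9, 23], [27, 11, 21], [25, 7, 19], [26, 6, 20], [24, 8, 18], [34, 1, 16], [35, 0, 17], [33, 2, 15], [31, 4, 13], [32, 3, 14], [30, 5, 12]]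
  words := [[], [1, 1, 0], [0, 0], [1, 1], [0], [1, 1, 0, 0], [1, 2], [1, 2, 0, 0], [2, 2, 1, 0], [2, 2, 1], [0, 1, 2], [1, 2, 0], [2, 1, 0, 0], [1, 2, 2, 0], [2, 1], [2, 0, 1], [2, 1, 0], [1, 2, 2], [2, 2, 1, 1, 0], [2, 2, 0, 0], [2, 2], [2, 2, 0], [1, 2, 0, 1], [2, 2, 1, 1], [2, 1, 1, 0, 0], [2, 1, 1], [2, 0], [2, 0, 0], [2], [2, 1, 1, 0], [1, 0], [1, 1, 1], [0, 1], [0, 0, 1], [1], [1, 0, 0]]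

/-- element orders -/
def ords12 : List ℕ := [1, 3, 3, 2, 6, 6, 4, 4, 4, 4, 4, 4, 4, 4, 4, 4, 4, 4, 3, 3, 3, 6, 6, 6, 3, 3, 3, 6, 6, 6, 4, 4, 4, 4, 4, 4]

theorem chk12 : chkAll e12 = true := by decide +kernel

theorem ord12 : e12.Ls.map (rord e12.d) = ords12 := by decide +kernel

theorem nz12 : ∀ k ∈ ords12, k ≠ 0 := by decide +kernel

theorem ex12 : ∀ k ∈ ords12, k ∣ 84 := by decide +kernel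

/-- solvable series data -/
def s12 : SData where
  d := 11
  series := [[[0, 1, 2, 3, 6, 7, 4, 5, 9, 10, 8], [2, 1, 0, 3, 7, 4, 5, 6, 9, 8, 10], [2, 0, 1, 3, 6, 7, 4, 5, 9, 10, 8]], [[2, 0, 1, 3, 4, 5, 6, 7, 8, 9, 10], [0, 1, 2, 3, 4, 5, 6, 7, 10, 8, 9]]]
  conjW := [[[([0], [0]), ([1], [1])], [([0, 0], [0, 0]), ([1, 1], [1, 1])], [([0], [0]), ([1], [1])]], [[], []]]
  commW := [[[[], [1], []], [[1, 1], [], [1, 1, 0]], [[], [1, 0, 0], []]], [[[], []], [[], []]]]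

theorem chkS12 : chkS s12 = true := by decide +kernel

end Cfsg.Agent.Lib.Helper5.OT.D
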