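import Cfsg.Agent.Lib.Helper5.OT3

set_option autoImplicit false
set_option maxRecDepth 100000

/-! generated data: group R2_892 of order 42 and degree 9 -/

namespace Cfsg.Agent.Lib.Helper5.OT.D

/-- enumeration data -/
def e13 : EData where
  d := 9
  gens := [[1, 0, 5, 8, 4, 7, 3, 6, 2], [0, 1, 3, 5, 7, 2, 4, 6, 8]]
  Ls := [[0, 1, 2, 3, 4, 5, 6, 7, 8], [0, 1, 2, 4, 6, 8, 3, 5, 7], [0, 1, 2, 6, 3, 7, 4, 8, 5], [0, 1, 3, 4, 5, 6, 7, 8, 2], [0, 1, 3, 5, 7, 2, 4, 6, 8], [0, 1, 3, 7, 4, 8, 5, 2, 6], [0, 1, 4, 5, 6, 7, 8, 2, 3], [0, 1, 4, 6, 8, 3, 5, 7, 2], [0, 1, 4, 8, 5, 2, 6, 3, 7], [0, 1, 5, 2, 6, 3, 7, 4, 8], [0, 1, 5, 6, 7, 8, 2, 3, 4], [0, 1, 5, 7, 2, 4, 6, 8, 3], [0, 1, 6, 3, 7, 4, 8, 5, 2], [0, 1, 6, 7, 8, 2, 3, 4, 5], [0, 1, 6, 8, 3, 5, 7,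 2, 4], [0, 1, 7, 2, 4, 6, 8, 3, 5], [0, 1, 7, 4, 8, 5, 2, 6, 3], [0, 1, 7, 8, 2, 3, 4, 5, 6], [0, 1, 8, 2, 3, 4, 5, 6, 7], [0, 1, 8, 3, 5, 7, 2, 4, 6], [0, 1, 8, 5, 2, 6, 3, 7, 4], [1, 0, 2, 5, 8, 4, 7, 3, 6], [1, 0, 2, 7, 5, 3, 8, 6, 4], [1, 0, 2, 8, 7, 6, 5, 4, 3], [1, 0, 3, 2, 8, 7, 6, 5, 4], [1, 0, 3, 6, 2, 5, 8, 4, 7], [1, 0, 3, 8, 6, 4, 2, 7, 5], [1, 0, 4, 2, 7, 5, 3, 8, 6], [1, 0, 4, 3, 2, 8, 7, 6, 5], [1, 0, 4, 7, 3, 6, 2, 5, 8], [1, 0, 5, 3, 8, 6, 4, 2, 7], [1, 0, 5, 4, 3, 2, 8, 7, 6], [1, 0, 5, 8, 4, 7, 3, 6, 2], [1, 0, 6, 2, 5, 8, 4, 7, 3], [1, 0, 6, 4, 2, 7, 5, 3, 8], [1, 0, 6, 5, 4, 3, 2, 8, 7], [1, 0, 7, 3, 6, 2, 5, 8, 4], [1, 0, 7, 5, 3, 8, 6, 4, 2], [1, 0, 7, 6, 5, 4, 3, 2, 8], [1, 0, 8, 4, 7, 3, 6, 2, 5], [1, 0, 8, 6, 4, 2, 7, 5,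 3], [1, 0, 8, 7, 6, 5, 4, 3, 2]]
  nxt := [[32, 4], [31, 5], [30, 3], [39, 11], [41, 9], [40, 10], [29, 15], [28, 16], [27, 17], [37, 0], [36, 1], [38, 2], [26, 6], [25, 7], [24, 8], [35, 12], [34, 13], [33, 14], [21, 19], [23, 20], [22, 18], [11, 24], [10, 25], [9, 26], [20, 30], [19, 31], [18, 32], [6, 36], [8, 37], [7, 38], [17, 21], [16, 22], [15, 23], [4, 28], [3, 29], [5, 27], [14, 35], [13, 33], [12, 34], [1, 41], [0, 39], [2, 40]]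
  words := [[], [0, 1, 1, 0, 1], [0, 0, 1], [1, 0, 0, 1], [1], [0, 0, 0, 0], [1, 1, 0, 0], [1, 0, 0, 1, 1], [0, 1, 1, 0, 1, 1], [1, 1], [1, 0, 0, 0, 0], [1, 1, 0, 0, 1], [1, 0, 0], [0, 0, 1, 1], [0, 1, 1, 0, 0, 0], [0, 0], [1, 1, 0, 0, 1, 1], [0, 0, 0, 0, 1], [0, 1, 1, 0], [1, 0, 1, 1, 0], [1, 1, 0, 1, 1, 0], [0, 0, 1, 1, 0], [0, 1, 1, 0, 1, 1, 0], [1, 0], [1, 0, 0, 1, 1, 0], [0, 0, 0, 1, 1], [1, 1, 0], [1, 0, 0, 0], [1, 1, 0, 1, 1], [0, 1, 1, 0, 0], [0, 0, 0, 1], [0, 0, 1, 1, 0, 1], [0], [1, 0, 1, 1], [1, 1, 0, 1, 1, 0, 0], [0, 0, 0], [1, 1, 0, 0, 0], [0, 1, 1], [1, 0, 1, 1, 0, 0], [1, 1, 0, 1], [1, 0, 1], [0, 1]]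

/-- element orders -/
def ords13 : List ℕ := [1, 3, 3, 7, 3, 3, 7, 3, 3, 3, 7, 3, 3, 7, 3, 3, 3, 7, 7, 3, 3, 6, 6, 2, 2, 6, 6, 6, 2, 6, 6, 2, 6, 6, 6, 2, 6, 6, 2, 6, 6, 2]

theorem chk13 : chkAll e13 = true := by decide +kernel

theorem ord13 : e13.Ls.map (rord e13.d) = ords13 := by decide +kernel

theorem nz13 : ∀ k ∈ ords13, k ≠ 0 := by decide +kernel

theorem ex13 : ∀ k ∈ ords13, k ∣ 84 := by decide +kernel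

/-- solvable series data -/
def s13 : SData where
  d := 9
  series := [[[1, 0, 5, 8, 4, 7, 3, 6, 2], [0, 1, 3, 5, 7, 2, 4, 6, 8]], [[0, 1, 4, 5, 6, 7, 8, 2, 3]]]
  conjW := [[[([0, 0, 0], [0, 0, 0, 0, 0])], [([0, 0], [0, 0, 0, 0])]], [[]]]
  commW := [[[[], [0, 0, 0]], [[0, 0, 0, 0], []]], [[[]]]]

theorem chkS13 : chkS s13 = true := by decide +kernel

end Cfsg.Agent.Lib.Helper5.OT.D
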