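import Cfsg.Agent.Lib.Helper5.OT3

set_option autoImplicit false
set_option maxRecDepth 100000

/-! generated data: group R5_1442 of order 42 and degree 10 -/

namespace Cfsg.Agent.Lib.Helper5.OT.D

/-- enumeration data -/
def e14 : EData where
  d := 10
  gens := [[2, 1, 0, 9, 8, 7, 6, 5, 4, 3], [1, 2, 0, 7, 8, 9, 3, 4, 5, 6]]
  Ls := [[0, 1, 2, 3, 4, 5, 6, 7, 8, 9], [0, 1, 2, 4, 5, 6, 7, 8, 9, 3], [0, 1, 2, 5, 6, 7, 8, 9, 3, 4], [0, 1, 2, 6, 7, 8, 9, 3, 4, 5], [0, 1, 2, 7, 8, 9, 3, 4, 5, 6], [0, 1, 2, 8, 9, 3, 4, 5, 6, 7], [0, 1, 2, 9, 3, 4, 5, 6, 7, 8], [0, 2, 1, 3, 9, 8, 7, 6, 5, 4], [0, 2, 1, 4, 3, 9, 8, 7, 6, 5], [0, 2, 1, 5, 4, 3, 9, 8, 7, 6], [0, 2, 1, 6, 5, 4, 3, 9, 8, 7], [0, 2, 1, 7, 6, 5, 4, 3, 9, 8], [0, 2, 1, 8,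 7, 6, 5, 4, 3, 9], [0, 2, 1, 9, 8, 7, 6, 5, 4, 3], [1, 0, 2, 3, 9, 8, 7, 6, 5, 4], [1, 0, 2, 4, 3, 9, 8, 7, 6, 5], [1, 0, 2, 5, 4, 3, 9, 8, 7, 6], [1, 0, 2, 6, 5, 4, 3, 9, 8, 7], [1, 0, 2, 7, 6, 5, 4, 3, 9, 8], [1, 0, 2, 8, 7, 6, 5, 4, 3, 9], [1, 0, 2, 9, 8, 7, 6, 5, 4, 3], [1, 2, 0, 3, 4, 5, 6, 7, 8, 9], [1, 2, 0, 4, 5, 6, 7, 8, 9, 3], [1, 2, 0, 5, 6, 7, 8, 9, 3, 4], [1, 2, 0, 6, 7, 8, 9, 3, 4, 5], [1, 2, 0, 7, 8, 9, 3, 4, 5, 6], [1, 2, 0, 8, 9, 3, 4, 5, 6, 7], [1, 2, 0, 9, 3, 4, 5, 6, 7, 8], [2, 0, 1, 3, 4, 5, 6, 7, 8, 9], [2, 0, 1, 4, 5, 6, 7, 8, 9, 3], [2, 0, 1, 5, 6, 7, 8, 9, 3, 4], [2, 0, 1, 6, 7, 8, 9, 3, 4, 5], [2, 0, 1, 7, 8, 9, 3, 4, 5, 6], [2, 0, 1, 8, 9, 3, 4, 5, 6, 7], [2, 0, 1, 9, 3, 4, 5, 6, 7, 8], [2, 1, 0, 3,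 9, 8, 7, 6, 5, 4], [2, 1, 0, 4, 3, 9, 8, 7, 6, 5], [2, 1, 0, 5, 4, 3, 9, 8, 7, 6], [2, 1, 0, 6, 5, 4, 3, 9, 8, 7], [2, 1, 0, 7, 6, 5, 4, 3, 9, 8], [2, 1, 0, 8, 7, 6, 5, 4, 3, 9], [2, 1, 0, 9, 8, 7, 6, 5, 4, 3]]
  nxt := [[41, 25], [40, 26], [39, 27], [38, 21], [37, 22], [36, 23], [35, 24], [34, 18], [33, 19], [32, 20], [31, 14], [30, 15], [29, 16], [28, 17], [27, 39], [26, 40], [25, 41], [24, 35], [23, 36], [22, 37], [21, 38], [20, 32], [19, 33], [18, 34], [17, 28], [16, 29], [15, 30], [14, 31], [13, 4], [12, 5], [11, 6], [10, 0], [9, 1], [8, 2], [7, 3], [6, 11], [5, 12], [4, 13], [3, 7], [2, 8], [1, 9], [0, 10]]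
  words := [[], [1, 1, 1, 1, 1, 1, 1, 1, 1], [0, 1, 1, 1, 0], [1, 1, 1, 1, 1, 1], [0, 1, 1, 1, 1, 1, 1, 0], [1, 1, 1], [0, 1, 1, 1, 1, 1, 1, 1, 1, 1, 0], [0, 1, 1, 1, 1, 1], [1, 1, 1, 1, 0], [0, 1, 1, 1, 1, 1, 1, 1, 1], [1, 0], [1, 1, 1, 1, 1, 1, 1, 1, 1, 1, 0], [0, 1, 1], [1, 1, 1, 1, 1, 1, 1, 0], [1, 1, 0], [0, 1, 1, 1, 1, 1, 1, 1, 1, 1, 1], [0, 1], [1, 1, 1, 1, 1, 1, 1, 1, 0], [0, 1, 1, 1, 1], [1, 1, 1, 1, 1, 0], [0, 1, 1, 1, 1, 1, 1, 1], [1, 1, 1, 1, 1, 1, 1], [0, 1, 1, 1, 1, 1, 0], [1, 1, 1, 1], [0, 1, 1, 1, 1, 1, 1, 1, 1, 0], [1], [1, 1, 1, 1, 1, 1, 1, 1, 1, 1], [0, 1, 1, 0], [0, 1, 1, 1, 1, 1, 1, 1, 0], [1, 1], [1, 1, 1, 1, 1, 1, 1, 1, 1, 1, 1], [0, 1, 0], [1, 1, 1, 1, 1, 1, 1, 1], [0, 1, 1, 1, 1, 0], [1, 1, 1, 1, 1],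 [1, 1, 1, 1, 1, 1, 1, 1, 1, 0], [0, 1, 1, 1], [1, 1, 1, 1, 1, 1, 0], [0, 1, 1, 1, 1, 1, 1], [1, 1, 1, 0], [0, 1, 1, 1, 1, 1, 1, 1, 1, 1], [0]]

/-- element orders -/
def ords14 : List ℕ := [1, 7, 7, 7, 7, 7, 7, 2, 2, 2, 2, 2, 2, 2, 2, 2, 2, 2, 2, 2, 2, 3, 21, 21, 21, 21, 21, 21, 3, 21, 21, 21, 21, 21, 21, 2, 2, 2, 2, 2, 2, 2]

theorem chk14 : chkAll e14 = true := by decide +kernel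

theorem ord14 : e14.Ls.map (rord e14.d) = ords14 := by decide +kernel

theorem nz14 : ∀ k ∈ ords14, k ≠ 0 := by decide +kernel

theorem ex14 : ∀ k ∈ ords14, k ∣ 84 := by decide +kernel

/-- solvable series data -/
def s14 : SData where
  d := 10
  series := [[[2, 1, 0, 9, 8, 7, 6, 5, 4, 3], [1, 2, 0, 7, 8, 9, 3, 4, 5, 6]], [[1, 2, 0, 7, 8, 9, 3, 4, 5, 6]]]
  conjW := [[[([0, 0, 0, 0, 0, 0, 0, 0, 0, 0, 0, 0, 0, 0, 0, 0, 0, 0, 0, 0], [0, 0, 0, 0, 0, 0, 0, 0, 0, 0, 0, 0, 0, 0, 0, 0, 0, 0, 0, 0])], [([0], [0])]], [[]]]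
  commW := [[[[], [0, 0, 0, 0, 0, 0, 0, 0, 0, 0, 0, 0, 0, 0, 0, 0, 0, 0, 0]], [[0, 0], []]], [[[]]]]

theorem chkS14 : chkS s14 = true := by decide +kernel

end Cfsg.Agent.Lib.Helper5.OT.D
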