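import Cfsg.Agent.Lib.Helper5.OT3

set_option autoImplicit false
set_option maxRecDepth 100000

/-! generated data: group R11_4090 of order 56 and degree 11 -/

namespace Cfsg.Agent.Lib.Helper5.OT.D

/-- enumeration data -/
def e15 : EData where
  d := 11
  gens := [[2, 1, 0, 6, 5, 4, 3, 7, 10, 9, 8], [2, 3, 4, 5, 6, 0, 1, 8, 7, 10, 9]]
  Ls := [[0, 1, 2, 3, 4, 5, 6, 7, 8, 9, 10], [0, 1, 2, 3, 4, 5, 6, 8, 7, 10, 9], [0, 1, 2, 3, 4, 5, 6, 9, 10, 7, 8], [0, 1, 2, 3, 4, 5, 6, 10, 9, 8, 7], [0, 6, 5, 4, 3, 2, 1, 7, 10, 9, 8], [0, 6, 5, 4, 3, 2, 1, 8, 9, 10, 7], [0, 6, 5, 4, 3, 2, 1, 9, 8, 7, 10], [0, 6, 5, 4, 3, 2, 1, 10, 7, 8, 9], [1, 0, 6, 5, 4, 3, 2, 7, 10, 9, 8], [1, 0, 6, 5, 4, 3, 2, 8, 9, 10, 7], [1, 0, 6, 5, 4, 3, 2, 9, 8,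 7, 10], [1, 0, 6, 5, 4, 3, 2, 10, 7, 8, 9], [1, 2, 3, 4, 5, 6, 0, 7, 8, 9, 10], [1, 2, 3, 4, 5, 6, 0, 8, 7, 10, 9], [1, 2, 3, 4, 5, 6, 0, 9, 10, 7, 8], [1, 2, 3, 4, 5, 6, 0, 10, 9, 8, 7], [2, 1, 0, 6, 5, 4, 3, 7, 10, 9, 8], [2, 1, 0, 6, 5, 4, 3, 8, 9, 10, 7], [2, 1, 0, 6, 5, 4, 3, 9, 8, 7, 10], [2, 1, 0, 6, 5, 4, 3, 10, 7, 8, 9], [2, 3, 4, 5, 6, 0, 1, 7, 8, 9, 10], [2, 3, 4, 5, 6, 0, 1, 8, 7, 10, 9], [2, 3, 4, 5, 6, 0, 1, 9, 10, 7, 8], [2, 3, 4, 5, 6, 0, 1, 10, 9, 8, 7], [3, 2, 1, 0, 6, 5, 4, 7, 10, 9, 8], [3, 2, 1, 0, 6, 5, 4, 8, 9, 10, 7], [3, 2, 1, 0, 6, 5, 4, 9, 8, 7, 10], [3, 2, 1, 0, 6, 5, 4, 10, 7, 8, 9], [3, 4, 5, 6, 0, 1, 2, 7, 8, 9, 10], [3, 4, 5, 6, 0, 1, 2, 8, 7, 10, 9], [3, 4, 5, 6, 0, 1, 2, 9, 10, 7, 8], [3, 4,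 5, 6, 0, 1, 2, 10, 9, 8, 7], [4, 3, 2, 1, 0, 6, 5, 7, 10, 9, 8], [4, 3, 2, 1, 0, 6, 5, 8, 9, 10, 7], [4, 3, 2, 1, 0, 6, 5, 9, 8, 7, 10], [4, 3, 2, 1, 0, 6, 5, 10, 7, 8, 9], [4, 5, 6, 0, 1, 2, 3, 7, 8, 9, 10], [4, 5, 6, 0, 1, 2, 3, 8, 7, 10, 9], [4, 5, 6, 0, 1, 2, 3, 9, 10, 7, 8], [4, 5, 6, 0, 1, 2, 3, 10, 9, 8, 7], [5, 4, 3, 2, 1, 0, 6, 7, 10, 9, 8], [5, 4, 3, 2, 1, 0, 6, 8, 9, 10, 7], [5, 4, 3, 2, 1, 0, 6, 9, 8, 7, 10], [5, 4, 3, 2, 1, 0, 6, 10, 7, 8, 9], [5, 6, 0, 1, 2, 3, 4, 7, 8, 9, 10], [5, 6, 0, 1, 2, 3, 4, 8, 7, 10, 9], [5, 6, 0, 1, 2, 3, 4, 9, 10, 7, 8], [5, 6, 0, 1, 2, 3, 4, 10, 9, 8, 7], [6, 0, 1, 2, 3, 4, 5, 7, 8, 9, 10], [6, 0, 1, 2, 3, 4, 5, 8, 7, 10, 9], [6, 0, 1, 2, 3, 4, 5, 9, 10, 7, 8], [6, 0, 1, 2, 3, 4, 5,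 10, 9, 8, 7], [6, 5, 4, 3, 2, 1, 0, 7, 10, 9, 8], [6, 5, 4, 3, 2, 1, 0, 8, 9, 10, 7], [6, 5, 4, 3, 2, 1, 0, 9, 8, 7, 10], [6, 5, 4, 3, 2, 1, 0, 10, 7, 8, 9]]
  nxt := [[16, 21], [19, 20], [18, 23], [17, 22], [20, 17], [23, 16], [22, 19], [21, 18], [12, 25], [15, 24], [14, 27], [13, 26], [8, 29], [11, 28], [10, 31], [9, 30], [0, 33], [3, 32], [2, 35], [1, 34], [4, 37], [7, 36], [6, 39], [5, 38], [48, 41], [51, 40], [50, 43], [49, 42], [52, 45], [55, 44], [54, 47], [53, 46], [44, 53], [47, 52], [46, 55], [45, 54], [40, 49], [43, 48], [42, 51], [41, 50], [36, 5], [39, 4], [38, 7], [37, 6], [32, 1], [35, 0], [34, 3], [33, 2], [24, 13], [27, 12], [26, 15], [25, 14], [28, 9], [31, 8], [30, 11], [29, 10]]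
  words := [[], [1, 1, 1, 1, 1, 1, 1], [1, 0, 1, 0], [0, 1, 1, 1, 1, 1, 1, 1, 0], [1, 1, 1, 1, 1, 1, 0], [1, 0, 1, 1], [1, 1, 1, 1, 1, 1, 1, 0, 1], [0, 1], [0, 1, 1, 1, 1], [1, 1, 1, 0], [1, 0, 1, 1, 1, 1, 1], [1, 1, 1, 1, 0, 1], [1, 1, 1, 1], [1, 0, 1, 1, 1, 1, 0], [1, 1, 1, 1, 1, 0, 1, 0], [0, 1, 1, 1, 0], [0], [1, 1, 1, 1, 1, 1, 1, 0], [1, 0, 1], [0, 1, 1, 1, 1, 1, 1, 1], [0, 1, 1, 1, 1, 1, 1, 0], [1], [1, 0, 1, 1, 1, 1, 1, 1, 1, 0], [1, 1, 0, 1, 0], [1, 1, 1, 1, 0], [1, 0, 1, 1, 1, 1], [1, 1, 1, 1, 1, 0, 1], [0, 1, 1, 1], [0, 1, 1, 0], [1, 1, 1, 1, 1], [1, 0, 1, 1, 1, 0], [1, 1, 1, 1, 1, 1, 0, 1, 0], [0, 1, 1, 1, 1, 1, 1], [1, 0], [1, 0, 1, 1, 1, 1, 1, 1, 1], [1, 1, 0, 1], [1, 1], [1, 0, 1, 1, 1, 1, 1, 1, 0], [1, 1, 1, 0,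 1, 0], [0, 1, 1, 1, 1, 1, 0], [0, 1, 1], [1, 1, 1, 1, 1, 0], [1, 0, 1, 1, 1], [1, 1, 1, 1, 1, 1, 0, 1], [1, 1, 1, 1, 1, 1], [1, 0, 1, 1, 0], [1, 1, 1, 1, 1, 1, 1, 0, 1, 0], [0, 1, 0], [0, 1, 1, 1, 1, 0], [1, 1, 1], [1, 0, 1, 1, 1, 1, 1, 0], [1, 1, 1, 1, 0, 1, 0], [1, 1, 0], [1, 0, 1, 1, 1, 1, 1, 1], [1, 1, 1, 0, 1], [0, 1, 1, 1, 1, 1]]

/-- element orders -/
def ords15 : List ℕ := [1, 2, 2, 2, 2, 4, 2, 4, 2, 4, 2, 4, 7, 14, 14, 14, 2, 4, 2, 4, 7, 14, 14, 14, 2, 4, 2, 4, 7, 14, 14, 14, 2, 4, 2, 4, 7, 14, 14, 14, 2, 4, 2, 4, 7, 14, 14, 14, 7, 14, 14, 14, 2, 4, 2, 4]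

theorem chk15 : chkAll e15 = true := by decide +kernel

theorem ord15 : e15.Ls.map (rord e15.d) = ords15 := by decide +kernel

theorem nz15 : ∀ k ∈ ords15, k ≠ 0 := by decide +kernel

theorem ex15 : ∀ k ∈ ords15, k ∣ 84 := by decide +kernel

/-- solvable series data -/
def s15 : SData where
  d := 11
  series := [[[2, 1, 0, 6, 5, 4, 3, 7, 10, 9, 8], [2, 3, 4, 5, 6, 0, 1, 8, 7, 10, 9]], [[5, 6, 0, 1, 2, 3, 4, 9, 10, 7, 8]]]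
  conjW := [[[([0, 0, 0, 0, 0, 0, 0, 0, 0, 0, 0, 0, 0], [0, 0, 0, 0, 0, 0, 0, 0, 0, 0, 0, 0, 0])], [([0], [0])]], [[]]]
  commW := [[[[], [0, 0, 0, 0, 0, 0, 0, 0, 0]], [[0, 0, 0, 0, 0], []]], [[[]]]]

theorem chkS15 : chkS s15 = true := by decide +kernel

end Cfsg.Agent.Lib.Helper5.OT.D
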