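import Cfsg.Agent.Lib.Helper5.OT3

set_option autoImplicit false
set_option maxRecDepth 100000

/-! generated data: group R2_4612 of order 56 and degree 11 -/

namespace Cfsg.Agent.Lib.Helper5.OT.D

/-- enumeration data -/
def e16 : EData where
  d := 11
  gens := [[3, 2, 1, 0, 8, 7, 6, 5, 4, 10, 9], [1, 2, 3, 0, 5, 6, 7, 8, 9, 10, 4], [0, 3, 2, 1, 6, 5, 4, 10, 9, 8, 7]]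
  Ls := [[0, 1, 2, 3, 4, 5, 6, 7, 8, 9, 10], [0, 1, 2, 3, 5, 6, 7, 8, 9, 10, 4], [0, 1, 2, 3, 6, 7, 8, 9, 10, 4, 5], [0, 1, 2, 3, 7, 8, 9, 10, 4, 5, 6], [0, 1, 2, 3, 8, 9, 10, 4, 5, 6, 7], [0, 1, 2, 3, 9, 10, 4, 5, 6, 7, 8], [0, 1, 2, 3, 10, 4, 5, 6, 7, 8, 9], [0, 3, 2, 1, 4, 10, 9, 8, 7, 6, 5], [0, 3, 2, 1, 5, 4, 10, 9, 8, 7, 6], [0, 3, 2, 1, 6, 5, 4, 10, 9, 8, 7], [0, 3, 2, 1, 7, 6, 5, 4, 10, 9, 8], [0, 3, 2, 1, 8, 7, 6, 5, 4, 10, 9], [0, 3, 2, 1, 9, 8, 7, 6, 5, 4, 10], [0, 3, 2, 1, 10, 9, 8, 7, 6, 5, 4], [1, 0, 3, 2, 4, 10, 9, 8, 7, 6, 5], [1, 0, 3, 2, 5, 4, 10, 9, 8, 7, 6], [1, 0, 3, 2, 6, 5, 4, 10, 9, 8, 7], [1, 0, 3, 2, 7, 6, 5, 4, 10, 9, 8], [1, 0, 3, 2, 8, 7, 6, 5, 4, 10, 9], [1, 0, 3, 2, 9, 8, 7, 6, 5, 4, 10], [1, 0, 3, 2,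 10, 9, 8, 7, 6, 5, 4], [1, 2, 3, 0, 4, 5, 6, 7, 8, 9, 10], [1, 2, 3, 0, 5, 6, 7, 8, 9, 10, 4], [1, 2, 3, 0, 6, 7, 8, 9, 10, 4, 5], [1, 2, 3, 0, 7, 8, 9, 10, 4, 5, 6], [1, 2, 3, 0, 8, 9, 10, 4, 5, 6, 7], [1, 2, 3, 0, 9, 10, 4, 5, 6, 7, 8], [1, 2, 3, 0, 10, 4, 5, 6, 7, 8, 9], [2, 1, 0, 3, 4, 10, 9, 8, 7, 6, 5], [2, 1, 0, 3, 5, 4, 10, 9, 8, 7, 6], [2, 1, 0, 3, 6, 5, 4, 10, 9, 8, 7], [2, 1, 0, 3, 7, 6, 5, 4, 10, 9, 8], [2, 1, 0, 3, 8, 7, 6, 5, 4, 10, 9], [2, 1, 0, 3, 9, 8, 7, 6, 5, 4, 10], [2, 1, 0, 3, 10, 9, 8, 7, 6, 5, 4], [2, 3, 0, 1, 4, 5, 6, 7, 8, 9, 10], [2, 3, 0, 1, 5, 6, 7, 8, 9, 10, 4], [2, 3, 0, 1, 6, 7, 8, 9, 10, 4, 5], [2, 3, 0, 1, 7, 8, 9, 10, 4, 5, 6], [2, 3, 0, 1, 8, 9, 10, 4, 5, 6, 7], [2, 3, 0, 1, 9, 10, 4, 5, 6, 7, 8],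 [2, 3, 0, 1, 10, 4, 5, 6, 7, 8, 9], [3, 0, 1, 2, 4, 5, 6, 7, 8, 9, 10], [3, 0, 1, 2, 5, 6, 7, 8, 9, 10, 4], [3, 0, 1, 2, 6, 7, 8, 9, 10, 4, 5], [3, 0, 1, 2, 7, 8, 9, 10, 4, 5, 6], [3, 0, 1, 2, 8, 9, 10, 4, 5, 6, 7], [3, 0, 1, 2, 9, 10, 4, 5, 6, 7, 8], [3, 0, 1, 2, 10, 4, 5, 6, 7, 8, 9], [3, 2, 1, 0, 4, 10, 9, 8, 7, 6, 5], [3, 2, 1, 0, 5, 4, 10, 9, 8, 7, 6], [3, 2, 1, 0, 6, 5, 4, 10, 9, 8, 7], [3, 2, 1, 0, 7, 6, 5, 4, 10, 9, 8], [3, 2, 1, 0, 8, 7, 6, 5, 4, 10, 9], [3, 2, 1, 0, 9, 8, 7, 6, 5, 4, 10], [3, 2, 1, 0, 10, 9, 8, 7, 6, 5, 4]]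
  nxt := [[53, 22, 9], [52, 23, 8], [51, 24, 7], [50, 25, 13], [49, 26, 12], [55, 27, 11], [54, 21, 10], [46, 15, 2], [45, 16, 1], [44, 17, 0], [43, 18, 6], [42, 19, 5], [48, 20, 4], [47, 14, 3], [39, 29, 44], [38, 30, 43], [37, 31, 42], [36, 32, 48], [35, 33, 47], [41, 34, 46], [40, 28, 45], [32, 36, 51], [31, 37, 50], [30, 38, 49], [29, 39, 55], [28, 40, 54], [34, 41, 53], [33, 35, 52], [25, 50, 37], [24, 51, 36], [23, 52, 35], [22, 53, 41], [21, 54, 40], [27, 55, 39], [26, 49, 38], [18, 43, 30], [17, 44, 29], [16, 45, 28], [15, 46, 34], [14, 47, 33], [20, 48, 32], [19, 42, 31], [11, 1, 16], [10, 2, 15], [9, 3, 14], [8, 4, 20], [7, 5, 19], [13, 6, 18], [12, 0, 17], [4, 8, 23], [3, 9, 22], [2, 10, 21], [1, 11, 27], [0, 12, 26], [6,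 13, 25], [5, 7, 24]]
  words := [[], [1, 1, 1, 2, 0], [0, 1, 1, 2, 0, 2], [0, 2, 1], [2, 1, 0], [1, 1, 2, 0, 2, 0], [0, 1, 1, 1, 2], [0, 1, 2, 0, 2, 0], [0, 1, 1, 1], [2], [1, 1, 1, 2, 0, 2], [0, 1, 1, 2, 0], [1, 0], [2, 0, 2, 1], [2, 0, 2], [0, 2, 0, 2, 0], [0, 1, 1], [1, 2], [2, 0, 2, 0, 2, 1], [0, 1, 2, 0], [1, 1, 0], [0, 1, 1, 2], [1], [2, 0, 2, 1, 0], [0, 1, 2, 0, 2], [0, 2, 1, 1], [2, 0], [0, 2, 0, 2, 0, 2], [2, 1, 1], [1, 2, 0, 2], [0, 2, 0, 2, 1, 0], [0, 1], [1, 1, 2], [2, 0, 2, 0, 2], [0, 2, 0], [2, 0, 2, 0, 2, 1, 0], [0, 1, 2], [1, 1], [2, 0, 2, 0], [0, 2, 0, 2], [0, 1, 1, 0], [1, 2, 0], [1, 1, 2, 0], [2, 0, 2, 0, 2, 0], [0, 2], [1, 1, 1], [1, 2, 0, 2, 0], [0, 2, 0, 2, 1], [0, 1, 0], [0, 2, 1, 0], [2, 1], [1, 1, 2, 0, 2],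 [0, 1, 1, 1, 2, 0], [0], [1, 1, 1, 2], [1, 2, 0, 2, 0, 2]]

/-- element orders -/
def ords16 : List ℕ := [1, 7, 7, 7, 7, 7, 7, 2, 2, 2, 2, 2, 2, 2, 2, 2, 2, 2, 2, 2, 2, 4, 28, 28, 28, 28, 28, 28, 2, 2, 2, 2, 2, 2, 2, 2, 14, 14, 14, 14, 14, 14, 4, 28, 28, 28, 28, 28, 28, 2, 2, 2, 2, 2, 2, 2]

theorem chk16 : chkAll e16 = true := by decide +kernel

theorem ord16 : e16.Ls.map (rord e16.d) = ords16 := by decide +kernel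

theorem nz16 : ∀ k ∈ ords16, k ≠ 0 := by decide +kernel

theorem ex16 : ∀ k ∈ ords16, k ∣ 84 := by decide +kernel

/-- solvable series data -/
def s16 : SData where
  d := 11
  series := [[[3, 2, 1, 0, 8, 7, 6, 5, 4, 10, 9], [1, 2, 3, 0, 5, 6, 7, 8, 9, 10, 4], [0, 3, 2, 1, 6, 5, 4, 10, 9, 8, 7]], [[2, 3, 0, 1, 5, 6, 7, 8, 9, 10, 4]]]
  conjW := [[[([0, 0, 0, 0, 0, 0, 0, 0, 0, 0, 0, 0, 0], [0, 0, 0, 0, 0, 0, 0, 0, 0, 0, 0, 0, 0])], [([0], [0])], [([0, 0, 0, 0, 0, 0, 0, 0, 0, 0, 0, 0, 0], [0, 0, 0, 0, 0, 0, 0, 0, 0, 0, 0, 0, 0])]], [[]]]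
  commW := [[[[], [0, 0, 0, 0, 0], [0, 0, 0, 0, 0, 0, 0, 0, 0, 0, 0]], [[0, 0, 0, 0, 0, 0, 0, 0, 0], [], [0, 0, 0, 0, 0, 0, 0, 0, 0]], [[0, 0, 0], [0, 0, 0, 0, 0], []]], [[[]]]]

theorem chkS16 : chkS s16 = true := by decide +kernel

end Cfsg.Agent.Lib.Helper5.OT.D
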