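import Cfsg.Agent.Lib.Helper5.OT3

set_option autoImplicit false
set_option maxRecDepth 100000

/-! generated data: group R11_12471 of order 72 and degree 7 -/

namespace Cfsg.Agent.Lib.Helper5.OT.D

/-- enumeration data -/
def e17 : EData where
  d := 7
  gens := [[2, 1, 0, 3, 4, 6, 5], [0, 2, 3, 1, 5, 6, 4], [2, 0, 3, 1, 5, 4, 6]]
  Ls := [[0, 1, 2, 3, 4, 5, 6], [0, 1, 2, 3, 5, 6, 4], [0, 1, 2, 3, 6, 4, 5], [0, 1, 3, 2, 4, 6, 5], [0, 1, 3, 2, 5, 4, 6], [0, 1, 3, 2, 6, 5, 4], [0, 2, 1, 3, 4, 6, 5], [0, 2, 1, 3, 5, 4, 6], [0, 2, 1, 3, 6, 5, 4], [0, 2, 3, 1, 4, 5, 6], [0, 2, 3, 1, 5, 6, 4], [0, 2, 3, 1, 6, 4, 5], [0, 3, 1, 2, 4, 5, 6], [0, 3, 1, 2, 5, 6, 4], [0, 3, 1, 2, 6, 4, 5], [0, 3, 2, 1, 4, 6, 5], [0, 3, 2, 1, 5, 4, 6], [0, 3, 2, 1, 6, 5, 4], [1,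 0, 2, 3, 4, 6, 5], [1, 0, 2, 3, 5, 4, 6], [1, 0, 2, 3, 6, 5, 4], [1, 0, 3, 2, 4, 5, 6], [1, 0, 3, 2, 5, 6, 4], [1, 0, 3, 2, 6, 4, 5], [1, 2, 0, 3, 4, 5, 6], [1, 2, 0, 3, 5, 6, 4], [1, 2, 0, 3, 6, 4, 5], [1, 2, 3, 0, 4, 6, 5], [1, 2, 3, 0, 5, 4, 6], [1, 2, 3, 0, 6, 5, 4], [1, 3, 0, 2, 4, 6, 5], [1, 3, 0, 2, 5, 4, 6], [1, 3, 0, 2, 6, 5, 4], [1, 3, 2, 0, 4, 5, 6], [1, 3, 2, 0, 5, 6, 4], [1, 3, 2, 0, 6, 4, 5], [2, 0, 1, 3, 4, 5, 6], [2, 0, 1, 3, 5, 6, 4], [2, 0, 1, 3, 6, 4, 5], [2, 0, 3, 1, 4, 6, 5], [2, 0, 3, 1, 5, 4, 6], [2, 0, 3, 1, 6, 5, 4], [2, 1, 0, 3, 4, 6, 5], [2, 1, 0, 3, 5, 4, 6], [2, 1, 0, 3, 6, 5, 4], [2, 1, 3, 0, 4, 5, 6], [2, 1, 3, 0, 5, 6, 4], [2, 1, 3, 0, 6, 4, 5], [2, 3, 0, 1, 4, 5, 6], [2, 3, 0, 1, 5, 6, 4], [2, 3, 0, 1, 6, 4, 5], [2,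 3, 1, 0, 4, 6, 5], [2, 3, 1, 0, 5, 4, 6], [2, 3, 1, 0, 6, 5, 4], [3, 0, 1, 2, 4, 6, 5], [3, 0, 1, 2, 5, 4, 6], [3, 0, 1, 2, 6, 5, 4], [3, 0, 2, 1, 4, 5, 6], [3, 0, 2, 1, 5, 6, 4], [3, 0, 2, 1, 6, 4, 5], [3, 1, 0, 2, 4, 5, 6], [3, 1, 0, 2, 5, 6, 4], [3, 1, 0, 2, 6, 4, 5], [3, 1, 2, 0, 4, 6, 5], [3, 1, 2, 0, 5, 4, 6], [3, 1, 2, 0, 6, 5, 4], [3, 2, 0, 1, 4, 6, 5], [3, 2, 0, 1, 5, 4, 6], [3, 2, 0, 1, 6, 5, 4], [3, 2, 1, 0, 4, 5, 6], [3, 2, 1, 0, 5, 6, 4], [3, 2, 1, 0, 6, 4, 5]]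
  nxt := [[42, 10, 40], [44, 11, 39], [43, 9, 41], [45, 7, 37], [47, 8, 36], [46, 6, 38], [36, 16, 49], [38, 17, 48], [37, 15, 50], [39, 13, 52], [41, 14, 51], [40, 12, 53], [51, 1, 43], [53, 2, 42], [52, 0, 44], [48, 4, 46], [50, 5, 45], [49, 3, 47], [24, 40, 10], [26, 41, 9], [25, 39, 11], [27, 37, 7], [29, 38, 6], [28, 36, 8], [18, 49, 16], [20, 50, 15], [19, 48, 17], [21, 52, 13], [23, 53, 12], [22, 51, 14], [33, 43, 1], [35, 44, 0], [34, 42, 2], [30, 46, 4], [32, 47, 3], [31, 45, 5], [6, 58, 67], [8, 59, 66], [7, 57, 68], [9, 55, 70], [11, 56, 69], [10, 54, 71], [0, 67, 58], [2, 68, 57], [1, 66, 59], [3, 70, 55], [5, 71, 54], [4, 69, 56], [15, 61, 64], [17, 62, 63], [16, 60, 65], [12, 64, 61], [14, 65, 60], [13, 63, 62], [69, 19, 25], [71, 20,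 24], [70, 18, 26], [66, 22, 28], [68, 23, 27], [67, 21, 29], [63, 25, 19], [65, 26, 18], [64, 24, 20], [60, 28, 22], [62, 29, 21], [61, 27, 23], [57, 31, 34], [59, 32, 33], [58, 30, 35], [54, 34, 31], [56, 35, 30], [55, 33, 32]]
  words := [[], [0, 2, 1, 1], [2, 1, 1, 0], [2, 1, 2, 2], [2, 2, 1, 0], [0, 1, 2, 1, 0], [0, 1, 1, 2, 0], [2, 1, 0, 1, 0], [2, 1, 2, 0], [1, 2, 1, 1, 0], [1], [0, 2], [0, 2, 1], [2, 2, 2, 0], [1, 1], [1, 2, 1, 2, 0], [2, 0, 1, 1, 2], [2, 2, 1, 2], [1, 1, 2], [1, 1, 0, 1], [0, 2, 1, 0, 1], [1, 0, 1, 0], [0, 2, 0, 1, 0], [1, 2, 0], [0, 1, 1, 2], [2, 1, 0, 1], [2, 1, 2], [2, 2, 0], [0, 1, 2, 0], [2, 0, 1, 0], [0, 2, 1, 0], [2, 2, 2], [1, 1, 0], [2, 1, 0], [1, 2, 2], [2, 0, 2, 0], [1, 1, 2, 0], [1, 1, 0, 1, 0], [0, 2, 1, 0, 1, 0],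 [2, 0, 2, 1, 1], [2], [0, 1], [0], [2, 0, 2, 1], [2, 1, 1], [1, 2, 0, 2, 0], [1, 2, 1, 0], [1, 1, 2, 2], [1, 2, 1, 2], [1, 0, 1, 1, 2], [2, 2, 1, 2, 0], [2, 1], [0, 1, 1], [2, 0, 2], [1, 0, 1], [0, 2, 0, 1], [1, 2], [0, 1, 2, 1, 1], [2, 0], [0, 1, 0], [2, 0, 1, 1], [2, 2, 1], [0, 1, 2, 1], [1, 2, 0, 2], [1, 2, 1], [1, 0, 1, 1], [1, 2, 1, 1], [1, 0], [0, 2, 0], [2, 2], [0, 1, 2], [2, 0, 1]]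

/-- element orders -/
def ords17 : List ℕ := [1, 3, 3, 2, 2, 2, 2, 2, 2, 3, 3, 3, 3, 3, 3, 2, 2, 2, 2, 2, 2, 2, 6, 6, 3, 3, 3, 4, 4, 4, 4, 4, 4, 3, 3, 3, 3, 3, 3, 4, 4, 4, 2, 2, 2, 3, 3, 3, 2, 6, 6, 4, 4, 4, 4, 4, 4, 3, 3, 3, 3, 3, 3, 2, 2, 2, 4, 4, 4, 2, 6, 6]

theorem chk17 : chkAll e17 = true := by decide +kernel

theorem ord17 : e17.Ls.map (rord e17.d) = ords17 := by decide +kernel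

theorem nz17 : ∀ k ∈ ords17, k ≠ 0 := by decide +kernel

theorem ex17 : ∀ k ∈ ords17, k ∣ 84 := by decide +kernel

/-- solvable series data -/
def s17 : SData where
  d := 7
  series := [[[2, 1, 0, 3, 4, 6, 5], [0, 2, 3, 1, 5, 6, 4], [2, 0, 3, 1, 5, 4, 6]], [[3, 2, 1, 0, 6, 4, 5], [1, 2, 0, 3, 6, 4, 5]], [[2, 3, 0, 1, 4, 5, 6], [3, 2, 1, 0, 4, 5, 6]]]
  conjW := [[[([1, 0, 1, 1, 0], [1, 0, 1, 1, 0]), ([1, 1], [1, 1])], [([1, 1, 0, 1], [1, 0, 1, 1]), ([0, 1, 0, 0], [1, 0, 0, 0])], [([0, 0, 0, 0, 0], [0, 0, 0, 0, 0]), ([1, 1, 0, 0, 0], [0, 1, 1, 0, 0])]], [[([0], [0]), ([1], [1])], [([1, 0], [1]), ([0], [1, 0])]], [[], []]]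
  commW := [[[[], [1, 1, 0, 0, 0], [0, 1]], [[0, 1, 0, 0], [], [0, 1, 0, 0]], [[0, 1, 0, 1], [1, 1, 0, 0, 0], []]], [[[], [1, 0]], [[1, 0], []]], [[[], []], [[], []]]]

theorem chkS17 : chkS s17 = true := by decide +kernel

end Cfsg.Agent.Lib.Helper5.OT.D
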