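import Cfsg.Agent.Lib.Helper5.OT3

set_option autoImplicit false
set_option maxRecDepth 100000

/-! generated data: group R11_402 of order 84 and degree 11 -/

namespace Cfsg.Agent.Lib.Helper5.OT.D

/-- enumeration data -/
def e18 : EData where
  d := 11
  gens := [[0, 1, 2, 3, 6, 7, 8, 9, 10, 4, 5], [3, 0, 1, 2, 6, 9, 5, 8, 4, 7, 10]]
  Ls := [[0, 1, 2, 3, 4, 5, 6, 7, 8, 9, 10], [0, 1, 2, 3, 4, 6, 8, 10, 5, 7, 9], [0, 1, 2, 3, 4, 8, 5, 9, 6, 10, 7], [0, 1, 2, 3, 5, 6, 7, 8, 9, 10, 4], [0, 1, 2, 3, 5, 7, 9, 4, 6, 8, 10], [0, 1, 2, 3, 5, 9, 6, 10, 7, 4, 8], [0, 1, 2, 3, 6, 7, 8, 9, 10, 4, 5], [0, 1, 2, 3, 6, 8, 10, 5, 7, 9, 4], [0, 1, 2, 3, 6, 10, 7, 4, 8, 5, 9], [0, 1, 2, 3, 7, 4, 8, 5, 9, 6, 10], [0, 1, 2, 3,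 7, 8, 9, 10, 4, 5, 6], [0, 1, 2, 3, 7, 9, 4, 6, 8, 10, 5], [0, 1, 2, 3, 8, 5, 9, 6, 10, 7, 4], [0, 1, 2, 3, 8, 9, 10, 4, 5, 6, 7], [0, 1, 2, 3, 8, 10, 5, 7, 9, 4, 6], [0, 1, 2, 3, 9, 4, 6, 8, 10, 5, 7], [0, 1, 2, 3, 9, 6, 10, 7, 4, 8, 5], [0, 1, 2, 3, 9, 10, 4, 5, 6, 7, 8], [0, 1, 2, 3, 10, 4, 5, 6, 7, 8, 9], [0, 1, 2, 3, 10, 5, 7, 9, 4, 6, 8], [0, 1, 2, 3, 10, 7, 4, 8, 5, 9, 6], [1, 2, 3, 0, 4, 7, 10, 6, 9, 5, 8], [1, 2, 3, 0, 4, 9, 7, 5, 10, 8, 6], [1, 2, 3, 0, 4, 10, 9, 8, 7, 6, 5], [1, 2, 3, 0, 5, 4, 10, 9, 8, 7, 6], [1, 2, 3, 0, 5, 8, 4, 7, 10, 6, 9], [1, 2, 3, 0, 5, 10, 8, 6, 4, 9, 7], [1, 2, 3, 0, 6, 4, 9, 7, 5, 10, 8], [1, 2, 3, 0, 6, 5, 4, 10, 9, 8, 7], [1, 2, 3, 0, 6, 9, 5, 8, 4, 7, 10], [1, 2, 3, 0,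 7, 5, 10, 8, 6, 4, 9], [1, 2, 3, 0, 7, 6, 5, 4, 10, 9, 8], [1, 2, 3, 0, 7, 10, 6, 9, 5, 8, 4], [1, 2, 3, 0, 8, 4, 7, 10, 6, 9, 5], [1, 2, 3, 0, 8, 6, 4, 9, 7, 5, 10], [1, 2, 3, 0, 8, 7, 6, 5, 4, 10, 9], [1, 2, 3, 0, 9, 5, 8, 4, 7, 10, 6], [1, 2, 3, 0, 9, 7, 5, 10, 8, 6, 4], [1, 2, 3, 0, 9, 8, 7, 6, 5, 4, 10], [1, 2, 3, 0, 10, 6, 9, 5, 8, 4, 7], [1, 2, 3, 0, 10, 8, 6, 4, 9, 7, 5], [1, 2, 3, 0, 10, 9, 8, 7, 6, 5, 4], [2, 3, 0, 1, 4, 5, 6, 7, 8, 9, 10], [2, 3, 0, 1, 4, 6, 8, 10, 5, 7, 9], [2, 3, 0, 1, 4, 8, 5, 9, 6, 10, 7], [2, 3, 0, 1, 5, 6, 7, 8, 9, 10, 4], [2, 3, 0, 1, 5, 7, 9, 4, 6, 8, 10], [2, 3, 0, 1, 5, 9, 6, 10, 7, 4, 8], [2, 3, 0, 1, 6, 7, 8, 9, 10, 4, 5], [2, 3, 0, 1, 6, 8, 10, 5, 7, 9, 4], [2, 3, 0, 1,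 6, 10, 7, 4, 8, 5, 9], [2, 3, 0, 1, 7, 4, 8, 5, 9, 6, 10], [2, 3, 0, 1, 7, 8, 9, 10, 4, 5, 6], [2, 3, 0, 1, 7, 9, 4, 6, 8, 10, 5], [2, 3, 0, 1, 8, 5, 9, 6, 10, 7, 4], [2, 3, 0, 1, 8, 9, 10, 4, 5, 6, 7], [2, 3, 0, 1, 8, 10, 5, 7, 9, 4, 6], [2, 3, 0, 1, 9, 4, 6, 8, 10, 5, 7], [2, 3, 0, 1, 9, 6, 10, 7, 4, 8, 5], [2, 3, 0, 1, 9, 10, 4, 5, 6, 7, 8], [2, 3, 0, 1, 10, 4, 5, 6, 7, 8, 9], [2, 3, 0, 1, 10, 5, 7, 9, 4, 6, 8], [2, 3, 0, 1, 10, 7, 4, 8, 5, 9, 6], [3, 0, 1, 2, 4, 7, 10, 6, 9, 5, 8], [3, 0, 1, 2, 4, 9, 7, 5, 10, 8, 6], [3, 0, 1, 2, 4, 10, 9, 8, 7, 6, 5], [3, 0, 1, 2, 5, 4, 10, 9, 8, 7, 6], [3, 0, 1, 2, 5, 8, 4, 7, 10, 6, 9], [3, 0, 1, 2, 5, 10, 8, 6, 4, 9, 7], [3, 0, 1, 2, 6, 4, 9, 7, 5, 10, 8], [3, 0, 1, 2,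 6, 5, 4, 10, 9, 8, 7], [3, 0, 1, 2, 6, 9, 5, 8, 4, 7, 10], [3, 0, 1, 2, 7, 5, 10, 8, 6, 4, 9], [3, 0, 1, 2, 7, 6, 5, 4, 10, 9, 8], [3, 0, 1, 2, 7, 10, 6, 9, 5, 8, 4], [3, 0, 1, 2, 8, 4, 7, 10, 6, 9, 5], [3, 0, 1, 2, 8, 6, 4, 9, 7, 5, 10], [3, 0, 1, 2, 8, 7, 6, 5, 4, 10, 9], [3, 0, 1, 2, 9, 5, 8, 4, 7, 10, 6], [3, 0, 1, 2, 9, 7, 5, 10, 8, 6, 4], [3, 0, 1, 2, 9, 8, 7, 6, 5, 4, 10], [3, 0, 1, 2, 10, 6, 9, 5, 8, 4, 7], [3, 0, 1, 2, 10, 8, 6, 4, 9, 7, 5], [3, 0, 1, 2, 10, 9, 8, 7, 6, 5, 4]]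
  nxt := [[6, 71], [7, 70], [8, 69], [10, 78], [11, 80], [9, 79], [13, 67], [14, 66], [12, 68], [16, 76], [17, 75], [15, 77], [20, 64], [18, 63], [19, 65], [1, 73], [2, 72], [0, 74], [3, 81], [4, 83], [5, 82], [29, 7], [27, 6], [28, 8], [31, 16], [32, 15], [30, 17], [34, 3], [35, 5], [33, 4], [37, 13], [38, 12], [36, 14], [39, 1], [40, 0], [41, 2], [21, 11], [22, 10], [23, 9], [25, 19], [26, 18], [24, 20], [48, 29], [49, 28], [50, 27], [52, 36], [53, 38], [51, 37], [55, 25], [56, 24], [54, 26], [58, 34], [59, 33], [57, 35], [62, 22], [60, 21], [61, 23], [43, 31], [44, 30], [42, 32], [45, 39], [46, 41], [47, 40], [71, 49], [69, 48], [70, 50], [73, 58], [74, 57], [72, 59], [76, 45], [77, 47], [75, 46], [79, 55],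 [80, 54], [78, 56], [81, 43], [82, 42], [83, 44], [63, 53], [64, 52], [65, 51], [67, 61], [68, 60], [66, 62]]
  words := [[], [1, 1, 1, 1, 1, 1, 1, 0, 1], [1, 1, 0, 1, 1], [0, 0, 0, 0], [1, 1, 1, 1, 1, 1, 1, 1], [1, 1, 1, 0, 1], [0], [1, 1, 1, 1, 0, 1, 1, 1, 1], [1, 0, 1, 1, 1], [1, 1, 1, 1], [0, 0, 0, 0, 0], [1, 1, 1, 1, 1, 1, 0, 1, 1], [1, 1, 1, 1, 0], [0, 0], [1, 1, 1, 1, 1, 0, 1, 1, 1], [1, 1, 1, 1, 1, 1, 1, 1, 0], [0, 1, 1, 1, 1], [0, 0, 0, 0, 0, 0], [0, 0, 0], [1, 1, 1, 0, 1, 1, 1, 1, 1], [0, 1, 1, 1, 1, 0], [1, 1, 1, 0, 1, 1, 1, 1], [1, 1, 1, 1, 1, 1, 1, 1, 1, 1, 1, 0], [0, 1, 1, 1], [1, 1, 1, 0, 0], [1, 1, 1, 1, 1, 1, 1, 0], [1, 1, 1, 1, 1, 1, 1, 1, 0, 1, 1, 1], [1, 1, 1, 1, 1, 1, 1, 1, 1, 0, 1, 1], [1,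 1, 0, 1], [1, 1, 1, 1, 1, 1, 1], [1, 1, 1, 1, 1, 1, 1, 0, 1, 1, 1, 1], [1, 1, 1, 0], [1, 1, 1, 1, 0, 1, 1, 1], [1, 1, 1, 1, 1, 1, 0, 1], [1, 1, 1, 1, 1, 1, 1, 1, 1, 1, 1], [1, 0, 1, 1], [1, 1, 1, 1, 1, 0, 1, 1], [1, 1, 1, 1, 1, 1, 1, 1, 1, 1, 0, 1], [1, 1, 1], [1, 1, 0, 1, 1, 1, 1, 1], [1, 1, 1, 1, 1, 1, 0, 1, 1, 1, 1, 1], [1, 1, 0, 0, 1], [1, 1, 1, 1, 1, 1], [1, 0, 1], [1, 1, 1, 1, 1, 1, 1, 1, 0, 1, 1], [1, 1, 1, 1, 0, 1, 1], [1, 1], [1, 1, 1, 1, 1, 1, 1, 1, 1, 0, 1], [1, 1, 1, 1, 1, 1, 0], [1, 1, 0, 0], [1, 1, 1, 1, 1, 1, 1, 0, 1, 1, 1], [1, 1, 1, 1, 1, 1, 1, 1, 1, 1], [1, 1, 1, 1, 1, 0, 1], [0, 1, 1], [1, 1, 1, 1, 1, 1, 1, 1, 1, 1, 0], [1, 1, 0, 1, 1, 1, 1], [1, 0, 1, 0], [1, 1, 0], [1, 1, 1, 1, 1, 1, 0, 1,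 1, 1, 1], [1, 1, 1, 0, 1, 1, 1], [1, 0, 1, 1, 1, 1, 1], [1, 0, 0, 1], [1, 1, 1, 1, 1, 0, 1, 1, 1, 1, 1], [1, 0, 0], [1, 1, 1, 1, 1, 0], [1, 1, 1, 1, 1, 1, 0, 1, 1, 1], [1, 1, 1, 1, 1, 0, 1, 1, 1, 1], [1, 0], [1, 1, 0, 1, 1, 1], [1, 1, 1, 0, 1, 1], [1, 1, 1, 1, 1, 1, 1, 1, 0, 1], [1], [1, 0, 1, 1, 1, 1], [1, 1, 1, 1, 1, 1, 1, 1, 1, 0], [0, 1, 0], [0, 1], [1, 1, 1, 1, 1], [1, 1, 1, 1, 1, 1, 1, 0, 1, 1], [0, 0, 1, 0], [1, 1, 1, 1, 0, 1], [1, 1, 1, 1, 1, 1, 1, 1, 1], [0, 0, 1], [0, 1, 1, 1, 1, 1], [1, 1, 1, 1, 0, 1, 1, 1, 1, 1]]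

/-- element orders -/
def ords18 : List ℕ := [1, 3, 3, 7, 3, 3, 7, 3, 3, 3, 7, 3, 3, 7, 3, 3, 3, 7, 7, 3, 3, 12, 12, 4, 4, 12, 12, 12, 4, 12, 12, 4, 12, 12, 12, 4, 12, 12, 4, 12, 12, 4, 2, 6, 6, 14, 6, 6, 14, 6, 6, 6, 14, 6, 6, 14, 6, 6, 6, 14, 14, 6, 6, 12, 12, 4, 4, 12, 12, 12, 4, 12, 12, 4, 12, 12, 12, 4, 12, 12, 4, 12, 12, 4]

theorem chk18 : chkAll e18 = true := by decide +kernel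

theorem ord18 : e18.Ls.map (rord e18.d) = ords18 := by decide +kernel

theorem nz18 : ∀ k ∈ ords18, k ≠ 0 := by decide +kernel

theorem ex18 : ∀ k ∈ ords18, k ∣ 84 := by decide +kernel

/-- solvable series data -/
def s18 : SData where
  d := 11
  series := [[[0, 1, 2, 3, 6, 7, 8, 9, 10, 4, 5], [3, 0, 1, 2, 6, 9, 5, 8, 4, 7, 10]], [[0, 1, 2, 3, 8, 9, 10, 4, 5, 6, 7]]]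
  conjW := [[[([0], [0])], [([0, 0, 0], [0, 0, 0, 0, 0])]], [[]]]
  commW := [[[[], [0, 0, 0, 0, 0, 0]], [[0], []]], [[[]]]]

theorem chkS18 : chkS s18 = true := by decide +kernel

end Cfsg.Agent.Lib.Helper5.OT.D
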