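import Cfsg.Agent.Lib.Helper5.OT3

set_option autoImplicit false
set_option maxRecDepth 100000

/-! generated data: group R2_2201 of order 84 and degree 11 -/

namespace Cfsg.Agent.Lib.Helper5.OT.D

/-- enumeration data -/
def e19 : EData where
  d := 11
  gens := [[3, 0, 2, 1, 7, 9, 4, 6, 8, 10, 5], [3, 1, 0, 2, 7, 4, 8, 5, 9, 6, 10]]
  Ls := [[0, 1, 2, 3, 4, 5, 6, 7, 8, 9, 10], [0, 1, 2, 3, 5, 6, 7, 8, 9, 10, 4], [0, 1, 2, 3, 6, 7, 8, 9, 10, 4, 5], [0, 1, 2, 3, 7, 8, 9, 10, 4, 5, 6], [0, 1, 2, 3, 8, 9, 10, 4, 5, 6, 7], [0, 1, 2, 3, 9, 10, 4, 5, 6, 7, 8], [0, 1, 2, 3, 10, 4, 5, 6, 7, 8, 9], [0, 2, 3, 1, 4, 8, 5, 9, 6, 10, 7], [0, 2, 3, 1, 5, 9, 6, 10, 7, 4, 8], [0, 2, 3, 1, 6, 10, 7, 4, 8, 5, 9], [0, 2, 3, 1, 7,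 4, 8, 5, 9, 6, 10], [0, 2, 3, 1, 8, 5, 9, 6, 10, 7, 4], [0, 2, 3, 1, 9, 6, 10, 7, 4, 8, 5], [0, 2, 3, 1, 10, 7, 4, 8, 5, 9, 6], [0, 3, 1, 2, 4, 6, 8, 10, 5, 7, 9], [0, 3, 1, 2, 5, 7, 9, 4, 6, 8, 10], [0, 3, 1, 2, 6, 8, 10, 5, 7, 9, 4], [0, 3, 1, 2, 7, 9, 4, 6, 8, 10, 5], [0, 3, 1, 2, 8, 10, 5, 7, 9, 4, 6], [0, 3, 1, 2, 9, 4, 6, 8, 10, 5, 7], [0, 3, 1, 2, 10, 5, 7, 9, 4, 6, 8], [1, 0, 3, 2, 4, 5, 6, 7, 8, 9, 10], [1, 0, 3, 2, 5, 6, 7, 8, 9, 10, 4], [1, 0, 3, 2, 6, 7, 8, 9, 10, 4, 5], [1, 0, 3, 2, 7, 8, 9, 10, 4, 5, 6], [1, 0, 3, 2, 8, 9, 10, 4, 5, 6, 7], [1, 0, 3, 2, 9, 10, 4, 5, 6, 7, 8], [1, 0, 3, 2, 10, 4, 5, 6, 7, 8, 9], [1, 2, 0, 3, 4, 6, 8, 10, 5, 7, 9], [1, 2, 0, 3, 5, 7, 9, 4, 6, 8, 10], [1, 2, 0, 3, 6,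 8, 10, 5, 7, 9, 4], [1, 2, 0, 3, 7, 9, 4, 6, 8, 10, 5], [1, 2, 0, 3, 8, 10, 5, 7, 9, 4, 6], [1, 2, 0, 3, 9, 4, 6, 8, 10, 5, 7], [1, 2, 0, 3, 10, 5, 7, 9, 4, 6, 8], [1, 3, 2, 0, 4, 8, 5, 9, 6, 10, 7], [1, 3, 2, 0, 5, 9, 6, 10, 7, 4, 8], [1, 3, 2, 0, 6, 10, 7, 4, 8, 5, 9], [1, 3, 2, 0, 7, 4, 8, 5, 9, 6, 10], [1, 3, 2, 0, 8, 5, 9, 6, 10, 7, 4], [1, 3, 2, 0, 9, 6, 10, 7, 4, 8, 5], [1, 3, 2, 0, 10, 7, 4, 8, 5, 9, 6], [2, 0, 1, 3, 4, 8, 5, 9, 6, 10, 7], [2, 0, 1, 3, 5, 9, 6, 10, 7, 4, 8], [2, 0, 1, 3, 6, 10, 7, 4, 8, 5, 9], [2, 0, 1, 3, 7, 4, 8, 5, 9, 6, 10], [2, 0, 1, 3, 8, 5, 9, 6, 10, 7, 4], [2, 0, 1, 3, 9, 6, 10, 7, 4, 8, 5], [2, 0, 1, 3, 10, 7, 4, 8, 5, 9, 6], [2, 1, 3, 0, 4, 6, 8, 10, 5, 7, 9], [2, 1, 3, 0, 5,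 7, 9, 4, 6, 8, 10], [2, 1, 3, 0, 6, 8, 10, 5, 7, 9, 4], [2, 1, 3, 0, 7, 9, 4, 6, 8, 10, 5], [2, 1, 3, 0, 8, 10, 5, 7, 9, 4, 6], [2, 1, 3, 0, 9, 4, 6, 8, 10, 5, 7], [2, 1, 3, 0, 10, 5, 7, 9, 4, 6, 8], [2, 3, 0, 1, 4, 5, 6, 7, 8, 9, 10], [2, 3, 0, 1, 5, 6, 7, 8, 9, 10, 4], [2, 3, 0, 1, 6, 7, 8, 9, 10, 4, 5], [2, 3, 0, 1, 7, 8, 9, 10, 4, 5, 6], [2, 3, 0, 1, 8, 9, 10, 4, 5, 6, 7], [2, 3, 0, 1, 9, 10, 4, 5, 6, 7, 8], [2, 3, 0, 1, 10, 4, 5, 6, 7, 8, 9], [3, 0, 2, 1, 4, 6, 8, 10, 5, 7, 9], [3, 0, 2, 1, 5, 7, 9, 4, 6, 8, 10], [3, 0, 2, 1, 6, 8, 10, 5, 7, 9, 4], [3, 0, 2, 1, 7, 9, 4, 6, 8, 10, 5], [3, 0, 2, 1, 8, 10, 5, 7, 9, 4, 6], [3, 0, 2, 1, 9, 4, 6, 8, 10, 5, 7], [3, 0, 2, 1, 10, 5, 7, 9, 4, 6, 8], [3, 1, 0, 2, 4,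 8, 5, 9, 6, 10, 7], [3, 1, 0, 2, 5, 9, 6, 10, 7, 4, 8], [3, 1, 0, 2, 6, 10, 7, 4, 8, 5, 9], [3, 1, 0, 2, 7, 4, 8, 5, 9, 6, 10], [3, 1, 0, 2, 8, 5, 9, 6, 10, 7, 4], [3, 1, 0, 2, 9, 6, 10, 7, 4, 8, 5], [3, 1, 0, 2, 10, 7, 4, 8, 5, 9, 6], [3, 2, 1, 0, 4, 5, 6, 7, 8, 9, 10], [3, 2, 1, 0, 5, 6, 7, 8, 9, 10, 4], [3, 2, 1, 0, 6, 7, 8, 9, 10, 4, 5], [3, 2, 1, 0, 7, 8, 9, 10, 4, 5, 6], [3, 2, 1, 0, 8, 9, 10, 4, 5, 6, 7], [3, 2, 1, 0, 9, 10, 4, 5, 6, 7, 8], [3, 2, 1, 0, 10, 4, 5, 6, 7, 8, 9]]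
  nxt := [[66, 73], [68, 70], [63, 74], [65, 71], [67, 75], [69, 72], [64, 76], [80, 66], [82, 63], [77, 67], [79, 64], [81, 68], [83, 65], [78, 69], [73, 80], [75, 77], [70, 81], [72, 78], [74, 82], [76, 79], [71, 83], [17, 38], [19, 35], [14, 39], [16, 36], [18, 40], [20, 37], [15, 41], [10, 24], [12, 21], [7, 25], [9, 22], [11, 26], [13, 23], [8, 27], [3, 31], [5, 28], [0, 32], [2, 29], [4, 33], [6, 30], [1, 34], [59, 17], [61, 14], [56, 18], [58, 15], [60, 19], [62, 16], [57, 20], [45, 3], [47, 0], [42, 4], [44, 1], [46, 5], [48, 2], [43, 6], [52, 10], [54, 7], [49, 11], [51, 8], [53, 12], [55, 9], [50, 13], [38, 59], [40, 56], [35, 60], [37, 57], [39, 61], [41, 58], [36, 62], [24, 52], [26, 49], [21, 53],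 [23, 50], [25, 54], [27, 51], [22, 55], [31, 45], [33, 42], [28, 46], [30, 43], [32, 47], [34, 44], [29, 48]]
  words := [[], [0, 0, 1, 0, 1, 0, 0], [1, 0, 1, 0], [1, 0, 1, 1, 0, 1, 0, 0], [0, 1, 0, 1], [0, 0, 1, 0, 1, 1, 0, 1], [0, 1, 0, 1, 1, 0, 1, 0], [1, 1, 0], [1, 1, 0, 1, 0, 1, 0], [1, 0, 1, 0, 1, 1, 0], [0, 1, 0, 1, 0, 1, 1, 0, 1], [0, 1, 0, 0], [0, 0, 1, 0, 1, 1, 0, 0], [0, 1, 1, 0, 1], [0, 0, 1], [0, 0, 1, 0, 1, 0, 1], [1, 0, 1, 1], [1, 0, 1, 1, 0, 1, 0, 1], [0, 0, 1, 1, 0, 1, 0], [0, 0, 1, 0, 1, 0, 1, 1, 0, 1, 0], [0, 1, 1, 0, 0], [1, 0, 1, 0, 1, 1, 0, 0], [0, 1, 0, 1, 0, 1, 1, 0, 1, 0], [0, 1], [0, 0, 1, 0, 1, 1], [0, 1, 1, 0, 1, 0], [1, 1, 0, 0], [0, 1, 0, 1, 0, 1], [1, 0, 1, 0, 1, 1, 0, 1], [0, 1,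 0, 1, 1, 0, 0], [0, 0, 1, 1, 0], [0, 0, 1, 0, 1, 0, 1, 1, 0], [1, 0, 0], [1, 1, 0, 1], [1, 0, 1, 0, 1, 0, 0], [0, 0, 1, 0, 1, 1, 0, 1, 0, 0], [0, 1, 0, 1, 1, 0, 1], [0, 0], [0, 0, 1, 0, 1, 0], [1, 0, 1], [1, 0, 1, 1, 0, 1, 0], [0, 1, 0, 1, 0, 0], [0, 1, 1, 0, 1, 0, 1], [1, 0, 1, 1, 0], [0, 1, 0, 1, 0, 1, 1], [0, 0, 1, 1, 0, 1, 0, 0], [0, 1, 0, 1, 0, 1, 1, 0, 1, 0, 1], [0, 1, 1], [0, 0, 1, 0], [0, 1, 1, 0, 1, 0, 0], [1, 1], [1, 1, 0, 1, 0, 1], [1, 0, 1, 0, 1, 1], [1, 0, 1, 0, 1, 1, 0, 1, 0, 1], [0, 1, 0], [0, 0, 1, 0, 1, 1, 0], [0, 0, 1, 0, 1, 0, 1, 1], [1, 0], [1, 1, 0, 1, 0, 0], [1, 0, 1, 0, 1, 0], [1, 0, 1, 0, 1, 1, 0, 1, 0, 0], [0, 1, 0, 1, 1, 0], [0, 0, 1, 1], [0, 1, 0, 1, 0], [0, 0, 1, 0, 1, 1, 0, 1, 0], [0,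 1, 0, 1, 1, 0, 1, 0, 0], [0], [0, 0, 1, 0, 1], [1, 0, 1, 0, 0], [1, 0, 1, 1, 0, 1], [0, 1, 0, 1, 1], [0, 0, 1, 1, 0, 0], [0, 1, 0, 1, 1, 0, 1, 0, 1], [1], [1, 1, 0, 1, 0], [1, 0, 1, 0, 1], [1, 0, 1, 0, 1, 1, 0, 1, 0], [0, 1, 0, 1, 0, 1, 1, 0], [0, 0, 1, 1, 0, 1], [0, 0, 1, 0, 1, 0, 1, 1, 0, 1], [0, 1, 1, 0], [0, 0, 1, 0, 0], [0, 1, 1, 0, 1, 0, 1, 0], [1, 0, 1, 1, 0, 0]]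

/-- element orders -/
def ords19 : List ℕ := [1, 7, 7, 7, 7, 7, 7, 3, 3, 3, 3, 3, 3, 3, 3, 3, 3, 3, 3, 3, 3, 2, 14, 14, 14, 14, 14, 14, 3, 3, 3, 3, 3, 3, 3, 3, 3, 3, 3, 3, 3, 3, 3, 3, 3, 3, 3, 3, 3, 3, 3, 3, 3, 3, 3, 3, 2, 14, 14, 14, 14, 14, 14, 3, 3, 3, 3, 3, 3, 3, 3, 3, 3, 3, 3, 3, 3, 2, 14, 14, 14, 14, 14, 14]

theorem chk19 : chkAll e19 = true := by decide +kernel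

theorem ord19 : e19.Ls.map (rord e19.d) = ords19 := by decide +kernel

theorem nz19 : ∀ k ∈ ords19, k ≠ 0 := by decide +kernel

theorem ex19 : ∀ k ∈ ords19, k ∣ 84 := by decide +kernel

/-- solvable series data -/
def s19 : SData where
  d := 11
  series := [[[3, 0, 2, 1, 7, 9, 4, 6, 8, 10, 5], [3, 1, 0, 2, 7, 4, 8, 5, 9, 6, 10]], [[3, 2, 1, 0, 5, 6, 7, 8, 9, 10, 4], [1, 0, 3, 2, 7, 8, 9, 10, 4, 5, 6]]]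
  conjW := [[[([1, 1, 1, 1, 1, 0], [1, 1, 1, 0, 0]), ([1, 1, 1, 1, 0], [1, 1, 1, 0, 0, 0])], [([1, 1, 1, 0, 0], [1, 1, 1, 1, 1, 0]), ([1, 1, 1, 0, 0, 0], [1, 1, 1, 1, 0])]], [[], []]]
  commW := [[[[], [0]], [[1, 1, 1, 1, 0], []]], [[[], []], [[], []]]]

theorem chkS19 : chkS s19 = true := by decide +kernel

end Cfsg.Agent.Lib.Helper5.OT.D
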