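import Cfsg.Agent.Lib.Helper5.OT3

set_option autoImplicit false
set_option maxRecDepth 100000

/-! generated data: group C4 of order 4 and degree 4 -/

namespace Cfsg.Agent.Lib.Helper5.OT.D

/-- enumeration data -/
def e2 : EData where
  d := 4
  gens := [[1, 2, 3, 0]]
  Ls := [[0, 1, 2, 3], [1, 2, 3, 0], [2, 3, 0, 1], [3, 0, 1, 2]]
  nxt := [[1], [2], [3], [0]]
  words := [[], [0], [0, 0], [0, 0, 0]]

/-- element orders -/
def ords2 : List ℕ := [1, 4, 2, 4]

theorem chk2 : chkAll e2 = true := by decide +kernel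

theorem ord2 : e2.Ls.map (rord e2.d) = ords2 := by decide +kernel

theorem nz2 : ∀ k ∈ ords2, k ≠ 0 := by decide +kernel

theorem ex2 : ∀ k ∈ ords2, k ∣ 84 := by decide +kernel

/-- solvable series data -/
def s2 : SData where
  d := 4
  series := [[[1, 2, 3, 0]]]
  conjW := [[[]]]
  commW := [[[[]]]]

theorem chkS2 : chkS s2 = true := by decide +kernel

end Cfsg.Agent.Lib.Helper5.OT.D
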