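import Cfsg.Agent.Lib.Helper5.OT3

set_option autoImplicit false
set_option maxRecDepth 100000

/-! generated data: group R11_742 of order 168 and degree 10 -/

namespace Cfsg.Agent.Lib.Helper5.OT.D

/-- enumeration data -/
def e20 : EData where
  d := 10
  gens := [[0, 1, 7, 6, 3, 2, 5, 4, 9, 8], [0, 1, 5, 7, 8, 2, 3, 9, 6, 4]]
  Ls := [[0, 1, 2, 3, 4, 5, 6, 7, 8, 9], [0, 1, 2, 3, 6, 7, 8, 9, 4, 5], [0, 1, 2, 3, 8, 9, 4, 5, 6, 7], [0, 1, 2, 4, 5, 3, 9, 7, 6, 8], [0, 1, 2, 4, 6, 8, 5, 3, 9, 7], [0, 1, 2, 4, 9, 7, 6, 8, 5, 3], [0, 1, 2, 5, 3, 4, 8, 7, 9, 6], [0, 1, 2, 5, 8, 7, 9, 6, 3, 4], [0, 1, 2, 5, 9, 6, 3, 4, 8, 7], [0, 1, 2, 6, 5, 9, 8, 4, 7, 3], [0, 1, 2, 6, 7, 3, 5, 9, 8, 4], [0, 1, 2, 6, 8, 4,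 7, 3, 5, 9], [0, 1, 2, 7, 3, 6, 4, 9, 5, 8], [0, 1, 2, 7, 4, 9, 5, 8, 3, 6], [0, 1, 2, 7, 5, 8, 3, 6, 4, 9], [0, 1, 2, 8, 4, 6, 9, 3, 7, 5], [0, 1, 2, 8, 7, 5, 4, 6, 9, 3], [0, 1, 2, 8, 9, 3, 7, 5, 4, 6], [0, 1, 2, 9, 3, 8, 6, 5, 7, 4], [0, 1, 2, 9, 6, 5, 7, 4, 3, 8], [0, 1, 2, 9, 7, 4, 3, 8, 6, 5], [0, 1, 3, 2, 5, 4, 7, 6, 9, 8], [0, 1, 3, 2, 7, 6, 9, 8, 5, 4], [0, 1, 3, 2, 9, 8, 5, 4, 7, 6], [0, 1, 3, 4, 2, 5, 9, 6, 8, 7], [0, 1, 3, 4, 8, 7, 2, 5, 9, 6], [0, 1, 3, 4, 9, 6, 8, 7, 2, 5], [0, 1, 3, 5, 4, 2, 8, 6, 7, 9], [0, 1, 3, 5, 7, 9, 4, 2, 8, 6], [0, 1, 3, 5, 8, 6, 7, 9, 4, 2], [0, 1, 3, 6, 2, 7, 5, 8, 4, 9], [0, 1, 3, 6, 4, 9, 2, 7, 5, 8], [0, 1, 3, 6, 5, 8, 4, 9, 2, 7], [0, 1, 3, 7, 4, 8, 9, 5,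 6, 2], [0, 1, 3, 7, 6, 2, 4, 8, 9, 5], [0, 1, 3, 7, 9, 5, 6, 2, 4, 8], [0, 1, 3, 8, 2, 9, 7, 4, 6, 5], [0, 1, 3, 8, 6, 5, 2, 9, 7, 4], [0, 1, 3, 8, 7, 4, 6, 5, 2, 9], [0, 1, 3, 9, 5, 7, 8, 2, 6, 4], [0, 1, 3, 9, 6, 4, 5, 7, 8, 2], [0, 1, 3, 9, 8, 2, 6, 4, 5, 7], [0, 1, 4, 2, 3, 5, 7, 9, 8, 6], [0, 1, 4, 2, 7, 9, 8, 6, 3, 5], [0, 1, 4, 2, 8, 6, 3, 5, 7, 9], [0, 1, 4, 3, 5, 2, 6, 9, 7, 8], [0, 1, 4, 3, 6, 9, 7, 8, 5, 2], [0, 1, 4, 3, 7, 8, 5, 2, 6, 9], [0, 1, 4, 5, 2, 3, 8, 9, 6, 7], [0, 1, 4, 5, 6, 7, 2, 3, 8, 9], [0, 1, 4, 5, 8, 9, 6, 7, 2, 3], [0, 1, 4, 6, 2, 8, 7, 5, 9, 3], [0, 1, 4, 6, 7, 5, 9, 3, 2, 8], [0, 1, 4, 6, 9, 3, 2, 8, 7, 5], [0, 1, 4, 7, 5, 6, 8, 3, 9, 2], [0, 1, 4, 7, 8, 3, 9, 2, 5, 6],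 [0, 1, 4, 7, 9, 2, 5, 6, 8, 3], [0, 1, 4, 8, 3, 7, 6, 2, 9, 5], [0, 1, 4, 8, 6, 2, 9, 5, 3, 7], [0, 1, 4, 8, 9, 5, 3, 7, 6, 2], [0, 1, 4, 9, 2, 7, 3, 6, 5, 8], [0, 1, 4, 9, 3, 6, 5, 8, 2, 7], [0, 1, 4, 9, 5, 8, 2, 7, 3, 6], [0, 1, 5, 2, 4, 3, 7, 8, 6, 9], [0, 1, 5, 2, 6, 9, 4, 3, 7, 8], [0, 1, 5, 2, 7, 8, 6, 9, 4, 3], [0, 1, 5, 3, 2, 4, 6, 8, 9, 7], [0, 1, 5, 3, 6, 8, 9, 7, 2, 4], [0, 1, 5, 3, 9, 7, 2, 4, 6, 8], [0, 1, 5, 4, 3, 2, 9, 8, 7, 6], [0, 1, 5, 4, 7, 6, 3, 2, 9, 8], [0, 1, 5, 4, 9, 8, 7, 6, 3, 2], [0, 1, 5, 6, 4, 7, 9, 2, 8, 3], [0, 1, 5, 6, 8, 3, 4, 7, 9, 2], [0, 1, 5, 6, 9, 2, 8, 3, 4, 7], [0, 1, 5, 7, 3, 9, 6, 4, 8, 2], [0, 1, 5, 7, 6, 4, 8, 2, 3, 9], [0, 1, 5, 7, 8, 2, 3, 9, 6, 4], [0, 1,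 5, 8, 2, 7, 4, 9, 3, 6], [0, 1, 5, 8, 3, 6, 2, 7, 4, 9], [0, 1, 5, 8, 4, 9, 3, 6, 2, 7], [0, 1, 5, 9, 2, 6, 7, 3, 8, 4], [0, 1, 5, 9, 7, 3, 8, 4, 2, 6], [0, 1, 5, 9, 8, 4, 2, 6, 7, 3], [0, 1, 6, 2, 3, 7, 9, 5, 4, 8], [0, 1, 6, 2, 4, 8, 3, 7, 9, 5], [0, 1, 6, 2, 9, 5, 4, 8, 3, 7], [0, 1, 6, 3, 7, 2, 8, 5, 9, 4], [0, 1, 6, 3, 8, 5, 9, 4, 7, 2], [0, 1, 6, 3, 9, 4, 7, 2, 8, 5], [0, 1, 6, 4, 3, 9, 8, 2, 5, 7], [0, 1, 6, 4, 5, 7, 3, 9, 8, 2], [0, 1, 6, 4, 8, 2, 5, 7, 3, 9], [0, 1, 6, 5, 2, 9, 3, 8, 7, 4], [0, 1, 6, 5, 3, 8, 7, 4, 2, 9], [0, 1, 6, 5, 7, 4, 2, 9, 3, 8], [0, 1, 6, 7, 2, 3, 4, 5, 8, 9], [0, 1, 6, 7, 4, 5, 8, 9, 2, 3], [0, 1, 6, 7, 8, 9, 2, 3, 4, 5], [0, 1, 6, 8, 2, 4, 9, 7, 5, 3], [0, 1, 6, 8,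 5, 3, 2, 4, 9, 7], [0, 1, 6, 8, 9, 7, 5, 3, 2, 4], [0, 1, 6, 9, 4, 3, 5, 2, 7, 8], [0, 1, 6, 9, 5, 2, 7, 8, 4, 3], [0, 1, 6, 9, 7, 8, 4, 3, 5, 2], [0, 1, 7, 2, 6, 3, 9, 4, 8, 5], [0, 1, 7, 2, 8, 5, 6, 3, 9, 4], [0, 1, 7, 2, 9, 4, 8, 5, 6, 3], [0, 1, 7, 3, 2, 6, 8, 4, 5, 9], [0, 1, 7, 3, 5, 9, 2, 6, 8, 4], [0, 1, 7, 3, 8, 4, 5, 9, 2, 6], [0, 1, 7, 4, 2, 9, 6, 5, 3, 8], [0, 1, 7, 4, 3, 8, 2, 9, 6, 5], [0, 1, 7, 4, 6, 5, 3, 8, 2, 9], [0, 1, 7, 5, 2, 8, 9, 3, 4, 6], [0, 1, 7, 5, 4, 6, 2, 8, 9, 3], [0, 1, 7, 5, 9, 3, 4, 6, 2, 8], [0, 1, 7, 6, 3, 2, 5, 4, 9, 8], [0, 1, 7, 6, 5, 4, 9, 8, 3, 2], [0, 1, 7, 6, 9, 8, 3, 2, 5, 4], [0, 1, 7, 8, 4, 3, 6, 9, 5, 2], [0, 1, 7, 8, 5, 2, 4, 3, 6, 9], [0, 1, 7, 8, 6, 9,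 5, 2, 4, 3], [0, 1, 7, 9, 3, 5, 8, 6, 4, 2], [0, 1, 7, 9, 4, 2, 3, 5, 8, 6], [0, 1, 7, 9, 8, 6, 4, 2, 3, 5], [0, 1, 8, 2, 3, 9, 5, 7, 6, 4], [0, 1, 8, 2, 5, 7, 6, 4, 3, 9], [0, 1, 8, 2, 6, 4, 3, 9, 5, 7], [0, 1, 8, 3, 4, 7, 5, 6, 9, 2], [0, 1, 8, 3, 5, 6, 9, 2, 4, 7], [0, 1, 8, 3, 9, 2, 4, 7, 5, 6], [0, 1, 8, 4, 2, 6, 5, 9, 7, 3], [0, 1, 8, 4, 5, 9, 7, 3, 2, 6], [0, 1, 8, 4, 7, 3, 2, 6, 5, 9], [0, 1, 8, 5, 6, 3, 7, 2, 9, 4], [0, 1, 8, 5, 7, 2, 9, 4, 6, 3], [0, 1, 8, 5, 9, 4, 6, 3, 7, 2], [0, 1, 8, 6, 3, 5, 4, 2, 7, 9], [0, 1, 8, 6, 4, 2, 7, 9, 3, 5], [0, 1, 8, 6, 7, 9, 3, 5, 4, 2], [0, 1, 8, 7, 2, 5, 3, 4, 9, 6], [0, 1, 8, 7, 3, 4, 9, 6, 2, 5], [0, 1, 8, 7, 9, 6, 2, 5, 3, 4], [0, 1, 8, 9, 2, 3, 6, 7,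 4, 5], [0, 1, 8, 9, 4, 5, 2, 3, 6, 7], [0, 1, 8, 9, 6, 7, 4, 5, 2, 3], [0, 1, 9, 2, 4, 7, 8, 3, 5, 6], [0, 1, 9, 2, 5, 6, 4, 7, 8, 3], [0, 1, 9, 2, 8, 3, 5, 6, 4, 7], [0, 1, 9, 3, 2, 8, 4, 6, 7, 5], [0, 1, 9, 3, 4, 6, 7, 5, 2, 8], [0, 1, 9, 3, 7, 5, 2, 8, 4, 6], [0, 1, 9, 4, 6, 3, 8, 5, 7, 2], [0, 1, 9, 4, 7, 2, 6, 3, 8, 5], [0, 1, 9, 4, 8, 5, 7, 2, 6, 3], [0, 1, 9, 5, 3, 7, 4, 8, 6, 2], [0, 1, 9, 5, 4, 8, 6, 2, 3, 7], [0, 1, 9, 5, 6, 2, 3, 7, 4, 8], [0, 1, 9, 6, 2, 5, 8, 7, 3, 4], [0, 1, 9, 6, 3, 4, 2, 5, 8, 7], [0, 1, 9, 6, 8, 7, 3, 4, 2, 5], [0, 1, 9, 7, 2, 4, 5, 3, 6, 8], [0, 1, 9, 7, 5, 3, 6, 8, 2, 4], [0, 1, 9, 7, 6, 8, 2, 4, 5, 3], [0, 1, 9, 8, 3, 2, 7, 6, 5, 4], [0, 1, 9, 8, 5, 4, 3, 2, 7, 6],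 [0, 1, 9, 8, 7, 6, 5, 4, 3, 2]]
  nxt := [[117, 77], [118, 75], [119, 76], [108, 78], [109, 79], [110, 80], [105, 65], [107, 64], [106, 63], [114, 66], [115, 68], [116, 67], [113, 82], [112, 83], [111, 81], [123, 73], [124, 74], [125, 72], [122, 70], [121, 69], [120, 71], [96, 114], [97, 116], [98, 115], [87, 121], [89, 122], [88, 120], [84, 106], [85, 107], [86, 105], [95, 109], [94, 110], [93, 108], [90, 125], [91, 123], [92, 124], [104, 118], [103, 117], [102, 119], [99, 111], [100, 112], [101, 113], [34, 136], [33, 137], [35, 135], [30, 141], [32, 142], [31, 143], [22, 127], [21, 126], [23, 128], [28, 130], [27, 131], [29, 129], [24, 144], [26, 146], [25, 145], [40, 140], [39, 138], [41, 139], [38,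 133], [37, 134], [36, 132], [12, 7], [14, 6], [13, 8], [10, 14], [9, 12], [11, 13], [1, 16], [0, 17], [2, 15], [6, 2], [8, 1], [7, 0], [4, 20], [3, 18], [5, 19], [20, 9], [19, 10], [18, 11], [16, 3], [15, 5], [17, 4], [76, 28], [75, 29], [77, 27], [72, 35], [74, 34], [73, 33], [67, 38], [66, 36], [68, 37], [65, 21], [64, 22], [63, 23], [70, 39], [69, 41], [71, 40], [82, 32], [81, 30], [83, 31], [79, 25], [78, 24], [80, 26], [54, 156], [56, 158], [55, 157], [52, 163], [51, 162], [53, 164], [47, 166], [46, 167], [45, 165], [43, 148], [42, 149], [44, 147], [49, 152], [48, 150], [50, 151], [61, 161], [60, 159], [62, 160], [58, 154], [57, 155], [59, 153], [164, 95], [162, 93], [163, 94], [160, 98], [159, 96],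 [161, 97], [152, 100], [150, 99], [151, 101], [148, 84], [147, 86], [149, 85], [158, 87], [156, 88], [157, 89], [154, 103], [153, 104], [155, 102], [167, 91], [165, 92], [166, 90], [142, 50], [141, 48], [143, 49], [140, 54], [138, 55], [139, 56], [130, 57], [129, 59], [131, 58], [128, 43], [126, 44], [127, 42], [136, 45], [135, 47], [137, 46], [134, 62], [132, 60], [133, 61], [146, 52], [144, 51], [145, 53]]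
  words := [[], [0, 1, 1, 1], [1, 1, 1, 0, 0, 0, 0, 0], [0, 1, 1, 1, 1, 0, 0, 0, 0, 0], [0, 1, 0, 1, 1, 1], [0, 1], [0, 1, 1, 0, 0, 0, 0, 0], [1, 0, 1, 1, 0, 0], [0, 0, 0, 0, 1, 1, 0], [0, 1, 1, 1, 0, 1], [0, 0, 0, 1, 1, 0, 1, 0], [1, 1, 0, 1], [0, 0, 1, 1, 0, 0], [1, 0, 1, 1, 1, 1, 0], [0, 1, 1, 0, 1, 1, 0, 0], [0, 0, 0, 1, 0, 0, 0, 0], [1, 1, 1, 1], [1, 0, 0, 0, 0, 0], [0, 1, 0, 1], [1, 1], [1, 1, 0, 1, 1, 1], [0, 0, 0], [0, 1, 1, 1, 0, 0, 0], [1, 1, 1, 0, 0], [1, 1, 0, 1, 1, 0, 0, 0], [0, 1, 1, 0], [0, 1, 0, 1, 1, 0, 1, 0, 0], [0, 1, 0, 1, 1, 1, 0], [0, 1, 1, 1, 1, 0, 0, 0, 0], [0, 0, 0, 0, 1], [0, 1, 1, 0, 1, 1], [0, 0, 1, 1, 0, 0, 0, 0], [1, 0, 1, 0, 0, 0, 0], [0, 0, 1, 0, 0, 0], [1, 1, 0, 1, 0],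 [0, 0, 0, 1, 1, 0, 1], [1, 0, 1, 1, 0, 1, 0], [0, 1, 0, 1, 0, 0], [0, 0, 0, 1, 1], [1, 0, 0, 0, 0], [1, 0, 1, 1, 1, 0, 0], [0, 0, 0, 1, 0, 0, 0, 0, 0], [0, 1, 1, 1, 1, 0, 0], [0, 1, 0, 0, 0], [0, 0, 1, 1, 0, 1], [1, 1, 0, 1, 1], [0, 1, 1, 0, 1, 1, 1, 0, 0], [0, 1, 1, 0, 0, 0, 0], [1, 1, 1, 0, 0, 0], [0, 0], [1, 1, 0, 1, 1, 0, 1], [1, 1, 1, 1, 0, 0, 0, 0], [1, 0, 1, 1, 1, 0], [0, 0, 0, 1], [1, 0, 0, 0, 1, 0, 0], [1, 0, 1, 1, 0, 1, 0, 0], [1, 1, 0], [0, 0, 1, 1, 1, 1], [0, 1, 1, 1, 0, 1, 0], [0, 0, 1, 0, 0, 0, 0, 0], [0, 0, 1, 1], [1, 0, 1, 0, 0], [0, 1, 0, 1, 1, 0], [0, 1, 1, 0, 0], [1, 1, 0, 1, 1, 0, 0], [1, 0, 1, 1, 0, 0, 0, 0, 0], [0, 0, 1, 1, 0, 1, 0], [1, 1, 1, 0, 1], [0, 1, 1, 1, 1, 0], [1, 1, 1],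 [0, 0, 0, 0, 0], [0, 0, 1, 1, 1, 0, 0], [1, 1, 0, 0, 0, 0, 0], [0, 0, 0, 1, 1, 0], [0, 1, 0, 1, 0], [1, 0, 1, 1, 1], [1, 1, 1, 1, 0, 0, 0, 0, 0], [1], [0, 1, 0, 1, 1, 0, 0, 0], [0, 0, 0, 0, 0, 1, 1], [1, 0, 1], [1, 0, 1, 1, 0, 1, 1, 0, 0], [0, 0, 1, 0, 0, 0, 0], [0, 1, 1, 1, 0, 1, 0, 0], [1, 0, 1, 1, 0, 1, 1, 0], [1, 1, 0, 1, 0, 0, 0], [0, 0, 0, 0, 0, 1], [0, 1, 1, 0, 1, 1, 0, 0, 0], [1, 0, 1, 0], [0, 0, 1, 1, 0], [0, 0, 0, 1, 0, 0, 0], [0, 1, 1, 0, 1, 0], [1, 1, 1, 1, 0], [0, 1, 0, 1, 0, 0, 0, 0], [1, 0, 0, 0, 1, 0], [1, 1, 0, 0], [0, 0, 0, 0], [0, 0, 1, 1, 1, 0, 0, 0], [0, 1, 1, 1, 0, 0], [0, 1, 0, 0, 0, 0], [0, 1, 0, 1, 1, 1, 0, 0], [1, 1, 1, 0, 1, 0, 0], [0, 0, 0, 0, 1, 1], [1, 0, 1, 1, 0, 0, 0],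 [0, 1, 0, 1, 1, 0, 1, 0], [1, 0, 0, 0, 0, 1], [0, 0, 0, 0, 0, 1, 1, 0], [0, 1, 0, 1, 1, 0, 0], [1, 1, 0, 1, 0, 0, 0, 0], [1, 0, 1, 1, 0, 1, 1], [0, 0, 1], [1, 1, 0, 0, 0, 0], [1, 1, 0, 1, 1, 1, 0, 0], [0, 0, 0, 1, 1, 0, 0], [1, 0, 0, 0], [1, 1, 1, 1, 0, 0], [0, 1, 1, 0, 1], [0], [0, 0, 1, 1, 1], [1, 0, 0, 0, 1, 1], [0, 1, 1, 0, 1, 1, 1], [0, 1, 1], [1, 0, 1, 1, 0], [1, 1, 1, 0, 1, 0], [0, 1, 1, 1, 1], [0, 1, 0, 0, 0, 0, 0], [1, 0, 0], [1, 1, 1, 1, 0, 0, 0], [0, 0, 0, 1, 0], [1, 0, 0, 0, 1], [0, 1, 0, 1, 0, 0, 0, 0, 0], [1, 1, 0, 1, 1, 1, 0], [0, 0, 0, 0, 0, 1, 0], [0, 0, 1, 0, 0], [1, 1, 0, 1, 0, 0], [0, 1, 1, 0, 1, 1, 0], [0, 1, 0, 1, 1], [1, 0, 1, 0, 0, 0], [0, 0, 1, 1, 0, 1, 0, 0], [0, 1, 0], [0, 0,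 0, 0, 1, 0, 0], [0, 1, 1, 0, 0, 0], [0, 1, 0, 1, 1, 0, 1], [1, 0, 1, 1, 0, 0, 0, 0], [0, 1, 1, 1, 0, 0, 0, 0], [1, 1, 1, 0], [0, 0, 1, 1, 1, 0], [1, 0, 1, 1, 0, 1], [1, 1, 0, 0, 0], [0, 1, 0, 1, 0, 0, 0], [0, 0, 0, 1, 0, 0], [0, 1, 1, 0, 1, 0, 0], [1, 0], [1, 0, 1, 0, 0, 0, 0, 0], [0, 0, 1, 1, 0, 0, 0], [1, 0, 1, 1, 1, 1], [0, 0, 1, 0], [0, 0, 0, 0, 0, 1, 0, 0], [0, 0, 0, 1, 1, 0, 1, 0, 0], [1, 0, 1, 1], [1, 1, 0, 1, 1, 0], [0, 1, 1, 0, 1, 1, 1, 0], [0, 1, 1, 1, 1, 0, 0, 0], [0, 0, 0, 0, 1, 0], [0, 1, 0, 0], [0, 1, 1, 1, 0], [1, 1, 1, 0, 0, 0, 0], [0, 0, 1, 1, 1, 0, 0, 0, 0]]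

/-- element orders -/
def ords20 : List ℕ := [1, 3, 3, 3, 7, 3, 3, 7, 3, 7, 3, 3, 7, 3, 3, 3, 3, 7, 3, 3, 7, 2, 6, 6, 3, 6, 7, 3, 7, 6, 7, 3, 6, 7, 6, 3, 6, 7, 3, 6, 3, 7, 3, 6, 7, 3, 7, 3, 2, 3, 3, 6, 7, 6, 6, 6, 7, 7, 6, 3, 6, 6, 7, 3, 6, 7, 3, 3, 7, 2, 6, 6, 3, 7, 6, 3, 7, 6, 6, 3, 7, 7, 6, 6, 6, 3, 7, 7, 3, 3, 6, 7, 3, 6, 7, 6, 3, 3, 2, 7, 6, 6, 7, 6, 6, 7, 3, 6, 3, 3, 7, 7, 6, 3, 6, 7, 6, 6, 6, 2, 3, 7, 6, 7, 3, 6, 7, 3, 6, 3, 7, 3, 6, 6, 7, 6, 6, 7, 3, 7, 6, 7, 6, 6, 3, 3, 2, 7, 3, 6, 7, 3, 3, 6, 3, 7, 6, 3, 7, 3, 7, 6, 6, 7, 6, 6, 6, 2]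

theorem chk20 : chkAll e20 = true := by decide +kernel

theorem ord20 : e20.Ls.map (rord e20.d) = ords20 := by decide +kernel

theorem nz20 : ∀ k ∈ ords20, k ≠ 0 := by decide +kernel

theorem ex20 : ∀ k ∈ ords20, k ∣ 84 := by decide +kernel

/-- solvable series data -/
def s20 : SData where
  d := 10
  series := [[[0, 1, 7, 6, 3, 2, 5, 4, 9, 8], [0, 1, 5, 7, 8, 2, 3, 9, 6, 4]], [[0, 1, 9, 6, 3, 4, 2, 5, 8, 7], [0, 1, 5, 7, 6, 4, 8, 2, 3, 9]], [[0, 1, 3, 2, 5, 4, 7, 6, 9, 8], [0, 1, 7, 6, 9, 8, 3, 2, 5, 4], [0, 1, 8, 9, 6, 7, 4, 5, 2, 3]]]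
  conjW := [[[([1, 1, 1, 1, 1], [1, 1, 1]), ([0, 0, 0, 0, 0], [0, 0, 0])], [([1, 1, 0, 0, 0, 0], [1, 1, 1, 1, 0]), ([1, 1, 0, 1], [1, 1, 1, 1, 1, 0])]], [[([2, 1], [2]), ([1, 0], [2, 1]), ([0], [2, 1, 0])], [([2], [2, 1]), ([2, 1], [1, 0]), ([2, 1, 0], [0])]], [[], [], []]]
  commW := [[[[], [1, 0, 1]], [[0], []]], [[[], [1]], [[1], []]], [[[], [], []], [[], [], []], [[], [], []]]]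

theorem chkS20 : chkS s20 = true := by decide +kernel

end Cfsg.Agent.Lib.Helper5.OT.D
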