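import Cfsg.Agent.Lib.Helper5.OT3

set_option autoImplicit false
set_option maxRecDepth 100000

/-! generated data: group R11_283 of order 168 and degree 11 -/

namespace Cfsg.Agent.Lib.Helper5.OT.D

/-- enumeration data -/
def e21 : EData where
  d := 11
  gens := [[1, 6, 4, 2, 0, 5, 3, 8, 9, 10, 7], [1, 2, 3, 4, 5, 6, 0, 9, 8, 7, 10]]
  Ls := [[0, 1, 2, 3, 4, 5, 6, 7, 8, 9, 10], [0, 1, 2, 3, 4, 5, 6, 7, 10, 9, 8], [0, 1, 2, 3, 4, 5, 6, 9, 8, 7, 10], [0, 1, 2, 3, 4, 5, 6, 9, 10, 7, 8], [0, 2, 4, 6, 1, 3, 5, 7, 8, 9, 10], [0, 2, 4, 6, 1, 3, 5, 7, 10, 9, 8], [0, 2, 4, 6, 1, 3, 5, 9, 8, 7, 10], [0, 2, 4, 6, 1, 3, 5, 9, 10, 7, 8], [0, 3, 6, 2, 5, 1, 4, 8, 7, 10, 9], [0, 3, 6, 2, 5, 1, 4, 8, 9, 10, 7], [0, 3, 6,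 2, 5, 1, 4, 10, 7, 8, 9], [0, 3, 6, 2, 5, 1, 4, 10, 9, 8, 7], [0, 4, 1, 5, 2, 6, 3, 7, 8, 9, 10], [0, 4, 1, 5, 2, 6, 3, 7, 10, 9, 8], [0, 4, 1, 5, 2, 6, 3, 9, 8, 7, 10], [0, 4, 1, 5, 2, 6, 3, 9, 10, 7, 8], [0, 5, 3, 1, 6, 4, 2, 8, 7, 10, 9], [0, 5, 3, 1, 6, 4, 2, 8, 9, 10, 7], [0, 5, 3, 1, 6, 4, 2, 10, 7, 8, 9], [0, 5, 3, 1, 6, 4, 2, 10, 9, 8, 7], [0, 6, 5, 4, 3, 2, 1, 8, 7, 10, 9], [0, 6, 5, 4, 3, 2, 1, 8, 9, 10, 7], [0, 6, 5, 4, 3, 2, 1, 10, 7, 8, 9], [0, 6, 5, 4, 3, 2, 1, 10, 9, 8, 7], [1, 0, 6, 5, 4, 3, 2, 8, 7, 10, 9], [1, 0, 6, 5, 4, 3, 2, 8, 9, 10, 7], [1, 0, 6, 5, 4, 3, 2, 10, 7, 8, 9], [1, 0, 6, 5, 4, 3, 2, 10, 9, 8, 7], [1, 2, 3, 4, 5, 6, 0, 7, 8, 9, 10], [1, 2, 3, 4, 5, 6, 0, 7, 10, 9, 8], [1, 2,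 3, 4, 5, 6, 0, 9, 8, 7, 10], [1, 2, 3, 4, 5, 6, 0, 9, 10, 7, 8], [1, 3, 5, 0, 2, 4, 6, 7, 8, 9, 10], [1, 3, 5, 0, 2, 4, 6, 7, 10, 9, 8], [1, 3, 5, 0, 2, 4, 6, 9, 8, 7, 10], [1, 3, 5, 0, 2, 4, 6, 9, 10, 7, 8], [1, 4, 0, 3, 6, 2, 5, 8, 7, 10, 9], [1, 4, 0, 3, 6, 2, 5, 8, 9, 10, 7], [1, 4, 0, 3, 6, 2, 5, 10, 7, 8, 9], [1, 4, 0, 3, 6, 2, 5, 10, 9, 8, 7], [1, 5, 2, 6, 3, 0, 4, 7, 8, 9, 10], [1, 5, 2, 6, 3, 0, 4, 7, 10, 9, 8], [1, 5, 2, 6, 3, 0, 4, 9, 8, 7, 10], [1, 5, 2, 6, 3, 0, 4, 9, 10, 7, 8], [1, 6, 4, 2, 0, 5, 3, 8, 7, 10, 9], [1, 6, 4, 2, 0, 5, 3, 8, 9, 10, 7], [1, 6, 4, 2, 0, 5, 3, 10, 7, 8, 9], [1, 6, 4, 2, 0, 5, 3, 10, 9, 8, 7], [2, 0, 5, 3, 1, 6, 4, 8, 7, 10, 9], [2, 0, 5, 3, 1, 6, 4, 8, 9, 10, 7], [2,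 0, 5, 3, 1, 6, 4, 10, 7, 8, 9], [2, 0, 5, 3, 1, 6, 4, 10, 9, 8, 7], [2, 1, 0, 6, 5, 4, 3, 8, 7, 10, 9], [2, 1, 0, 6, 5, 4, 3, 8, 9, 10, 7], [2, 1, 0, 6, 5, 4, 3, 10, 7, 8, 9], [2, 1, 0, 6, 5, 4, 3, 10, 9, 8, 7], [2, 3, 4, 5, 6, 0, 1, 7, 8, 9, 10], [2, 3, 4, 5, 6, 0, 1, 7, 10, 9, 8], [2, 3, 4, 5, 6, 0, 1, 9, 8, 7, 10], [2, 3, 4, 5, 6, 0, 1, 9, 10, 7, 8], [2, 4, 6, 1, 3, 5, 0, 7, 8, 9, 10], [2, 4, 6, 1, 3, 5, 0, 7, 10, 9, 8], [2, 4, 6, 1, 3, 5, 0, 9, 8, 7, 10], [2, 4, 6, 1, 3, 5, 0, 9, 10, 7, 8], [2, 5, 1, 4, 0, 3, 6, 8, 7, 10, 9], [2, 5, 1, 4, 0, 3, 6, 8, 9, 10, 7], [2, 5, 1, 4, 0, 3, 6, 10, 7, 8, 9], [2, 5, 1, 4, 0, 3, 6, 10, 9, 8, 7], [2, 6, 3, 0, 4, 1, 5, 7, 8, 9, 10], [2, 6, 3, 0, 4, 1, 5, 7, 10, 9, 8],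 [2, 6, 3, 0, 4, 1, 5, 9, 8, 7, 10], [2, 6, 3, 0, 4, 1, 5, 9, 10, 7, 8], [3, 0, 4, 1, 5, 2, 6, 7, 8, 9, 10], [3, 0, 4, 1, 5, 2, 6, 7, 10, 9, 8], [3, 0, 4, 1, 5, 2, 6, 9, 8, 7, 10], [3, 0, 4, 1, 5, 2, 6, 9, 10, 7, 8], [3, 1, 6, 4, 2, 0, 5, 8, 7, 10, 9], [3, 1, 6, 4, 2, 0, 5, 8, 9, 10, 7], [3, 1, 6, 4, 2, 0, 5, 10, 7, 8, 9], [3, 1, 6, 4, 2, 0, 5, 10, 9, 8, 7], [3, 2, 1, 0, 6, 5, 4, 8, 7, 10, 9], [3, 2, 1, 0, 6, 5, 4, 8, 9, 10, 7], [3, 2, 1, 0, 6, 5, 4, 10, 7, 8, 9], [3, 2, 1, 0, 6, 5, 4, 10, 9, 8, 7], [3, 4, 5, 6, 0, 1, 2, 7, 8, 9, 10], [3, 4, 5, 6, 0, 1, 2, 7, 10, 9, 8], [3, 4, 5, 6, 0, 1, 2, 9, 8, 7, 10], [3, 4, 5, 6, 0, 1, 2, 9, 10, 7, 8], [3, 5, 0, 2, 4, 6, 1, 7, 8, 9, 10], [3, 5, 0, 2, 4, 6, 1, 7, 10, 9,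 8], [3, 5, 0, 2, 4, 6, 1, 9, 8, 7, 10], [3, 5, 0, 2, 4, 6, 1, 9, 10, 7, 8], [3, 6, 2, 5, 1, 4, 0, 8, 7, 10, 9], [3, 6, 2, 5, 1, 4, 0, 8, 9, 10, 7], [3, 6, 2, 5, 1, 4, 0, 10, 7, 8, 9], [3, 6, 2, 5, 1, 4, 0, 10, 9, 8, 7], [4, 0, 3, 6, 2, 5, 1, 8, 7, 10, 9], [4, 0, 3, 6, 2, 5, 1, 8, 9, 10, 7], [4, 0, 3, 6, 2, 5, 1, 10, 7, 8, 9], [4, 0, 3, 6, 2, 5, 1, 10, 9, 8, 7], [4, 1, 5, 2, 6, 3, 0, 7, 8, 9, 10], [4, 1, 5, 2, 6, 3, 0, 7, 10, 9, 8], [4, 1, 5, 2, 6, 3, 0, 9, 8, 7, 10], [4, 1, 5, 2, 6, 3, 0, 9, 10, 7, 8], [4, 2, 0, 5, 3, 1, 6, 8, 7, 10, 9], [4, 2, 0, 5, 3, 1, 6, 8, 9, 10, 7], [4, 2, 0, 5, 3, 1, 6, 10, 7, 8, 9], [4, 2, 0, 5, 3, 1, 6, 10, 9, 8, 7], [4, 3, 2, 1, 0, 6, 5, 8, 7, 10, 9], [4, 3, 2, 1, 0, 6, 5, 8, 9,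 10, 7], [4, 3, 2, 1, 0, 6, 5, 10, 7, 8, 9], [4, 3, 2, 1, 0, 6, 5, 10, 9, 8, 7], [4, 5, 6, 0, 1, 2, 3, 7, 8, 9, 10], [4, 5, 6, 0, 1, 2, 3, 7, 10, 9, 8], [4, 5, 6, 0, 1, 2, 3, 9, 8, 7, 10], [4, 5, 6, 0, 1, 2, 3, 9, 10, 7, 8], [4, 6, 1, 3, 5, 0, 2, 7, 8, 9, 10], [4, 6, 1, 3, 5, 0, 2, 7, 10, 9, 8], [4, 6, 1, 3, 5, 0, 2, 9, 8, 7, 10], [4, 6, 1, 3, 5, 0, 2, 9, 10, 7, 8], [5, 0, 2, 4, 6, 1, 3, 7, 8, 9, 10], [5, 0, 2, 4, 6, 1, 3, 7, 10, 9, 8], [5, 0, 2, 4, 6, 1, 3, 9, 8, 7, 10], [5, 0, 2, 4, 6, 1, 3, 9, 10, 7, 8], [5, 1, 4, 0, 3, 6, 2, 8, 7, 10, 9], [5, 1, 4, 0, 3, 6, 2, 8, 9, 10, 7], [5, 1, 4, 0, 3, 6, 2, 10, 7, 8, 9], [5, 1, 4, 0, 3, 6, 2, 10, 9, 8, 7], [5, 2, 6, 3, 0, 4, 1, 7, 8, 9, 10], [5, 2, 6, 3, 0, 4, 1, 7,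 10, 9, 8], [5, 2, 6, 3, 0, 4, 1, 9, 8, 7, 10], [5, 2, 6, 3, 0, 4, 1, 9, 10, 7, 8], [5, 3, 1, 6, 4, 2, 0, 8, 7, 10, 9], [5, 3, 1, 6, 4, 2, 0, 8, 9, 10, 7], [5, 3, 1, 6, 4, 2, 0, 10, 7, 8, 9], [5, 3, 1, 6, 4, 2, 0, 10, 9, 8, 7], [5, 4, 3, 2, 1, 0, 6, 8, 7, 10, 9], [5, 4, 3, 2, 1, 0, 6, 8, 9, 10, 7], [5, 4, 3, 2, 1, 0, 6, 10, 7, 8, 9], [5, 4, 3, 2, 1, 0, 6, 10, 9, 8, 7], [5, 6, 0, 1, 2, 3, 4, 7, 8, 9, 10], [5, 6, 0, 1, 2, 3, 4, 7, 10, 9, 8], [5, 6, 0, 1, 2, 3, 4, 9, 8, 7, 10], [5, 6, 0, 1, 2, 3, 4, 9, 10, 7, 8], [6, 0, 1, 2, 3, 4, 5, 7, 8, 9, 10], [6, 0, 1, 2, 3, 4, 5, 7, 10, 9, 8], [6, 0, 1, 2, 3, 4, 5, 9, 8, 7, 10], [6, 0, 1, 2, 3, 4, 5, 9, 10, 7, 8], [6, 1, 3, 5, 0, 2, 4, 7, 8, 9, 10], [6, 1, 3, 5, 0, 2, 4,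 7, 10, 9, 8], [6, 1, 3, 5, 0, 2, 4, 9, 8, 7, 10], [6, 1, 3, 5, 0, 2, 4, 9, 10, 7, 8], [6, 2, 5, 1, 4, 0, 3, 8, 7, 10, 9], [6, 2, 5, 1, 4, 0, 3, 8, 9, 10, 7], [6, 2, 5, 1, 4, 0, 3, 10, 7, 8, 9], [6, 2, 5, 1, 4, 0, 3, 10, 9, 8, 7], [6, 3, 0, 4, 1, 5, 2, 7, 8, 9, 10], [6, 3, 0, 4, 1, 5, 2, 7, 10, 9, 8], [6, 3, 0, 4, 1, 5, 2, 9, 8, 7, 10], [6, 3, 0, 4, 1, 5, 2, 9, 10, 7, 8], [6, 4, 2, 0, 5, 3, 1, 8, 7, 10, 9], [6, 4, 2, 0, 5, 3, 1, 8, 9, 10, 7], [6, 4, 2, 0, 5, 3, 1, 10, 7, 8, 9], [6, 4, 2, 0, 5, 3, 1, 10, 9, 8, 7], [6, 5, 4, 3, 2, 1, 0, 8, 7, 10, 9], [6, 5, 4, 3, 2, 1, 0, 8, 9, 10, 7], [6, 5, 4, 3, 2, 1, 0, 10, 7, 8, 9], [6, 5, 4, 3, 2, 1, 0, 10, 9, 8, 7]]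
  nxt := [[45, 30], [44, 31], [47, 28], [46, 29], [37, 34], [36, 35], [39, 32], [38, 33], [30, 37], [31, 36], [28, 39], [29, 38], [25, 42], [24, 43], [27, 40], [26, 41], [42, 45], [43, 44], [40, 47], [41, 46], [34, 25], [35, 24], [32, 27], [33, 26], [150, 53], [151, 52], [148, 55], [149, 54], [161, 58], [160, 59], [163, 56], [162, 57], [153, 62], [152, 63], [155, 60], [154, 61], [146, 65], [147, 64], [144, 67], [145, 66], [165, 70], [164, 71], [167, 68], [166, 69], [158, 49], [159, 48], [156, 51], [157, 50], [102, 77], [103, 76], [100, 79], [101, 78], [118, 81], [119, 80], [116, 83], [117, 82], [105, 86], [104, 87], [107, 84], [106, 85], [97, 90], [96, 91], [99, 88], [98, 89], [114, 93], [115, 92], [112, 95],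 [113, 94], [109, 74], [108, 75], [111, 72], [110, 73], [53, 102], [52, 103], [55, 100], [54, 101], [70, 105], [71, 104], [68, 107], [69, 106], [62, 109], [63, 108], [60, 111], [61, 110], [49, 114], [48, 115], [51, 112], [50, 113], [65, 118], [64, 119], [67, 116], [66, 117], [58, 97], [59, 96], [56, 99], [57, 98], [2, 125], [3, 124], [0, 127], [1, 126], [21, 130], [20, 131], [23, 128], [22, 129], [14, 133], [15, 132], [12, 135], [13, 134], [6, 137], [7, 136], [4, 139], [5, 138], [17, 142], [16, 143], [19, 140], [18, 141], [9, 122], [8, 123], [11, 120], [10, 121], [125, 150], [124, 151], [127, 148], [126, 149], [142, 153], [143, 152], [140, 155], [141, 154], [137, 158], [136, 159], [139, 156], [138, 157], [130,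 161], [131, 160], [128, 163], [129, 162], [122, 165], [123, 164], [120, 167], [121, 166], [133, 146], [132, 147], [135, 144], [134, 145], [77, 2], [76, 3], [79, 0], [78, 1], [93, 6], [92, 7], [95, 4], [94, 5], [86, 9], [87, 8], [84, 11], [85, 10], [81, 14], [80, 15], [83, 12], [82, 13], [74, 17], [75, 16], [72, 19], [73, 18], [90, 21], [91, 20], [88, 23], [89, 22]]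
  words := [[], [0, 1, 1, 0, 1, 0, 0, 0, 0], [1, 1, 1, 1, 1, 1, 1], [0, 0, 0, 0, 0, 0], [1, 0, 0, 1, 0, 0], [0, 1, 0, 0, 0], [0, 0, 1, 1, 1, 0, 0], [0, 1, 1, 1, 0, 1, 0, 0], [1, 1, 1, 0, 0, 0, 0, 0], [0, 1, 1, 0, 0, 0, 0], [0, 0, 1, 0, 1, 0, 0], [0, 0, 0, 0, 0, 1], [1, 1, 1, 0, 1, 0], [1, 0, 0], [0, 1, 1, 1, 0], [0, 0, 1, 1], [1, 1, 1, 0, 1, 1], [0, 1, 1, 1, 1], [1, 0, 1], [1, 1, 0, 1, 1, 1, 1, 1], [1, 0, 0, 1, 0, 1], [1, 1, 0, 1, 0, 1, 0], [0, 1, 0, 0, 1], [0, 0, 1, 0], [0, 1, 0, 0], [0, 1, 1, 1, 0, 1, 0], [1, 0, 0, 1, 0], [0, 0, 1, 1, 1, 0], [0, 0, 0, 1, 0, 1, 0, 0], [1, 0, 0, 0, 0, 0, 0], [1], [0, 0, 1, 1, 0, 0, 0, 0], [0, 0, 1, 0, 0, 1], [0, 0, 0, 1, 0], [1, 1, 0, 0, 1, 0, 0], [1, 0, 1, 0, 0, 0], [0, 0,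 1, 0, 0, 0], [0, 1, 0, 0, 1, 0, 0], [1, 0, 0, 0, 0, 0, 1], [1, 0, 0, 1, 0, 1, 0, 0], [0, 1, 0, 1], [1, 0, 0, 1, 1], [1, 1, 1, 1, 0, 1, 0], [1, 1, 0, 0], [1, 0, 1, 1, 1, 1], [0], [0, 0, 0, 0, 0, 0, 0], [1, 1, 0, 1], [1, 0], [1, 1, 0, 1, 1, 1, 1], [1, 1, 1, 0, 1], [0, 1, 1, 1], [0, 0, 0, 1], [1, 0, 1, 0, 0], [0, 1, 1, 1, 1, 0, 0], [1, 1, 0, 0, 1, 0], [1, 1], [0, 0, 0, 0, 1, 0, 0], [0, 1, 1, 0, 0, 1, 0, 0, 0], [1, 1, 0, 0, 0, 0, 0, 0], [0, 0, 0, 0], [1, 1, 0, 1, 0, 0, 0], [0, 1, 1, 0, 1, 0, 0], [1, 0, 0, 0, 1, 0], [0, 0, 1, 1, 1, 0, 0, 0], [1, 0, 0, 1, 0, 0, 0], [0, 0, 0, 0, 1, 0, 1], [0, 1, 0, 0, 0, 0], [0, 1, 0, 1, 1, 1], [1, 1, 1, 0, 0], [1, 0, 1, 0, 1], [0, 1, 1, 0], [1, 1, 0, 1, 0, 1], [0, 0, 1], [0, 1, 1,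 1, 1, 1, 0], [1, 1, 1, 1, 0, 0], [1, 1, 1, 0, 1, 1, 1, 1], [1, 1, 0], [1, 0, 1, 1, 1], [1, 1, 1, 1, 0, 1], [1, 1, 0, 1, 0, 0], [1, 0, 0, 0, 1], [0, 0, 0], [0, 1, 1, 0, 1, 0], [0, 0, 1, 0, 1, 0, 0, 0], [1, 1, 1, 0, 0, 0, 0, 0, 0], [1, 1, 1], [0, 1, 1, 0, 0, 0, 0, 0], [0, 0, 1, 1, 0, 0], [0, 1, 1, 1, 0, 0, 0], [1, 0, 0, 0, 0], [0, 0, 0, 1, 0, 1], [1, 1, 0, 0, 1, 0, 0, 0], [0, 0, 1, 0, 0, 1, 0], [1, 0, 1, 0, 0, 0, 0], [0, 0, 0, 1, 0, 0], [0, 1, 1, 0, 1, 0, 0, 0], [0, 0, 0, 0, 0], [1, 0, 0, 0, 1, 0, 0], [1, 1, 0, 1, 0, 0, 0, 0], [0, 1, 1, 1, 0, 1], [0, 0, 1, 1, 1], [0, 1, 0], [1, 0, 0, 1], [1, 1, 1, 0], [0, 1, 1], [1, 1, 1, 1, 1, 0, 1], [1, 1, 0, 1, 1, 1], [0, 1, 1, 1, 0, 0], [1, 1, 1, 0, 1, 0, 0], [0, 0, 1, 1,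 0], [1, 0, 0, 0], [1, 1, 1, 1], [0, 0, 1, 0, 0, 0, 0], [1, 0, 0, 1, 0, 1, 0, 0, 0], [0, 1, 0, 0, 1, 0, 0, 0], [1, 1, 0, 0, 0, 0], [0, 1, 1, 0, 0, 1, 0], [0, 0, 0, 0, 1], [0, 1, 0, 1, 0, 0], [0, 1, 1, 0, 0, 0], [1, 0, 1, 0, 1, 0, 0], [1, 1, 1, 0, 0, 0, 0], [0, 0, 1, 0, 1, 0], [1, 0, 0, 0, 0, 0], [0, 0, 1, 1, 0, 0, 0], [0, 0, 0, 1, 0, 1, 0], [0, 1, 1, 1, 0, 0, 0, 0], [1, 0, 1, 0], [1, 1, 0, 0, 1], [0, 1, 0, 1, 1], [0, 1, 1, 1, 1, 0], [1, 0, 1, 1], [1, 1, 1, 1, 0], [1, 1, 1, 0, 1, 1, 1], [0, 1, 1, 1, 1, 1], [0, 1, 1, 0, 0, 1], [0, 1, 0, 1, 0], [1, 1, 0, 0, 0], [1, 0, 0, 1, 1, 0], [0, 0, 0, 0, 1, 0, 1, 0], [0, 0, 1, 1, 1, 0, 0, 0, 0], [1, 1, 1, 1, 1], [1, 0, 0, 1, 0, 0, 0, 0], [1, 1, 1, 1, 1, 1], [1, 1, 0, 0, 1,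 0, 0, 0, 0], [0, 0, 0, 1, 0, 0, 0], [0, 0, 1, 0, 0, 1, 0, 0], [0, 1, 0, 0, 1, 0], [1, 0, 0, 1, 0, 1, 0], [0, 0, 1, 0, 0], [1, 1, 0, 1, 0, 1, 0, 0], [0, 0, 0, 0, 1, 0], [1, 1, 0, 0, 0, 0, 0], [0, 1, 0, 1, 0, 0, 0], [0, 1, 1, 0, 0, 1, 0, 0], [1, 0, 1, 0, 1, 1], [0, 1, 1, 0, 1], [1, 1, 0, 1, 0], [0, 0], [1, 1, 1, 1, 1, 0], [1, 1, 0, 1, 1], [1, 0, 1, 1, 1, 1, 1], [0, 1], [1, 0, 1, 0, 1, 0], [0, 0, 1, 0, 1], [0, 1, 1, 0, 0], [1, 1, 1, 0, 0, 0]]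

/-- element orders -/
def ords21 : List ℕ := [1, 2, 2, 2, 3, 6, 6, 6, 6, 12, 12, 6, 3, 6, 6, 6, 6, 12, 12, 6, 2, 4, 4, 2, 2, 4, 4, 2, 7, 14, 14, 14, 3, 6, 6, 6, 6, 12, 12, 6, 3, 6, 6, 6, 6, 12, 12, 6, 6, 12, 12, 6, 2, 4, 4, 2, 7, 14, 14, 14, 3, 6, 6, 6, 6, 12, 12, 6, 3, 6, 6, 6, 3, 6, 6, 6, 6, 12, 12, 6, 2, 4, 4, 2, 7, 14, 14, 14, 3, 6, 6, 6, 6, 12, 12, 6, 6, 12, 12, 6, 3, 6, 6, 6, 6, 12, 12, 6, 2, 4, 4, 2, 7, 14, 14, 14, 3, 6, 6, 6, 3, 6, 6, 6, 6, 12, 12, 6, 3, 6, 6, 6, 6, 12, 12, 6, 2, 4, 4, 2, 7, 14, 14, 14, 7, 14, 14, 14, 3, 6, 6, 6, 6, 12, 12, 6, 3, 6, 6, 6, 6, 12, 12, 6, 2, 4, 4, 2]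

theorem chk21 : chkAll e21 = true := by decide +kernel

theorem ord21 : e21.Ls.map (rord e21.d) = ords21 := by decide +kernel

theorem nz21 : ∀ k ∈ ords21, k ≠ 0 := by decide +kernel

theorem ex21 : ∀ k ∈ ords21, k ∣ 84 := by decide +kernel

/-- solvable series data -/
def s21 : SData where
  d := 11
  series := [[[1, 6, 4, 2, 0, 5, 3, 8, 9, 10, 7], [1, 2, 3, 4, 5, 6, 0, 9, 8, 7, 10]], [[6, 0, 1, 2, 3, 4, 5, 9, 10, 7, 8]]]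
  conjW := [[[([0, 0, 0, 0, 0], [0, 0, 0])], [([0], [0])]], [[]]]
  commW := [[[[], [0, 0, 0]], [[0, 0, 0, 0, 0, 0, 0, 0, 0, 0, 0], []]], [[[]]]]

theorem chkS21 : chkS s21 = true := by decide +kernel

end Cfsg.Agent.Lib.Helper5.OT.D
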