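import Cfsg.Agent.Lib.Helper5.OT3

set_option autoImplicit false
set_option maxRecDepth 100000

/-! generated data: group R11_21055 of order 168 and degree 11 -/

namespace Cfsg.Agent.Lib.Helper5.OT.D

/-- enumeration data -/
def e23 : EData where
  d := 11
  gens := [[3, 2, 1, 0, 6, 5, 4, 8, 7, 9, 10], [0, 6, 5, 4, 3, 2, 1, 8, 7, 9, 10], [1, 2, 3, 4, 5, 6, 0, 7, 9, 10, 8]]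
  Ls := [[0, 1, 2, 3, 4, 5, 6, 7, 8, 9, 10], [0, 1, 2, 3, 4, 5, 6, 7, 9, 10, 8], [0, 1, 2, 3, 4, 5, 6, 7, 10, 8, 9], [0, 1, 2, 3, 4, 5, 6, 8, 7, 10, 9], [0, 1, 2, 3, 4, 5, 6, 8, 9, 7, 10], [0, 1, 2, 3, 4, 5, 6, 8, 10, 9, 7], [0, 1, 2, 3, 4, 5, 6, 9, 7, 8, 10], [0, 1, 2, 3, 4, 5, 6, 9, 8, 10, 7], [0, 1, 2, 3, 4, 5, 6, 9, 10, 7, 8], [0, 1, 2, 3, 4, 5, 6, 10, 7, 9, 8], [0, 1, 2, 3, 4, 5, 6, 10, 8, 7, 9], [0, 1, 2, 3, 4, 5, 6, 10, 9, 8, 7], [0, 6, 5, 4, 3, 2, 1, 7, 8, 10, 9], [0, 6, 5, 4, 3, 2, 1, 7, 9, 8, 10], [0, 6, 5, 4, 3, 2, 1, 7, 10, 9, 8], [0, 6, 5, 4, 3, 2, 1, 8, 7, 9, 10], [0, 6, 5, 4, 3, 2, 1, 8, 9, 10, 7], [0, 6, 5, 4, 3, 2, 1, 8, 10, 7, 9], [0, 6, 5, 4, 3, 2, 1, 9, 7, 10, 8], [0, 6, 5, 4, 3, 2, 1, 9, 8, 7, 10],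 [0, 6, 5, 4, 3, 2, 1, 9, 10, 8, 7], [0, 6, 5, 4, 3, 2, 1, 10, 7, 8, 9], [0, 6, 5, 4, 3, 2, 1, 10, 8, 9, 7], [0, 6, 5, 4, 3, 2, 1, 10, 9, 7, 8], [1, 0, 6, 5, 4, 3, 2, 7, 8, 10, 9], [1, 0, 6, 5, 4, 3, 2, 7, 9, 8, 10], [1, 0, 6, 5, 4, 3, 2, 7, 10, 9, 8], [1, 0, 6, 5, 4, 3, 2, 8, 7, 9, 10], [1, 0, 6, 5, 4, 3, 2, 8, 9, 10, 7], [1, 0, 6, 5, 4, 3, 2, 8, 10, 7, 9], [1, 0, 6, 5, 4, 3, 2, 9, 7, 10, 8], [1, 0, 6, 5, 4, 3, 2, 9, 8, 7, 10], [1, 0, 6, 5, 4, 3, 2, 9, 10, 8, 7], [1, 0, 6, 5, 4, 3, 2, 10, 7, 8, 9], [1, 0, 6, 5, 4, 3, 2, 10, 8, 9, 7], [1, 0, 6, 5, 4, 3, 2, 10, 9, 7, 8], [1, 2, 3, 4, 5, 6, 0, 7, 8, 9, 10], [1, 2, 3, 4, 5, 6, 0, 7, 9, 10, 8], [1, 2, 3, 4, 5, 6, 0, 7, 10, 8, 9], [1, 2, 3, 4, 5, 6, 0, 8, 7, 10, 9], [1, 2,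 3, 4, 5, 6, 0, 8, 9, 7, 10], [1, 2, 3, 4, 5, 6, 0, 8, 10, 9, 7], [1, 2, 3, 4, 5, 6, 0, 9, 7, 8, 10], [1, 2, 3, 4, 5, 6, 0, 9, 8, 10, 7], [1, 2, 3, 4, 5, 6, 0, 9, 10, 7, 8], [1, 2, 3, 4, 5, 6, 0, 10, 7, 9, 8], [1, 2, 3, 4, 5, 6, 0, 10, 8, 7, 9], [1, 2, 3, 4, 5, 6, 0, 10, 9, 8, 7], [2, 1, 0, 6, 5, 4, 3, 7, 8, 10, 9], [2, 1, 0, 6, 5, 4, 3, 7, 9, 8, 10], [2, 1, 0, 6, 5, 4, 3, 7, 10, 9, 8], [2, 1, 0, 6, 5, 4, 3, 8, 7, 9, 10], [2, 1, 0, 6, 5, 4, 3, 8, 9, 10, 7], [2, 1, 0, 6, 5, 4, 3, 8, 10, 7, 9], [2, 1, 0, 6, 5, 4, 3, 9, 7, 10, 8], [2, 1, 0, 6, 5, 4, 3, 9, 8, 7, 10], [2, 1, 0, 6, 5, 4, 3, 9, 10, 8, 7], [2, 1, 0, 6, 5, 4, 3, 10, 7, 8, 9], [2, 1, 0, 6, 5, 4, 3, 10, 8, 9, 7], [2, 1, 0, 6, 5, 4, 3, 10, 9, 7, 8], [2, 3, 4, 5,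 6, 0, 1, 7, 8, 9, 10], [2, 3, 4, 5, 6, 0, 1, 7, 9, 10, 8], [2, 3, 4, 5, 6, 0, 1, 7, 10, 8, 9], [2, 3, 4, 5, 6, 0, 1, 8, 7, 10, 9], [2, 3, 4, 5, 6, 0, 1, 8, 9, 7, 10], [2, 3, 4, 5, 6, 0, 1, 8, 10, 9, 7], [2, 3, 4, 5, 6, 0, 1, 9, 7, 8, 10], [2, 3, 4, 5, 6, 0, 1, 9, 8, 10, 7], [2, 3, 4, 5, 6, 0, 1, 9, 10, 7, 8], [2, 3, 4, 5, 6, 0, 1, 10, 7, 9, 8], [2, 3, 4, 5, 6, 0, 1, 10, 8, 7, 9], [2, 3, 4, 5, 6, 0, 1, 10, 9, 8, 7], [3, 2, 1, 0, 6, 5, 4, 7, 8, 10, 9], [3, 2, 1, 0, 6, 5, 4, 7, 9, 8, 10], [3, 2, 1, 0, 6, 5, 4, 7, 10, 9, 8], [3, 2, 1, 0, 6, 5, 4, 8, 7, 9, 10], [3, 2, 1, 0, 6, 5, 4, 8, 9, 10, 7], [3, 2, 1, 0, 6, 5, 4, 8, 10, 7, 9], [3, 2, 1, 0, 6, 5, 4, 9, 7, 10, 8], [3, 2, 1, 0, 6, 5, 4, 9, 8, 7, 10], [3, 2, 1, 0, 6, 5,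 4, 9, 10, 8, 7], [3, 2, 1, 0, 6, 5, 4, 10, 7, 8, 9], [3, 2, 1, 0, 6, 5, 4, 10, 8, 9, 7], [3, 2, 1, 0, 6, 5, 4, 10, 9, 7, 8], [3, 4, 5, 6, 0, 1, 2, 7, 8, 9, 10], [3, 4, 5, 6, 0, 1, 2, 7, 9, 10, 8], [3, 4, 5, 6, 0, 1, 2, 7, 10, 8, 9], [3, 4, 5, 6, 0, 1, 2, 8, 7, 10, 9], [3, 4, 5, 6, 0, 1, 2, 8, 9, 7, 10], [3, 4, 5, 6, 0, 1, 2, 8, 10, 9, 7], [3, 4, 5, 6, 0, 1, 2, 9, 7, 8, 10], [3, 4, 5, 6, 0, 1, 2, 9, 8, 10, 7], [3, 4, 5, 6, 0, 1, 2, 9, 10, 7, 8], [3, 4, 5, 6, 0, 1, 2, 10, 7, 9, 8], [3, 4, 5, 6, 0, 1, 2, 10, 8, 7, 9], [3, 4, 5, 6, 0, 1, 2, 10, 9, 8, 7], [4, 3, 2, 1, 0, 6, 5, 7, 8, 10, 9], [4, 3, 2, 1, 0, 6, 5, 7, 9, 8, 10], [4, 3, 2, 1, 0, 6, 5, 7, 10, 9, 8], [4, 3, 2, 1, 0, 6, 5, 8, 7, 9, 10], [4, 3, 2, 1, 0, 6, 5, 8,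 9, 10, 7], [4, 3, 2, 1, 0, 6, 5, 8, 10, 7, 9], [4, 3, 2, 1, 0, 6, 5, 9, 7, 10, 8], [4, 3, 2, 1, 0, 6, 5, 9, 8, 7, 10], [4, 3, 2, 1, 0, 6, 5, 9, 10, 8, 7], [4, 3, 2, 1, 0, 6, 5, 10, 7, 8, 9], [4, 3, 2, 1, 0, 6, 5, 10, 8, 9, 7], [4, 3, 2, 1, 0, 6, 5, 10, 9, 7, 8], [4, 5, 6, 0, 1, 2, 3, 7, 8, 9, 10], [4, 5, 6, 0, 1, 2, 3, 7, 9, 10, 8], [4, 5, 6, 0, 1, 2, 3, 7, 10, 8, 9], [4, 5, 6, 0, 1, 2, 3, 8, 7, 10, 9], [4, 5, 6, 0, 1, 2, 3, 8, 9, 7, 10], [4, 5, 6, 0, 1, 2, 3, 8, 10, 9, 7], [4, 5, 6, 0, 1, 2, 3, 9, 7, 8, 10], [4, 5, 6, 0, 1, 2, 3, 9, 8, 10, 7], [4, 5, 6, 0, 1, 2, 3, 9, 10, 7, 8], [4, 5, 6, 0, 1, 2, 3, 10, 7, 9, 8], [4, 5, 6, 0, 1, 2, 3, 10, 8, 7, 9], [4, 5, 6, 0, 1, 2, 3, 10, 9, 8, 7], [5, 4, 3, 2, 1, 0, 6, 7, 8, 10,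 9], [5, 4, 3, 2, 1, 0, 6, 7, 9, 8, 10], [5, 4, 3, 2, 1, 0, 6, 7, 10, 9, 8], [5, 4, 3, 2, 1, 0, 6, 8, 7, 9, 10], [5, 4, 3, 2, 1, 0, 6, 8, 9, 10, 7], [5, 4, 3, 2, 1, 0, 6, 8, 10, 7, 9], [5, 4, 3, 2, 1, 0, 6, 9, 7, 10, 8], [5, 4, 3, 2, 1, 0, 6, 9, 8, 7, 10], [5, 4, 3, 2, 1, 0, 6, 9, 10, 8, 7], [5, 4, 3, 2, 1, 0, 6, 10, 7, 8, 9], [5, 4, 3, 2, 1, 0, 6, 10, 8, 9, 7], [5, 4, 3, 2, 1, 0, 6, 10, 9, 7, 8], [5, 6, 0, 1, 2, 3, 4, 7, 8, 9, 10], [5, 6, 0, 1, 2, 3, 4, 7, 9, 10, 8], [5, 6, 0, 1, 2, 3, 4, 7, 10, 8, 9], [5, 6, 0, 1, 2, 3, 4, 8, 7, 10, 9], [5, 6, 0, 1, 2, 3, 4, 8, 9, 7, 10], [5, 6, 0, 1, 2, 3, 4, 8, 10, 9, 7], [5, 6, 0, 1, 2, 3, 4, 9, 7, 8, 10], [5, 6, 0, 1, 2, 3, 4, 9, 8, 10, 7], [5, 6, 0, 1, 2, 3, 4, 9, 10, 7, 8], [5,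 6, 0, 1, 2, 3, 4, 10, 7, 9, 8], [5, 6, 0, 1, 2, 3, 4, 10, 8, 7, 9], [5, 6, 0, 1, 2, 3, 4, 10, 9, 8, 7], [6, 0, 1, 2, 3, 4, 5, 7, 8, 9, 10], [6, 0, 1, 2, 3, 4, 5, 7, 9, 10, 8], [6, 0, 1, 2, 3, 4, 5, 7, 10, 8, 9], [6, 0, 1, 2, 3, 4, 5, 8, 7, 10, 9], [6, 0, 1, 2, 3, 4, 5, 8, 9, 7, 10], [6, 0, 1, 2, 3, 4, 5, 8, 10, 9, 7], [6, 0, 1, 2, 3, 4, 5, 9, 7, 8, 10], [6, 0, 1, 2, 3, 4, 5, 9, 8, 10, 7], [6, 0, 1, 2, 3, 4, 5, 9, 10, 7, 8], [6, 0, 1, 2, 3, 4, 5, 10, 7, 9, 8], [6, 0, 1, 2, 3, 4, 5, 10, 8, 7, 9], [6, 0, 1, 2, 3, 4, 5, 10, 9, 8, 7], [6, 5, 4, 3, 2, 1, 0, 7, 8, 10, 9], [6, 5, 4, 3, 2, 1, 0, 7, 9, 8, 10], [6, 5, 4, 3, 2, 1, 0, 7, 10, 9, 8], [6, 5, 4, 3, 2, 1, 0, 8, 7, 9, 10], [6, 5, 4, 3, 2, 1, 0, 8, 9, 10, 7], [6, 5, 4,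 3, 2, 1, 0, 8, 10, 7, 9], [6, 5, 4, 3, 2, 1, 0, 9, 7, 10, 8], [6, 5, 4, 3, 2, 1, 0, 9, 8, 7, 10], [6, 5, 4, 3, 2, 1, 0, 9, 10, 8, 7], [6, 5, 4, 3, 2, 1, 0, 10, 7, 8, 9], [6, 5, 4, 3, 2, 1, 0, 10, 8, 9, 7], [6, 5, 4, 3, 2, 1, 0, 10, 9, 7, 8]]
  nxt := [[75, 15, 37], [76, 16, 38], [77, 17, 36], [72, 12, 42], [73, 13, 44], [74, 14, 43], [79, 19, 45], [78, 18, 47], [80, 20, 46], [82, 22, 39], [81, 21, 40], [83, 23, 41], [87, 3, 25], [88, 4, 26], [89, 5, 24], [84, 0, 30], [85, 1, 32], [86, 2, 31], [91, 7, 33], [90, 6, 35], [92, 8, 34], [94, 10, 27], [93, 9, 28], [95, 11, 29], [63, 147, 49], [64, 148, 50], [65, 149, 48], [60, 144, 54], [61, 145, 56], [62, 146, 55], [67, 151, 57], [66, 150, 59], [68, 152, 58], [70, 154, 51],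 [69, 153, 52], [71, 155, 53], [51, 159, 61], [52, 160, 62], [53, 161, 60], [48, 156, 66], [49, 157, 68], [50, 158, 67], [55, 163, 69], [54, 162, 71], [56, 164, 70], [58, 166, 63], [57, 165, 64], [59, 167, 65], [39, 135, 73], [40, 136, 74], [41, 137, 72], [36, 132, 78], [37, 133, 80], [38, 134, 79], [43, 139, 81], [42, 138, 83], [44, 140, 82], [46, 142, 75], [45, 141, 76], [47, 143, 77], [27, 123, 85], [28, 124, 86], [29, 125, 84], [24, 120, 90], [25, 121, 92], [26, 122, 91], [31, 127, 93], [30, 126, 95], [32, 128, 94], [34, 130, 87], [33, 129, 88], [35, 131, 89], [3, 111, 97], [4, 112, 98], [5, 113, 96], [0, 108, 102], [1, 109, 104], [2, 110, 103], [7, 115, 105], [6, 114, 107], [8, 116, 106], [10, 118, 99], [9, 117,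 100], [11, 119, 101], [15, 99, 109], [16, 100, 110], [17, 101, 108], [12, 96, 114], [13, 97, 116], [14, 98, 115], [19, 103, 117], [18, 102, 119], [20, 104, 118], [22, 106, 111], [21, 105, 112], [23, 107, 113], [147, 87, 121], [148, 88, 122], [149, 89, 120], [144, 84, 126], [145, 85, 128], [146, 86, 127], [151, 91, 129], [150, 90, 131], [152, 92, 130], [154, 94, 123], [153, 93, 124], [155, 95, 125], [159, 75, 133], [160, 76, 134], [161, 77, 132], [156, 72, 138], [157, 73, 140], [158, 74, 139], [163, 79, 141], [162, 78, 143], [164, 80, 142], [166, 82, 135], [165, 81, 136], [167, 83, 137], [135, 63, 157], [136, 64, 158], [137, 65, 156], [132, 60, 162], [133, 61, 164], [134, 62, 163], [139, 67, 165], [138, 66, 167], [140,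 68, 166], [142, 70, 159], [141, 69, 160], [143, 71, 161], [123, 51, 145], [124, 52, 146], [125, 53, 144], [120, 48, 150], [121, 49, 152], [122, 50, 151], [127, 55, 153], [126, 54, 155], [128, 56, 154], [130, 58, 147], [129, 57, 148], [131, 59, 149], [99, 27, 1], [100, 28, 2], [101, 29, 0], [96, 24, 6], [97, 25, 8], [98, 26, 7], [103, 31, 9], [102, 30, 11], [104, 32, 10], [106, 34, 3], [105, 33, 4], [107, 35, 5], [111, 39, 13], [112, 40, 14], [113, 41, 12], [108, 36, 18], [109, 37, 20], [110, 38, 19], [115, 43, 21], [114, 42, 23], [116, 44, 22], [118, 46, 15], [117, 45, 16], [119, 47, 17]]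
  words := [[], [2, 0, 1, 0, 1], [1, 2, 0, 2, 1, 2, 0], [2, 0, 2, 2, 0, 2], [2, 1, 2, 2, 0, 1, 0], [2, 2, 0, 2, 1, 0, 1], [0, 2, 1, 2, 2, 0, 1], [1, 2, 0, 1, 0], [0, 2, 0, 2], [1, 2, 2, 0, 2, 1, 0], [2, 0, 2, 1, 2, 0, 1], [2, 0, 2, 0], [2, 1, 2, 2, 0, 2, 0], [0, 2, 1, 2, 2, 0], [1, 2, 2, 0, 2, 1, 0, 1], [1], [1, 2, 0, 1, 0, 1], [2, 0, 2, 1, 2, 0], [2, 0, 1, 0], [2, 1, 2, 2, 0, 1, 0, 1], [2, 1, 2], [1, 2, 0, 2, 1, 2, 0, 1], [2, 2, 0, 2, 1, 0], [1, 2, 0, 2, 0], [1, 2, 2, 0, 2, 1, 2, 2], [1, 2, 0, 2, 2, 0], [2, 0, 2, 1, 2, 2, 0], [1, 0, 1, 0, 1], [0, 2, 1, 0, 1, 0], [0, 2, 2], [2, 1], [2, 2, 0, 2, 1, 2, 0], [2, 1, 2, 0, 1, 0, 1], [2, 2, 0, 1, 0], [2, 2, 1, 2], [1, 2, 0, 2, 1, 0, 1], [1, 0, 1, 0], [2], [2, 2, 0, 1, 0, 1],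 [2, 1, 2, 2, 0, 2, 1, 0], [2, 2, 0, 2, 1, 2, 0, 1], [2, 2, 0, 2, 0], [0, 2, 0, 2, 2], [0, 2, 1, 0, 1, 0, 1], [1, 2, 0, 2, 1, 0], [2, 0, 2, 1, 2, 2, 0, 1], [0, 2, 2, 1], [2, 1, 2, 0, 1, 0], [2, 2, 0, 2, 1, 2, 2, 0], [1, 2, 2, 0, 2, 1, 2], [0, 2, 2, 0, 2, 0], [0, 1, 0, 1, 0], [0, 2], [1, 2, 2, 0, 1], [2, 1, 0, 1, 0, 1], [2, 0, 2, 2], [2, 0, 2, 1, 0, 1, 0], [2, 2, 1], [1, 2, 0, 2, 1, 2, 2], [0, 2, 1, 2, 0, 1, 0], [0, 1, 0, 1, 0, 1], [2, 1, 0, 1, 0], [2, 2], [2, 2, 0, 2, 1, 2, 2, 0, 1], [2, 0, 2, 2, 1], [2, 2, 1, 2, 0, 1, 0], [1, 2, 0, 2, 2, 1, 0], [0, 2, 1], [0, 2, 1, 2, 0, 1, 0, 1], [0, 2, 2, 1, 2], [1, 2, 2, 0], [2, 0, 2, 1, 0, 1, 0, 1], [2, 0, 2, 2, 0, 2, 0], [0, 2, 1, 2, 2, 0, 1, 0], [1, 2, 2, 0, 2, 1], [0], [1, 2,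 0, 1], [2, 0, 2, 1, 2, 0, 1, 0], [2, 0, 1, 0, 1, 0], [2, 1, 2, 2, 0, 1], [2, 0, 2], [1, 2, 0, 2, 1, 2], [2, 2, 0, 2, 1, 0, 1, 0], [0, 2, 0, 2, 0], [0, 1], [2, 0, 1, 0, 1, 0, 1], [2, 2, 1, 0, 1, 0], [2, 0, 2, 2, 1, 2], [2, 1, 2, 2, 0], [2, 2, 0, 2, 1, 0, 1, 0, 1], [0, 2, 1, 2, 2, 0, 1, 0, 1], [1, 2, 0], [0, 2, 1, 2], [1, 2, 2, 0, 2], [1, 2, 2, 0, 1, 0, 1, 0], [2, 0, 2, 1], [2, 1, 2, 2, 0, 2, 1], [0, 2, 0, 2, 2, 0], [2, 0, 2, 1, 2, 2, 0, 1, 0], [1, 0, 1], [0, 2, 1, 0, 1, 0, 1, 0], [0, 2, 2, 1, 0], [2, 0], [2, 2, 0, 2, 1, 2, 0, 1, 0], [2, 1, 2, 0, 1], [2, 2, 0, 1, 0, 1, 0], [2, 2, 0, 2], [1, 2, 0, 2, 1], [1, 0], [2, 0, 1], [2, 2, 0, 1, 0, 1, 0, 1], [2, 1, 2, 2, 0, 2], [2, 1, 2, 2, 0, 1, 0, 1, 0], [2, 2, 0, 2, 1], [0, 2,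 1, 2, 2], [1, 2, 0, 1, 0, 1, 0], [1, 2, 0, 2], [1, 2, 2, 0, 2, 1, 0, 1, 0], [2, 0, 2, 1, 2], [2, 1, 2, 0], [2, 2, 0, 2, 1, 2, 2, 0, 1, 0], [1, 2, 0, 2, 2, 1], [0, 2, 2, 1, 2, 0], [0, 1, 0, 1, 0, 1, 0], [0, 2, 1, 0], [1, 2, 2], [2, 1, 0, 1], [2, 0, 2, 2, 1, 0], [2, 0, 2, 1, 0, 1, 0, 1, 0], [2, 2, 0], [2, 2, 1, 2, 0, 1], [0, 2, 1, 2, 0, 1, 0, 1, 0], [1, 0, 1, 0, 1, 0], [2, 1, 0], [2, 2, 0, 1], [1, 2, 2, 0, 2, 1, 2, 2, 0], [2, 2, 0, 2, 1, 2], [2, 2, 1, 2, 0], [1, 2, 0, 2, 2], [0, 2, 1, 0, 1], [1, 2, 0, 2, 1, 0, 1, 0], [2, 0, 2, 1, 2, 2], [0, 2, 2, 0], [2, 1, 2, 0, 1, 0, 1, 0], [0, 1, 0, 1], [2, 1, 0, 1, 0, 1, 0], [2, 2, 1, 0], [2, 2, 0, 2, 1, 2, 2], [2, 0, 2, 2, 0], [1, 2, 0, 2, 1, 2, 2, 0], [1, 2, 2, 0, 2, 1, 2, 0], [0,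 2, 0], [0, 2, 1, 2, 0, 1], [0, 2, 2, 0, 2], [1, 2, 2, 0, 1, 0], [2, 0, 2, 1, 0, 1], [2, 0, 2, 2, 1, 2, 0], [1, 2, 2, 0, 2, 1, 2, 0, 1], [1, 2, 2, 0, 2, 0], [0, 1, 0], [1, 2], [1, 2, 2, 0, 1, 0, 1], [2, 0, 1, 0, 1, 0, 1, 0], [2, 1, 2, 2], [2, 0, 2, 1, 0], [2, 2, 1, 0, 1], [1, 2, 0, 2, 1, 2, 2, 0, 1], [0, 2, 1, 2, 0]]

/-- element orders -/
def ords23 : List ℕ := [1, 3, 3, 2, 3, 3, 3, 3, 2, 3, 3, 2, 2, 2, 2, 2, 4, 4, 4, 2, 4, 4, 2, 4, 2, 2, 2, 2, 4, 4, 4, 2, 4, 4, 2, 4, 7, 21, 21, 14, 21, 21, 21, 21, 14, 21, 21, 14, 2, 2, 2, 2, 4, 4, 4, 2, 4, 4, 2, 4, 7, 21, 21, 14, 21, 21, 21, 21, 14, 21, 21, 14, 2, 2, 2, 2, 4, 4, 4, 2, 4, 4, 2, 4, 7, 21, 21, 14, 21, 21, 21, 21, 14, 21, 21, 14, 2, 2, 2, 2, 4, 4, 4, 2, 4, 4, 2, 4, 7,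 21, 21, 14, 21, 21, 21, 21, 14, 21, 21, 14, 2, 2, 2, 2, 4, 4, 4, 2, 4, 4, 2, 4, 7, 21, 21, 14, 21, 21, 21, 21, 14, 21, 21, 14, 7, 21, 21, 14, 21, 21, 21, 21, 14, 21, 21, 14, 2, 2, 2, 2, 4, 4, 4, 2, 4, 4, 2, 4]

theorem chk23 : chkAll e23 = true := by decide +kernel

theorem ord23 : e23.Ls.map (rord e23.d) = ords23 := by decide +kernel

theorem nz23 : ∀ k ∈ ords23, k ≠ 0 := by decide +kernel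

theorem ex23 : ∀ k ∈ ords23, k ∣ 84 := by decide +kernel

/-- solvable series data -/
def s23 : SData where
  d := 11
  series := [[[3, 2, 1, 0, 6, 5, 4, 8, 7, 9, 10], [0, 6, 5, 4, 3, 2, 1, 8, 7, 9, 10], [1, 2, 3, 4, 5, 6, 0, 7, 9, 10, 8]], [[6, 0, 1, 2, 3, 4, 5, 9, 8, 10, 7], [5, 6, 0, 1, 2, 3, 4, 8, 7, 10, 9]], [[0, 1, 2, 3, 4, 5, 6, 9, 10, 7, 8], [0, 1, 2, 3, 4, 5, 6, 8, 7, 10, 9]]]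
  conjW := [[[([1, 0, 0, 1], [1, 0, 0, 1]), ([1, 0, 0, 0], [1, 0, 0, 0])], [([1, 0, 0, 1], [1, 0, 0, 1]), ([1, 0, 0, 0], [1, 0, 0, 0])], [([0, 1, 0, 1, 0, 0], [1, 0, 0, 1, 0, 0]), ([1, 1, 0, 0, 1, 0], [1, 1, 0, 1, 0, 0])]], [[([1], [1, 0]), ([1, 0], [0])], [([0], [0]), ([1], [1])]], [[], []]]
  commW := [[[[], [1, 1, 1, 1], [0, 1, 0, 1, 0, 0, 0]], [[0, 0, 0, 0, 0, 0], [], [0, 1, 0, 1, 0, 0, 0]], [[1, 1, 1, 0, 0, 1, 0, 0], [1, 1, 1, 0, 0, 1, 0, 0], []]], [[[], [0]], [[0], []]], [[[], []], [[], []]]]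

theorem chkS23 : chkS s23 = true := by decide +kernel

end Cfsg.Agent.Lib.Helper5.OT.D
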