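import Cfsg.Agent.Lib.Helper5.OT3

set_option autoImplicit false
set_option maxRecDepth 100000

/-! generated data: group R14_20952 of order 168 and degree 15 -/

namespace Cfsg.Agent.Lib.Helper5.OT.D

/-- enumeration data -/
def e24 : EData where
  d := 15
  gens := [[3, 5, 0, 2, 4, 6, 1, 14, 13, 10, 9, 7, 8, 11, 12], [2, 3, 4, 5, 6, 0, 1, 7, 8, 9, 10, 11, 12, 13, 14], [0, 2, 4, 6, 1, 3, 5, 11, 12, 7, 8, 9, 10, 13, 14]]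
  Ls := [[0, 1, 2, 3, 4, 5, 6, 7, 8, 9, 10, 11, 12, 13, 14], [0, 1, 2, 3, 4, 5, 6, 8, 7, 10, 9, 12, 11, 14, 13], [0, 1, 2, 3, 4, 5, 6, 9, 10, 8, 7, 13, 14, 12, 11], [0, 1, 2, 3, 4, 5, 6, 10, 9, 7, 8, 14, 13, 11, 12], [0, 1, 2, 3, 4, 5, 6, 11, 12, 14, 13, 8, 7, 9, 10], [0, 1, 2, 3, 4, 5, 6, 12, 11, 13, 14, 7, 8, 10, 9], [0, 1, 2, 3, 4, 5, 6, 13, 14, 11, 12, 10, 9, 8, 7], [0, 1, 2, 3, 4, 5, 6, 14, 13, 12, 11, 9, 10, 7, 8], [0, 2, 4, 6, 1, 3, 5, 7, 8, 12, 11, 13, 14, 10, 9], [0, 2, 4, 6, 1, 3, 5, 8, 7, 11, 12, 14, 13, 9, 10], [0, 2, 4, 6, 1, 3, 5, 9, 10, 14, 13, 12, 11, 7, 8], [0, 2, 4, 6, 1, 3, 5, 10, 9, 13, 14, 11, 12, 8, 7], [0, 2, 4, 6, 1, 3, 5, 11, 12, 7, 8, 9, 10, 13, 14], [0, 2, 4, 6, 1, 3, 5, 12, 11, 8, 7, 10, 9, 14, 13], [0, 2,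 4, 6, 1, 3, 5, 13, 14, 9, 10, 8, 7, 12, 11], [0, 2, 4, 6, 1, 3, 5, 14, 13, 10, 9, 7, 8, 11, 12], [0, 4, 1, 5, 2, 6, 3, 7, 8, 14, 13, 10, 9, 11, 12], [0, 4, 1, 5, 2, 6, 3, 8, 7, 13, 14, 9, 10, 12, 11], [0, 4, 1, 5, 2, 6, 3, 9, 10, 11, 12, 7, 8, 13, 14], [0, 4, 1, 5, 2, 6, 3, 10, 9, 12, 11, 8, 7, 14, 13], [0, 4, 1, 5, 2, 6, 3, 11, 12, 10, 9, 13, 14, 8, 7], [0, 4, 1, 5, 2, 6, 3, 12, 11, 9, 10, 14, 13, 7, 8], [0, 4, 1, 5, 2, 6, 3, 13, 14, 7, 8, 12, 11, 10, 9], [0, 4, 1, 5, 2, 6, 3, 14, 13, 8, 7, 11, 12, 9, 10], [1, 2, 3, 4, 5, 6, 0, 7, 8, 9, 10, 11, 12, 13, 14], [1, 2, 3, 4, 5, 6, 0, 8, 7, 10, 9, 12, 11, 14, 13], [1, 2, 3, 4, 5, 6, 0, 9, 10, 8, 7, 13, 14, 12, 11], [1, 2, 3, 4, 5, 6, 0, 10, 9, 7, 8, 14, 13, 11, 12], [1, 2, 3, 4, 5, 6, 0,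 11, 12, 14, 13, 8, 7, 9, 10], [1, 2, 3, 4, 5, 6, 0, 12, 11, 13, 14, 7, 8, 10, 9], [1, 2, 3, 4, 5, 6, 0, 13, 14, 11, 12, 10, 9, 8, 7], [1, 2, 3, 4, 5, 6, 0, 14, 13, 12, 11, 9, 10, 7, 8], [1, 3, 5, 0, 2, 4, 6, 7, 8, 12, 11, 13, 14, 10, 9], [1, 3, 5, 0, 2, 4, 6, 8, 7, 11, 12, 14, 13, 9, 10], [1, 3, 5, 0, 2, 4, 6, 9, 10, 14, 13, 12, 11, 7, 8], [1, 3, 5, 0, 2, 4, 6, 10, 9, 13, 14, 11, 12, 8, 7], [1, 3, 5, 0, 2, 4, 6, 11, 12, 7, 8, 9, 10, 13, 14], [1, 3, 5, 0, 2, 4, 6, 12, 11, 8, 7, 10, 9, 14, 13], [1, 3, 5, 0, 2, 4, 6, 13, 14, 9, 10, 8, 7, 12, 11], [1, 3, 5, 0, 2, 4, 6, 14, 13, 10, 9, 7, 8, 11, 12], [1, 5, 2, 6, 3, 0, 4, 7, 8, 14, 13, 10, 9, 11, 12], [1, 5, 2, 6, 3, 0, 4, 8, 7, 13, 14, 9, 10, 12, 11], [1, 5, 2, 6, 3, 0, 4, 9, 10, 11, 12,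 7, 8, 13, 14], [1, 5, 2, 6, 3, 0, 4, 10, 9, 12, 11, 8, 7, 14, 13], [1, 5, 2, 6, 3, 0, 4, 11, 12, 10, 9, 13, 14, 8, 7], [1, 5, 2, 6, 3, 0, 4, 12, 11, 9, 10, 14, 13, 7, 8], [1, 5, 2, 6, 3, 0, 4, 13, 14, 7, 8, 12, 11, 10, 9], [1, 5, 2, 6, 3, 0, 4, 14, 13, 8, 7, 11, 12, 9, 10], [2, 3, 4, 5, 6, 0, 1, 7, 8, 9, 10, 11, 12, 13, 14], [2, 3, 4, 5, 6, 0, 1, 8, 7, 10, 9, 12, 11, 14, 13], [2, 3, 4, 5, 6, 0, 1, 9, 10, 8, 7, 13, 14, 12, 11], [2, 3, 4, 5, 6, 0, 1, 10, 9, 7, 8, 14, 13, 11, 12], [2, 3, 4, 5, 6, 0, 1, 11, 12, 14, 13, 8, 7, 9, 10], [2, 3, 4, 5, 6, 0, 1, 12, 11, 13, 14, 7, 8, 10, 9], [2, 3, 4, 5, 6, 0, 1, 13, 14, 11, 12, 10, 9, 8, 7], [2, 3, 4, 5, 6, 0, 1, 14, 13, 12, 11, 9, 10, 7, 8], [2, 4, 6, 1, 3, 5, 0, 7, 8, 12, 11, 13, 14, 10, 9],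 [2, 4, 6, 1, 3, 5, 0, 8, 7, 11, 12, 14, 13, 9, 10], [2, 4, 6, 1, 3, 5, 0, 9, 10, 14, 13, 12, 11, 7, 8], [2, 4, 6, 1, 3, 5, 0, 10, 9, 13, 14, 11, 12, 8, 7], [2, 4, 6, 1, 3, 5, 0, 11, 12, 7, 8, 9, 10, 13, 14], [2, 4, 6, 1, 3, 5, 0, 12, 11, 8, 7, 10, 9, 14, 13], [2, 4, 6, 1, 3, 5, 0, 13, 14, 9, 10, 8, 7, 12, 11], [2, 4, 6, 1, 3, 5, 0, 14, 13, 10, 9, 7, 8, 11, 12], [2, 6, 3, 0, 4, 1, 5, 7, 8, 14, 13, 10, 9, 11, 12], [2, 6, 3, 0, 4, 1, 5, 8, 7, 13, 14, 9, 10, 12, 11], [2, 6, 3, 0, 4, 1, 5, 9, 10, 11, 12, 7, 8, 13, 14], [2, 6, 3, 0, 4, 1, 5, 10, 9, 12, 11, 8, 7, 14, 13], [2, 6, 3, 0, 4, 1, 5, 11, 12, 10, 9, 13, 14, 8, 7], [2, 6, 3, 0, 4, 1, 5, 12, 11, 9, 10, 14, 13, 7, 8], [2, 6, 3, 0, 4, 1, 5, 13, 14, 7, 8, 12, 11, 10, 9], [2, 6, 3, 0, 4,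 1, 5, 14, 13, 8, 7, 11, 12, 9, 10], [3, 0, 4, 1, 5, 2, 6, 7, 8, 14, 13, 10, 9, 11, 12], [3, 0, 4, 1, 5, 2, 6, 8, 7, 13, 14, 9, 10, 12, 11], [3, 0, 4, 1, 5, 2, 6, 9, 10, 11, 12, 7, 8, 13, 14], [3, 0, 4, 1, 5, 2, 6, 10, 9, 12, 11, 8, 7, 14, 13], [3, 0, 4, 1, 5, 2, 6, 11, 12, 10, 9, 13, 14, 8, 7], [3, 0, 4, 1, 5, 2, 6, 12, 11, 9, 10, 14, 13, 7, 8], [3, 0, 4, 1, 5, 2, 6, 13, 14, 7, 8, 12, 11, 10, 9], [3, 0, 4, 1, 5, 2, 6, 14, 13, 8, 7, 11, 12, 9, 10], [3, 4, 5, 6, 0, 1, 2, 7, 8, 9, 10, 11, 12, 13, 14], [3, 4, 5, 6, 0, 1, 2, 8, 7, 10, 9, 12, 11, 14, 13], [3, 4, 5, 6, 0, 1, 2, 9, 10, 8, 7, 13, 14, 12, 11], [3, 4, 5, 6, 0, 1, 2, 10, 9, 7, 8, 14, 13, 11, 12], [3, 4, 5, 6, 0, 1, 2, 11, 12, 14, 13, 8, 7, 9, 10], [3, 4, 5, 6, 0, 1, 2, 12, 11,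 13, 14, 7, 8, 10, 9], [3, 4, 5, 6, 0, 1, 2, 13, 14, 11, 12, 10, 9, 8, 7], [3, 4, 5, 6, 0, 1, 2, 14, 13, 12, 11, 9, 10, 7, 8], [3, 5, 0, 2, 4, 6, 1, 7, 8, 12, 11, 13, 14, 10, 9], [3, 5, 0, 2, 4, 6, 1, 8, 7, 11, 12, 14, 13, 9, 10], [3, 5, 0, 2, 4, 6, 1, 9, 10, 14, 13, 12, 11, 7, 8], [3, 5, 0, 2, 4, 6, 1, 10, 9, 13, 14, 11, 12, 8, 7], [3, 5, 0, 2, 4, 6, 1, 11, 12, 7, 8, 9, 10, 13, 14], [3, 5, 0, 2, 4, 6, 1, 12, 11, 8, 7, 10, 9, 14, 13], [3, 5, 0, 2, 4, 6, 1, 13, 14, 9, 10, 8, 7, 12, 11], [3, 5, 0, 2, 4, 6, 1, 14, 13, 10, 9, 7, 8, 11, 12], [4, 1, 5, 2, 6, 3, 0, 7, 8, 14, 13, 10, 9, 11, 12], [4, 1, 5, 2, 6, 3, 0, 8, 7, 13, 14, 9, 10, 12, 11], [4, 1, 5, 2, 6, 3, 0, 9, 10, 11, 12, 7, 8, 13, 14], [4, 1, 5, 2, 6, 3, 0, 10, 9, 12, 11, 8, 7, 14,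 13], [4, 1, 5, 2, 6, 3, 0, 11, 12, 10, 9, 13, 14, 8, 7], [4, 1, 5, 2, 6, 3, 0, 12, 11, 9, 10, 14, 13, 7, 8], [4, 1, 5, 2, 6, 3, 0, 13, 14, 7, 8, 12, 11, 10, 9], [4, 1, 5, 2, 6, 3, 0, 14, 13, 8, 7, 11, 12, 9, 10], [4, 5, 6, 0, 1, 2, 3, 7, 8, 9, 10, 11, 12, 13, 14], [4, 5, 6, 0, 1, 2, 3, 8, 7, 10, 9, 12, 11, 14, 13], [4, 5, 6, 0, 1, 2, 3, 9, 10, 8, 7, 13, 14, 12, 11], [4, 5, 6, 0, 1, 2, 3, 10, 9, 7, 8, 14, 13, 11, 12], [4, 5, 6, 0, 1, 2, 3, 11, 12, 14, 13, 8, 7, 9, 10], [4, 5, 6, 0, 1, 2, 3, 12, 11, 13, 14, 7, 8, 10, 9], [4, 5, 6, 0, 1, 2, 3, 13, 14, 11, 12, 10, 9, 8, 7], [4, 5, 6, 0, 1, 2, 3, 14, 13, 12, 11, 9, 10, 7, 8], [4, 6, 1, 3, 5, 0, 2, 7, 8, 12, 11, 13, 14, 10, 9], [4, 6, 1, 3, 5, 0, 2, 8, 7, 11, 12, 14, 13, 9, 10], [4, 6, 1,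 3, 5, 0, 2, 9, 10, 14, 13, 12, 11, 7, 8], [4, 6, 1, 3, 5, 0, 2, 10, 9, 13, 14, 11, 12, 8, 7], [4, 6, 1, 3, 5, 0, 2, 11, 12, 7, 8, 9, 10, 13, 14], [4, 6, 1, 3, 5, 0, 2, 12, 11, 8, 7, 10, 9, 14, 13], [4, 6, 1, 3, 5, 0, 2, 13, 14, 9, 10, 8, 7, 12, 11], [4, 6, 1, 3, 5, 0, 2, 14, 13, 10, 9, 7, 8, 11, 12], [5, 0, 2, 4, 6, 1, 3, 7, 8, 12, 11, 13, 14, 10, 9], [5, 0, 2, 4, 6, 1, 3, 8, 7, 11, 12, 14, 13, 9, 10], [5, 0, 2, 4, 6, 1, 3, 9, 10, 14, 13, 12, 11, 7, 8], [5, 0, 2, 4, 6, 1, 3, 10, 9, 13, 14, 11, 12, 8, 7], [5, 0, 2, 4, 6, 1, 3, 11, 12, 7, 8, 9, 10, 13, 14], [5, 0, 2, 4, 6, 1, 3, 12, 11, 8, 7, 10, 9, 14, 13], [5, 0, 2, 4, 6, 1, 3, 13, 14, 9, 10, 8, 7, 12, 11], [5, 0, 2, 4, 6, 1, 3, 14, 13, 10, 9, 7, 8, 11, 12], [5, 2, 6, 3, 0, 4, 1, 7,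 8, 14, 13, 10, 9, 11, 12], [5, 2, 6, 3, 0, 4, 1, 8, 7, 13, 14, 9, 10, 12, 11], [5, 2, 6, 3, 0, 4, 1, 9, 10, 11, 12, 7, 8, 13, 14], [5, 2, 6, 3, 0, 4, 1, 10, 9, 12, 11, 8, 7, 14, 13], [5, 2, 6, 3, 0, 4, 1, 11, 12, 10, 9, 13, 14, 8, 7], [5, 2, 6, 3, 0, 4, 1, 12, 11, 9, 10, 14, 13, 7, 8], [5, 2, 6, 3, 0, 4, 1, 13, 14, 7, 8, 12, 11, 10, 9], [5, 2, 6, 3, 0, 4, 1, 14, 13, 8, 7, 11, 12, 9, 10], [5, 6, 0, 1, 2, 3, 4, 7, 8, 9, 10, 11, 12, 13, 14], [5, 6, 0, 1, 2, 3, 4, 8, 7, 10, 9, 12, 11, 14, 13], [5, 6, 0, 1, 2, 3, 4, 9, 10, 8, 7, 13, 14, 12, 11], [5, 6, 0, 1, 2, 3, 4, 10, 9, 7, 8, 14, 13, 11, 12], [5, 6, 0, 1, 2, 3, 4, 11, 12, 14, 13, 8, 7, 9, 10], [5, 6, 0, 1, 2, 3, 4, 12, 11, 13, 14, 7, 8, 10, 9], [5, 6, 0, 1, 2, 3, 4, 13, 14, 11, 12, 10,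 9, 8, 7], [5, 6, 0, 1, 2, 3, 4, 14, 13, 12, 11, 9, 10, 7, 8], [6, 0, 1, 2, 3, 4, 5, 7, 8, 9, 10, 11, 12, 13, 14], [6, 0, 1, 2, 3, 4, 5, 8, 7, 10, 9, 12, 11, 14, 13], [6, 0, 1, 2, 3, 4, 5, 9, 10, 8, 7, 13, 14, 12, 11], [6, 0, 1, 2, 3, 4, 5, 10, 9, 7, 8, 14, 13, 11, 12], [6, 0, 1, 2, 3, 4, 5, 11, 12, 14, 13, 8, 7, 9, 10], [6, 0, 1, 2, 3, 4, 5, 12, 11, 13, 14, 7, 8, 10, 9], [6, 0, 1, 2, 3, 4, 5, 13, 14, 11, 12, 10, 9, 8, 7], [6, 0, 1, 2, 3, 4, 5, 14, 13, 12, 11, 9, 10, 7, 8], [6, 1, 3, 5, 0, 2, 4, 7, 8, 12, 11, 13, 14, 10, 9], [6, 1, 3, 5, 0, 2, 4, 8, 7, 11, 12, 14, 13, 9, 10], [6, 1, 3, 5, 0, 2, 4, 9, 10, 14, 13, 12, 11, 7, 8], [6, 1, 3, 5, 0, 2, 4, 10, 9, 13, 14, 11, 12, 8, 7], [6, 1, 3, 5, 0, 2, 4, 11, 12, 7, 8, 9, 10, 13, 14], [6,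 1, 3, 5, 0, 2, 4, 12, 11, 8, 7, 10, 9, 14, 13], [6, 1, 3, 5, 0, 2, 4, 13, 14, 9, 10, 8, 7, 12, 11], [6, 1, 3, 5, 0, 2, 4, 14, 13, 10, 9, 7, 8, 11, 12], [6, 3, 0, 4, 1, 5, 2, 7, 8, 14, 13, 10, 9, 11, 12], [6, 3, 0, 4, 1, 5, 2, 8, 7, 13, 14, 9, 10, 12, 11], [6, 3, 0, 4, 1, 5, 2, 9, 10, 11, 12, 7, 8, 13, 14], [6, 3, 0, 4, 1, 5, 2, 10, 9, 12, 11, 8, 7, 14, 13], [6, 3, 0, 4, 1, 5, 2, 11, 12, 10, 9, 13, 14, 8, 7], [6, 3, 0, 4, 1, 5, 2, 12, 11, 9, 10, 14, 13, 7, 8], [6, 3, 0, 4, 1, 5, 2, 13, 14, 7, 8, 12, 11, 10, 9], [6, 3, 0, 4, 1, 5, 2, 14, 13, 8, 7, 11, 12, 9, 10]]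
  nxt := [[95, 48, 12], [94, 49, 13], [91, 50, 8], [90, 51, 9], [88, 52, 10], [89, 53, 11], [92, 54, 14], [93, 55, 15], [79, 56, 20], [78, 57, 21], [75, 58, 16], [74, 59, 17], [72, 60, 18], [73, 61, 19], [76, 62, 22], [77, 63, 23], [87, 64, 4], [86, 65, 5], [83, 66, 0], [82, 67, 1], [80, 68, 2], [81, 69, 3], [84, 70, 6], [85, 71, 7], [127, 80, 60], [126, 81, 61], [123, 82, 56], [122, 83, 57], [120, 84, 58], [121, 85, 59], [124, 86, 62], [125, 87, 63], [135, 88, 68], [134, 89, 69], [131, 90, 64], [130, 91, 65], [128, 92, 66], [129, 93, 67], [132, 94, 70], [133, 95, 71], [143, 72, 52], [142, 73, 53], [139, 74, 48], [138, 75, 49], [136, 76, 50], [137, 77, 51], [140, 78, 54], [141, 79, 55], [15, 104, 116], [14, 105, 117], [11, 106, 112],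 [10, 107, 113], [8, 108, 114], [9, 109, 115], [12, 110, 118], [13, 111, 119], [23, 112, 100], [22, 113, 101], [19, 114, 96], [18, 115, 97], [16, 116, 98], [17, 117, 99], [20, 118, 102], [21, 119, 103], [7, 96, 108], [6, 97, 109], [3, 98, 104], [2, 99, 105], [0, 100, 106], [1, 101, 107], [4, 102, 110], [5, 103, 111], [55, 128, 148], [54, 129, 149], [51, 130, 144], [50, 131, 145], [48, 132, 146], [49, 133, 147], [52, 134, 150], [53, 135, 151], [63, 136, 156], [62, 137, 157], [59, 138, 152], [58, 139, 153], [56, 140, 154], [57, 141, 155], [60, 142, 158], [61, 143, 159], [71, 120, 164], [70, 121, 165], [67, 122, 160], [66, 123, 161], [64, 124, 162], [65, 125, 163], [68, 126, 166], [69, 127, 167], [111, 160, 28], [110, 161, 29], [107, 162,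 24], [106, 163, 25], [104, 164, 26], [105, 165, 27], [108, 166, 30], [109, 167, 31], [119, 144, 36], [118, 145, 37], [115, 146, 32], [114, 147, 33], [112, 148, 34], [113, 149, 35], [116, 150, 38], [117, 151, 39], [103, 152, 44], [102, 153, 45], [99, 154, 40], [98, 155, 41], [96, 156, 42], [97, 157, 43], [100, 158, 46], [101, 159, 47], [167, 8, 76], [166, 9, 77], [163, 10, 72], [162, 11, 73], [160, 12, 74], [161, 13, 75], [164, 14, 78], [165, 15, 79], [151, 16, 84], [150, 17, 85], [147, 18, 80], [146, 19, 81], [144, 20, 82], [145, 21, 83], [148, 22, 86], [149, 23, 87], [159, 0, 92], [158, 1, 93], [155, 2, 88], [154, 3, 89], [152, 4, 90], [153, 5, 91], [156, 6, 94], [157, 7, 95], [39, 24, 124], [38, 25, 125], [35, 26, 120], [34, 27, 121],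 [32, 28, 122], [33, 29, 123], [36, 30, 126], [37, 31, 127], [47, 32, 132], [46, 33, 133], [43, 34, 128], [42, 35, 129], [40, 36, 130], [41, 37, 131], [44, 38, 134], [45, 39, 135], [31, 40, 140], [30, 41, 141], [27, 42, 136], [26, 43, 137], [24, 44, 138], [25, 45, 139], [28, 46, 142], [29, 47, 143]]
  words := [[], [0, 0, 0], [0, 1, 2, 2, 0, 0, 0], [0, 1, 2, 2], [2, 0, 1, 2], [1, 0, 1, 2, 0], [1, 2, 2, 0, 0, 0, 0], [1, 2, 2, 0], [1, 0, 2, 0, 2, 1], [0, 0, 2, 1, 0], [1, 2, 2, 0, 2], [2, 1, 0, 1, 2, 0], [2], [2, 0, 0, 0], [0, 1, 0, 0, 0], [0, 1], [0, 1, 2], [0, 1, 2, 0, 0, 0], [2, 2], [2, 2, 0, 0, 0], [0, 1, 0, 1, 0, 0, 0], [0, 1, 0, 1], [2, 0, 1, 0, 0, 0], [2, 0, 1], [1, 1, 1, 1], [0, 0, 1, 0], [0, 0, 2, 2, 0, 2], [2, 1, 0, 0], [2, 0,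 2, 1], [0, 2, 0], [0, 1, 2, 2, 0, 2, 0], [1, 2, 2, 1, 0], [0, 2, 0, 2], [2, 2, 0, 0], [0, 1, 2, 0, 0], [2, 1, 0, 2, 1, 0], [2, 1, 1], [2, 0, 1, 0, 0], [0, 1, 0, 1, 0, 0], [0, 1, 1, 1], [0, 1, 2, 1], [0, 0, 2, 2, 0], [2, 2, 1], [2, 2, 1, 0, 0, 0], [1, 0, 1, 0, 0, 0, 0], [1, 0, 1, 0], [0, 2, 0, 2, 2], [1, 2, 0], [1], [1, 0, 0, 0], [0, 0, 1, 2, 2, 0, 2], [2, 1, 0, 1, 0], [2, 0, 1, 2, 1], [0, 2, 1, 0], [0, 0, 2, 0, 0, 0], [0, 0, 2], [0, 2, 1, 0, 2], [2, 2, 1, 0, 0], [0, 0, 2, 2], [2, 0, 2, 0], [1, 2], [1, 2, 0, 0, 0], [1, 0, 1, 0, 0, 0], [1, 0, 1], [1, 0, 1, 2], [0, 0, 1, 2, 2, 0], [1, 2, 2], [1, 2, 2, 0, 0, 0], [0, 0, 0, 0, 0], [0, 0], [0, 1, 2, 2, 0, 0], [1, 2, 0, 1], [0, 2], [0, 2, 0, 0, 0], [1, 2, 2, 1], [0, 1, 2, 2, 0, 2], [0, 0, 1,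 0, 0, 0], [0, 0, 1], [2, 1, 0, 0, 0, 0], [2, 1, 0], [1, 1, 1, 1, 1], [1, 0, 0, 1, 0], [0, 2, 2, 0, 0, 0], [0, 2, 2], [2, 1, 0, 2], [1, 0, 2, 0], [2, 0, 2, 2, 0, 0], [0, 0, 1, 2], [1, 0, 2, 0, 2], [1, 2, 2, 0, 0], [0, 0, 1, 2, 2], [2, 0, 1, 2, 0], [1, 2, 1, 1], [0, 1, 2, 2, 0], [0, 0, 0, 0], [0], [0, 2, 1], [2, 2, 0, 2, 0], [2, 1, 2], [0, 0, 2, 0, 0], [1, 0, 0, 0, 0, 0], [1, 0, 0], [2, 1, 0, 1, 0, 0, 0], [2, 1, 0, 1], [1, 1], [0, 1, 0, 0], [2, 0, 0, 0, 0, 0], [2, 0, 0], [2, 1, 0, 1, 2], [1, 0, 2, 1, 0], [0, 2, 2, 0, 2, 0], [0, 0, 2, 1], [1, 0, 2, 1, 0, 2], [1, 2, 2, 1, 0, 0], [0, 2, 0, 0], [2, 0, 2, 1, 0], [2, 1], [2, 1, 0, 0, 0], [0, 0, 1, 0, 0], [0, 1, 1], [0, 2, 0, 2, 1], [0, 0, 2, 0], [2, 2, 0, 2], [2, 0, 1, 2, 1, 0], [2, 1, 1, 1],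 [2, 1, 0, 1, 0, 0], [1, 0, 0, 0, 0], [1, 0], [1, 0, 2], [1, 0, 2, 0, 0, 0], [2, 1, 2, 1], [2, 0, 2, 2, 0], [1, 0, 0, 1, 0, 0, 0], [1, 0, 0, 1], [0, 2, 2, 0, 0], [1, 2, 1, 0], [2, 1, 2, 1, 2], [0, 1, 0, 1, 0], [2, 0, 1, 0, 0, 0, 0], [2, 0, 1, 0], [2, 1, 0, 2, 1], [0, 1, 2, 0], [2, 2, 0, 0, 0, 0], [2, 2, 0], [1, 1, 1], [1, 0, 1, 0, 0], [0, 2, 0, 2, 2, 0], [1, 2, 0, 0], [2, 0, 2], [0, 1, 2, 1, 0], [2, 2, 1, 0, 0, 0, 0], [2, 2, 1, 0], [0, 2, 1, 0, 2, 1], [2, 0, 2, 2], [1, 0, 2, 0, 0], [2, 1, 0, 2, 0], [1, 2, 1], [0, 2, 2, 0], [1, 0, 0, 1, 0, 0], [1, 0, 1, 1], [1, 0, 2, 1], [1, 2, 2, 0, 2, 0], [1, 2, 1, 2], [0, 2, 2, 0, 2], [0, 1, 0, 0, 0, 0], [0, 1, 0], [2, 0, 0, 0, 0], [2, 0]]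

/-- element orders -/
def ords24 : List ℕ := [1, 2, 4, 4, 4, 4, 4, 4, 3, 6, 6, 3, 3, 6, 3, 6, 3, 6, 3, 6, 6, 3, 6, 3, 7, 14, 28, 28, 28, 28, 28, 28, 3, 6, 6, 3, 3, 6, 3, 6, 3, 6, 3, 6, 6, 3, 6, 3, 7, 14, 28, 28, 28, 28, 28, 28, 3, 6, 6, 3, 3, 6, 3, 6, 3, 6, 3, 6, 6, 3, 6, 3, 3, 6, 3, 6, 6, 3, 6, 3, 7, 14, 28, 28, 28, 28, 28, 28, 3, 6, 6, 3, 3, 6, 3, 6, 3, 6, 3, 6, 6, 3, 6, 3, 7, 14, 28, 28, 28, 28, 28, 28, 3, 6, 6, 3, 3, 6, 3, 6, 3, 6, 6, 3, 3, 6, 3, 6, 3, 6, 3, 6, 6, 3, 6, 3, 7, 14, 28, 28, 28, 28, 28, 28, 7, 14, 28, 28, 28, 28, 28, 28, 3, 6, 6, 3, 3, 6, 3, 6, 3, 6, 3, 6, 6, 3, 6, 3]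

theorem chk24 : chkAll e24 = true := by decide +kernel

theorem ord24 : e24.Ls.map (rord e24.d) = ords24 := by decide +kernel

theorem nz24 : ∀ k ∈ ords24, k ≠ 0 := by decide +kernel

theorem ex24 : ∀ k ∈ ords24, k ∣ 84 := by decide +kernel

/-- solvable series data -/
def s24 : SData where
  d := 15
  series := [[[3, 5, 0, 2, 4, 6, 1, 14, 13, 10, 9, 7, 8, 11, 12], [2, 3, 4, 5, 6, 0, 1, 7, 8, 9, 10, 11, 12, 13, 14], [0, 2, 4, 6, 1, 3, 5, 11, 12, 7, 8, 9, 10, 13, 14]], [[1, 2, 3, 4, 5, 6, 0, 12, 11, 13, 14, 7, 8, 10, 9], [2, 3, 4, 5, 6, 0, 1, 10, 9, 7, 8, 14, 13, 11, 12]], [[0, 1, 2, 3, 4, 5, 6, 8, 7, 10, 9, 12, 11, 14, 13]]]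
  conjW := [[[([1, 1, 0, 1, 0, 0], [0, 1, 0]), ([1, 1, 1, 0, 1, 0, 0], [1, 1, 1, 1, 1, 1, 1, 0])], [([0], [0]), ([1], [1])], [([1, 1, 1, 0, 0, 0], [1, 0, 0]), ([1, 1, 1, 1, 0, 0, 0], [1, 1, 1, 1, 1, 1, 1, 0])]], [[([0], [0])], [([0], [0])]], [[]]]
  commW := [[[[], [1, 1, 1, 1, 1, 1, 1, 1], [1, 1, 1, 1, 1, 0]], [[1, 1, 1, 1, 0, 0, 0, 0], [], [1, 1, 1, 1, 0, 0, 0, 0]], [[0, 1], [1, 1, 1, 1, 1, 1, 1, 1], []]], [[[], [0]], [[0], []]], [[[]]]]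

theorem chkS24 : chkS s24 = true := by decide +kernel

end Cfsg.Agent.Lib.Helper5.OT.D
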