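import Cfsg.Agent.Lib.Helper5.OT3

set_option autoImplicit false
set_option maxRecDepth 100000

/-! generated data: group R11_943 of order 216 and degree 9 -/

namespace Cfsg.Agent.Lib.Helper5.OT.D

/-- enumeration data -/
def e27 : EData where
  d := 9
  gens := [[5, 3, 4, 0, 1, 2, 6, 8, 7], [1, 0, 2, 3, 4, 5, 7, 6, 8]]
  Ls := [[0, 1, 2, 3, 4, 5, 6, 7, 8], [0, 1, 2, 3, 4, 5, 7, 8, 6], [0, 1, 2, 3, 4, 5, 8, 6, 7], [0, 1, 2, 3, 5, 4, 6, 8, 7], [0, 1, 2, 3, 5, 4, 7, 6, 8], [0, 1, 2, 3, 5, 4, 8, 7, 6], [0, 1, 2, 4, 3, 5, 6, 8, 7], [0, 1, 2, 4, 3, 5, 7, 6, 8], [0, 1, 2, 4, 3, 5, 8, 7, 6], [0, 1, 2, 4, 5, 3, 6, 7, 8], [0, 1, 2, 4, 5, 3, 7, 8, 6], [0, 1, 2, 4, 5, 3, 8, 6, 7], [0, 1, 2, 5, 3, 4, 6,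 7, 8], [0, 1, 2, 5, 3, 4, 7, 8, 6], [0, 1, 2, 5, 3, 4, 8, 6, 7], [0, 1, 2, 5, 4, 3, 6, 8, 7], [0, 1, 2, 5, 4, 3, 7, 6, 8], [0, 1, 2, 5, 4, 3, 8, 7, 6], [0, 2, 1, 3, 4, 5, 6, 8, 7], [0, 2, 1, 3, 4, 5, 7, 6, 8], [0, 2, 1, 3, 4, 5, 8, 7, 6], [0, 2, 1, 3, 5, 4, 6, 7, 8], [0, 2, 1, 3, 5, 4, 7, 8, 6], [0, 2, 1, 3, 5, 4, 8, 6, 7], [0, 2, 1, 4, 3, 5, 6, 7, 8], [0, 2, 1, 4, 3, 5, 7, 8, 6], [0, 2, 1, 4, 3, 5, 8, 6, 7], [0, 2, 1, 4, 5, 3, 6, 8, 7], [0, 2, 1, 4, 5, 3, 7, 6, 8], [0, 2, 1, 4, 5, 3, 8, 7, 6], [0, 2, 1, 5, 3, 4, 6, 8, 7], [0, 2, 1, 5, 3, 4, 7, 6, 8], [0, 2, 1, 5, 3, 4, 8, 7, 6], [0, 2, 1, 5, 4, 3, 6, 7, 8], [0, 2, 1, 5, 4, 3, 7, 8, 6], [0, 2, 1, 5, 4, 3, 8, 6, 7], [1, 0, 2, 3, 4, 5, 6, 8, 7],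 [1, 0, 2, 3, 4, 5, 7, 6, 8], [1, 0, 2, 3, 4, 5, 8, 7, 6], [1, 0, 2, 3, 5, 4, 6, 7, 8], [1, 0, 2, 3, 5, 4, 7, 8, 6], [1, 0, 2, 3, 5, 4, 8, 6, 7], [1, 0, 2, 4, 3, 5, 6, 7, 8], [1, 0, 2, 4, 3, 5, 7, 8, 6], [1, 0, 2, 4, 3, 5, 8, 6, 7], [1, 0, 2, 4, 5, 3, 6, 8, 7], [1, 0, 2, 4, 5, 3, 7, 6, 8], [1, 0, 2, 4, 5, 3, 8, 7, 6], [1, 0, 2, 5, 3, 4, 6, 8, 7], [1, 0, 2, 5, 3, 4, 7, 6, 8], [1, 0, 2, 5, 3, 4, 8, 7, 6], [1, 0, 2, 5, 4, 3, 6, 7, 8], [1, 0, 2, 5, 4, 3, 7, 8, 6], [1, 0, 2, 5, 4, 3, 8, 6, 7], [1, 2, 0, 3, 4, 5, 6, 7, 8], [1, 2, 0, 3, 4, 5, 7, 8, 6], [1, 2, 0, 3, 4, 5, 8, 6, 7], [1, 2, 0, 3, 5, 4, 6, 8, 7], [1, 2, 0, 3, 5, 4, 7, 6, 8], [1, 2, 0, 3, 5, 4, 8, 7, 6], [1, 2, 0, 4, 3, 5, 6, 8, 7], [1,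 2, 0, 4, 3, 5, 7, 6, 8], [1, 2, 0, 4, 3, 5, 8, 7, 6], [1, 2, 0, 4, 5, 3, 6, 7, 8], [1, 2, 0, 4, 5, 3, 7, 8, 6], [1, 2, 0, 4, 5, 3, 8, 6, 7], [1, 2, 0, 5, 3, 4, 6, 7, 8], [1, 2, 0, 5, 3, 4, 7, 8, 6], [1, 2, 0, 5, 3, 4, 8, 6, 7], [1, 2, 0, 5, 4, 3, 6, 8, 7], [1, 2, 0, 5, 4, 3, 7, 6, 8], [1, 2, 0, 5, 4, 3, 8, 7, 6], [2, 0, 1, 3, 4, 5, 6, 7, 8], [2, 0, 1, 3, 4, 5, 7, 8, 6], [2, 0, 1, 3, 4, 5, 8, 6, 7], [2, 0, 1, 3, 5, 4, 6, 8, 7], [2, 0, 1, 3, 5, 4, 7, 6, 8], [2, 0, 1, 3, 5, 4, 8, 7, 6], [2, 0, 1, 4, 3, 5, 6, 8, 7], [2, 0, 1, 4, 3, 5, 7, 6, 8], [2, 0, 1, 4, 3, 5, 8, 7, 6], [2, 0, 1, 4, 5, 3, 6, 7, 8], [2, 0, 1, 4, 5, 3, 7, 8, 6], [2, 0, 1, 4, 5, 3, 8, 6, 7], [2, 0, 1, 5, 3, 4, 6, 7, 8], [2, 0, 1,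 5, 3, 4, 7, 8, 6], [2, 0, 1, 5, 3, 4, 8, 6, 7], [2, 0, 1, 5, 4, 3, 6, 8, 7], [2, 0, 1, 5, 4, 3, 7, 6, 8], [2, 0, 1, 5, 4, 3, 8, 7, 6], [2, 1, 0, 3, 4, 5, 6, 8, 7], [2, 1, 0, 3, 4, 5, 7, 6, 8], [2, 1, 0, 3, 4, 5, 8, 7, 6], [2, 1, 0, 3, 5, 4, 6, 7, 8], [2, 1, 0, 3, 5, 4, 7, 8, 6], [2, 1, 0, 3, 5, 4, 8, 6, 7], [2, 1, 0, 4, 3, 5, 6, 7, 8], [2, 1, 0, 4, 3, 5, 7, 8, 6], [2, 1, 0, 4, 3, 5, 8, 6, 7], [2, 1, 0, 4, 5, 3, 6, 8, 7], [2, 1, 0, 4, 5, 3, 7, 6, 8], [2, 1, 0, 4, 5, 3, 8, 7, 6], [2, 1, 0, 5, 3, 4, 6, 8, 7], [2, 1, 0, 5, 3, 4, 7, 6, 8], [2, 1, 0, 5, 3, 4, 8, 7, 6], [2, 1, 0, 5, 4, 3, 6, 7, 8], [2, 1, 0, 5, 4, 3, 7, 8, 6], [2, 1, 0, 5, 4, 3, 8, 6, 7], [3, 4, 5, 0, 1, 2, 6, 8, 7], [3, 4, 5, 0, 1,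 2, 7, 6, 8], [3, 4, 5, 0, 1, 2, 8, 7, 6], [3, 4, 5, 0, 2, 1, 6, 7, 8], [3, 4, 5, 0, 2, 1, 7, 8, 6], [3, 4, 5, 0, 2, 1, 8, 6, 7], [3, 4, 5, 1, 0, 2, 6, 7, 8], [3, 4, 5, 1, 0, 2, 7, 8, 6], [3, 4, 5, 1, 0, 2, 8, 6, 7], [3, 4, 5, 1, 2, 0, 6, 8, 7], [3, 4, 5, 1, 2, 0, 7, 6, 8], [3, 4, 5, 1, 2, 0, 8, 7, 6], [3, 4, 5, 2, 0, 1, 6, 8, 7], [3, 4, 5, 2, 0, 1, 7, 6, 8], [3, 4, 5, 2, 0, 1, 8, 7, 6], [3, 4, 5, 2, 1, 0, 6, 7, 8], [3, 4, 5, 2, 1, 0, 7, 8, 6], [3, 4, 5, 2, 1, 0, 8, 6, 7], [3, 5, 4, 0, 1, 2, 6, 7, 8], [3, 5, 4, 0, 1, 2, 7, 8, 6], [3, 5, 4, 0, 1, 2, 8, 6, 7], [3, 5, 4, 0, 2, 1, 6, 8, 7], [3, 5, 4, 0, 2, 1, 7, 6, 8], [3, 5, 4, 0, 2, 1, 8, 7, 6], [3, 5, 4, 1, 0, 2, 6, 8, 7], [3, 5, 4, 1, 0, 2, 7,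 6, 8], [3, 5, 4, 1, 0, 2, 8, 7, 6], [3, 5, 4, 1, 2, 0, 6, 7, 8], [3, 5, 4, 1, 2, 0, 7, 8, 6], [3, 5, 4, 1, 2, 0, 8, 6, 7], [3, 5, 4, 2, 0, 1, 6, 7, 8], [3, 5, 4, 2, 0, 1, 7, 8, 6], [3, 5, 4, 2, 0, 1, 8, 6, 7], [3, 5, 4, 2, 1, 0, 6, 8, 7], [3, 5, 4, 2, 1, 0, 7, 6, 8], [3, 5, 4, 2, 1, 0, 8, 7, 6], [4, 3, 5, 0, 1, 2, 6, 7, 8], [4, 3, 5, 0, 1, 2, 7, 8, 6], [4, 3, 5, 0, 1, 2, 8, 6, 7], [4, 3, 5, 0, 2, 1, 6, 8, 7], [4, 3, 5, 0, 2, 1, 7, 6, 8], [4, 3, 5, 0, 2, 1, 8, 7, 6], [4, 3, 5, 1, 0, 2, 6, 8, 7], [4, 3, 5, 1, 0, 2, 7, 6, 8], [4, 3, 5, 1, 0, 2, 8, 7, 6], [4, 3, 5, 1, 2, 0, 6, 7, 8], [4, 3, 5, 1, 2, 0, 7, 8, 6], [4, 3, 5, 1, 2, 0, 8, 6, 7], [4, 3, 5, 2, 0, 1, 6, 7, 8], [4, 3, 5, 2, 0, 1, 7, 8, 6],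 [4, 3, 5, 2, 0, 1, 8, 6, 7], [4, 3, 5, 2, 1, 0, 6, 8, 7], [4, 3, 5, 2, 1, 0, 7, 6, 8], [4, 3, 5, 2, 1, 0, 8, 7, 6], [4, 5, 3, 0, 1, 2, 6, 8, 7], [4, 5, 3, 0, 1, 2, 7, 6, 8], [4, 5, 3, 0, 1, 2, 8, 7, 6], [4, 5, 3, 0, 2, 1, 6, 7, 8], [4, 5, 3, 0, 2, 1, 7, 8, 6], [4, 5, 3, 0, 2, 1, 8, 6, 7], [4, 5, 3, 1, 0, 2, 6, 7, 8], [4, 5, 3, 1, 0, 2, 7, 8, 6], [4, 5, 3, 1, 0, 2, 8, 6, 7], [4, 5, 3, 1, 2, 0, 6, 8, 7], [4, 5, 3, 1, 2, 0, 7, 6, 8], [4, 5, 3, 1, 2, 0, 8, 7, 6], [4, 5, 3, 2, 0, 1, 6, 8, 7], [4, 5, 3, 2, 0, 1, 7, 6, 8], [4, 5, 3, 2, 0, 1, 8, 7, 6], [4, 5, 3, 2, 1, 0, 6, 7, 8], [4, 5, 3, 2, 1, 0, 7, 8, 6], [4, 5, 3, 2, 1, 0, 8, 6, 7], [5, 3, 4, 0, 1, 2, 6, 8, 7], [5, 3, 4, 0, 1, 2, 7, 6, 8], [5,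 3, 4, 0, 1, 2, 8, 7, 6], [5, 3, 4, 0, 2, 1, 6, 7, 8], [5, 3, 4, 0, 2, 1, 7, 8, 6], [5, 3, 4, 0, 2, 1, 8, 6, 7], [5, 3, 4, 1, 0, 2, 6, 7, 8], [5, 3, 4, 1, 0, 2, 7, 8, 6], [5, 3, 4, 1, 0, 2, 8, 6, 7], [5, 3, 4, 1, 2, 0, 6, 8, 7], [5, 3, 4, 1, 2, 0, 7, 6, 8], [5, 3, 4, 1, 2, 0, 8, 7, 6], [5, 3, 4, 2, 0, 1, 6, 8, 7], [5, 3, 4, 2, 0, 1, 7, 6, 8], [5, 3, 4, 2, 0, 1, 8, 7, 6], [5, 3, 4, 2, 1, 0, 6, 7, 8], [5, 3, 4, 2, 1, 0, 7, 8, 6], [5, 3, 4, 2, 1, 0, 8, 6, 7], [5, 4, 3, 0, 1, 2, 6, 7, 8], [5, 4, 3, 0, 1, 2, 7, 8, 6], [5, 4, 3, 0, 1, 2, 8, 6, 7], [5, 4, 3, 0, 2, 1, 6, 8, 7], [5, 4, 3, 0, 2, 1, 7, 6, 8], [5, 4, 3, 0, 2, 1, 8, 7, 6], [5, 4, 3, 1, 0, 2, 6, 8, 7], [5, 4, 3, 1, 0, 2, 7, 6, 8], [5, 4, 3,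 1, 0, 2, 8, 7, 6], [5, 4, 3, 1, 2, 0, 6, 7, 8], [5, 4, 3, 1, 2, 0, 7, 8, 6], [5, 4, 3, 1, 2, 0, 8, 6, 7], [5, 4, 3, 2, 0, 1, 6, 7, 8], [5, 4, 3, 2, 0, 1, 7, 8, 6], [5, 4, 3, 2, 0, 1, 8, 6, 7], [5, 4, 3, 2, 1, 0, 6, 8, 7], [5, 4, 3, 2, 1, 0, 7, 6, 8], [5, 4, 3, 2, 1, 0, 8, 7, 6]]
  nxt := [[180, 37], [182, 36], [181, 38], [183, 40], [185, 39], [184, 41], [186, 43], [188, 42], [187, 44], [189, 46], [191, 45], [190, 47], [192, 49], [194, 48], [193, 50], [195, 52], [197, 51], [196, 53], [198, 55], [200, 54], [199, 56], [201, 58], [203, 57], [202, 59], [204, 61], [206, 60], [205, 62], [207, 64], [209, 63], [208, 65], [210, 67], [212, 66], [211, 68], [213, 70], [215, 69], [214, 71], [126, 1], [128,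 0], [127, 2], [129, 4], [131, 3], [130, 5], [132, 7], [134, 6], [133, 8], [135, 10], [137, 9], [136, 11], [138, 13], [140, 12], [139, 14], [141, 16], [143, 15], [142, 17], [108, 19], [110, 18], [109, 20], [111, 22], [113, 21], [112, 23], [114, 25], [116, 24], [115, 26], [117, 28], [119, 27], [118, 29], [120, 31], [122, 30], [121, 32], [123, 34], [125, 33], [124, 35], [162, 91], [164, 90], [163, 92], [165, 94], [167, 93], [166, 95], [168, 97], [170, 96], [169, 98], [171, 100], [173, 99], [172, 101], [174, 103], [176, 102], [175, 104], [177, 106], [179, 105], [178, 107], [144, 73], [146, 72], [145, 74], [147, 76], [149, 75], [148, 77], [150, 79], [152, 78], [151, 80], [153, 82], [155, 81], [154,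 83], [156, 85], [158, 84], [157, 86], [159, 88], [161, 87], [160, 89], [12, 115], [14, 114], [13, 116], [15, 118], [17, 117], [16, 119], [3, 109], [5, 108], [4, 110], [0, 112], [2, 111], [1, 113], [9, 124], [11, 123], [10, 125], [6, 121], [8, 120], [7, 122], [30, 133], [32, 132], [31, 134], [33, 136], [35, 135], [34, 137], [21, 127], [23, 126], [22, 128], [18, 130], [20, 129], [19, 131], [27, 142], [29, 141], [28, 143], [24, 139], [26, 138], [25, 140], [48, 151], [50, 150], [49, 152], [51, 154], [53, 153], [52, 155], [39, 145], [41, 144], [40, 146], [36, 148], [38, 147], [37, 149], [45, 160], [47, 159], [46, 161], [42, 157], [44, 156], [43, 158], [66, 169], [68, 168], [67, 170], [69, 172], [71,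 171], [70, 173], [57, 163], [59, 162], [58, 164], [54, 166], [56, 165], [55, 167], [63, 178], [65, 177], [64, 179], [60, 175], [62, 174], [61, 176], [84, 187], [86, 186], [85, 188], [87, 190], [89, 189], [88, 191], [75, 181], [77, 180], [76, 182], [72, 184], [74, 183], [73, 185], [81, 196], [83, 195], [82, 197], [78, 193], [80, 192], [79, 194], [102, 205], [104, 204], [103, 206], [105, 208], [107, 207], [106, 209], [93, 199], [95, 198], [94, 200], [90, 202], [92, 201], [91, 203], [99, 214], [101, 213], [100, 215], [96, 211], [98, 210], [97, 212]]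
  words := [[], [1, 0, 1, 0, 1, 0, 1, 0], [0, 1, 0, 1, 0, 1, 0, 1], [1, 0, 0, 0, 1, 0, 0, 0, 1], [0, 1, 0, 1, 0, 1, 0, 1, 0, 0, 0, 1, 0, 0, 0], [0, 0, 0, 1, 0, 0, 0], [1, 0, 1, 0, 1, 0, 0], [0, 1, 0, 1, 0, 0, 0, 1, 0, 1, 0, 1, 0], [0, 0, 0, 0, 0, 1, 0], [1, 0, 0, 1, 0, 0], [1, 0, 0, 0, 1, 0, 1, 0, 1, 0, 0, 0], [0, 1, 0, 1, 0, 1, 0, 0, 0, 1, 0, 0], [0, 1, 0, 0, 1, 0, 0, 0], [1, 0, 1, 0, 0, 0, 1, 0, 0, 0, 1, 0], [0, 1, 0, 0, 0, 1, 0, 0, 0, 1, 0, 1], [0, 0, 1, 0, 1, 0, 1], [0, 1, 0, 1, 0, 1, 0, 0, 0, 1, 0, 1, 0], [0, 1, 0, 0, 0, 0, 0], [0, 1, 0, 1, 0, 0, 0, 1, 0, 0, 0], [0, 0, 0, 0, 1, 0, 0], [1, 0, 1, 0, 0, 0, 1, 0, 1, 0, 1, 0, 0], [0, 1, 0, 1, 0, 1, 0, 1, 0, 1, 0, 1], [0, 1, 0, 1], [0, 0, 1,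 0, 0, 0, 0, 0, 1, 0], [1, 0, 1, 0, 1, 0, 1, 0, 1, 0, 1, 0, 0, 0], [0, 0, 0, 1, 0, 0, 0, 0, 0, 1], [1, 0, 1, 0, 0, 0], [0, 1, 0, 0, 0, 1, 0, 1, 0], [1, 0, 0, 0, 0], [1, 0, 1, 0, 1, 0, 0, 0, 1, 0, 1], [0, 0, 0, 1, 0, 1, 0, 1, 0], [0, 0, 1], [1, 0, 1, 0, 1, 0, 1, 0, 0, 0, 1], [1, 0, 1, 0, 1, 0, 1, 0, 1, 0, 0, 0, 1, 0], [0, 1, 0, 0, 0, 1, 0, 0], [1, 0, 0, 0, 1, 0], [0, 1, 0, 1, 0, 1, 0], [1], [1, 0, 1, 0, 1, 0, 1, 0, 1], [1, 0, 1, 0, 1, 0, 1, 0, 1, 0, 0, 0, 1, 0, 0, 0], [0, 0, 0, 1, 0, 0, 0, 1], [1, 0, 0, 0, 1, 0, 0, 0], [0, 1, 0, 1, 0, 1, 0, 1, 0, 1, 0, 1, 0, 0], [0, 1, 0, 1, 0, 0], [1, 0, 0, 0, 0, 0, 1, 0], [0, 0, 0, 1, 0, 1, 0, 1, 0, 0, 0], [0, 0, 1, 0, 0], [1, 0, 1, 0, 1, 0, 1, 0, 0, 0, 1, 0,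 0], [0, 1, 0, 0, 0, 1, 0, 0, 0, 1, 0], [0, 0, 0, 0, 1, 0, 0, 0, 0], [1, 0, 1, 0, 0, 0, 1, 0, 0, 0, 1, 0, 1], [1, 0, 1, 0, 1, 0, 1, 0, 0, 0, 1, 0, 1, 0], [0, 1, 0, 0, 0, 0, 0, 1], [0, 0, 1, 0, 1, 0], [0, 1, 0, 0, 1, 0], [1, 0, 1, 0, 1, 0, 0, 0, 1, 0, 0, 0], [0, 1, 0, 0, 0, 1, 0, 1, 0, 1, 0, 0], [1, 0, 1, 0, 1], [1, 0, 1, 0, 1, 0, 1, 0, 1, 0, 1, 0, 1], [0, 0, 0, 0, 0, 1, 0, 0, 0, 0, 0], [0, 0, 1, 0, 0, 0, 1, 0, 1], [0, 1, 0, 1, 0, 1, 0, 1, 0, 1, 0, 0, 0], [0, 1, 0, 0, 0], [0, 0, 0, 0], [1, 0, 1, 0, 0, 0, 1, 0, 1, 0], [0, 1, 0, 1, 0, 0, 0, 1, 0, 1], [1, 0, 0, 1], [1, 0, 0, 0, 1, 0, 1, 0, 1, 0], [0, 1, 0, 1, 0, 1, 0, 0, 0, 1], [1, 0, 1, 0, 0, 0, 1, 0, 0], [0, 1, 0, 1, 0, 1, 0, 1, 0, 0, 0, 1, 0],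 [0, 0, 0, 1, 0], [1, 0, 0, 1, 0, 0, 0, 0], [1, 0, 0, 0, 1, 0, 0, 0, 1, 0, 1, 0], [0, 1, 0, 1, 0, 0, 0, 1, 0, 0, 0, 1], [0, 0, 1, 0, 1, 0, 1, 0, 0], [0, 1, 0, 1, 0, 1, 0, 1, 0, 1, 0], [0, 1, 0], [1, 0, 1, 0, 0, 0, 1], [0, 1, 0, 1, 0, 1, 0, 0, 0, 1, 0, 0, 0, 1, 0], [0, 0, 0, 1, 0, 0, 0, 0, 0], [1, 0, 0, 0, 0, 1], [1, 0, 1, 0, 1, 0, 0, 0, 1, 0], [0, 1, 0, 0, 0, 1, 0, 1, 0, 1], [0, 0], [1, 0, 1, 0, 1, 0, 1, 0, 0, 0], [0, 1, 0, 1, 0, 1, 0, 1, 0, 0], [1, 0, 0, 0, 1, 0, 1], [0, 1, 0, 1, 0, 0, 0, 1, 0, 1, 0, 1, 0, 0, 0], [0, 0, 0, 0, 0, 1, 0, 0, 0], [0, 0, 0, 1, 0, 0, 0, 1, 0, 1, 0], [0, 0, 1, 0, 0, 0, 0], [1, 0, 1, 0, 1, 0, 0, 0, 1, 0, 0, 0, 1], [1, 0, 1, 0, 1, 0, 1, 0, 1, 0, 1, 0], [0, 1, 0, 0, 0,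 0, 0, 1, 0, 0], [1, 0, 1, 0], [0, 1, 0, 1, 0, 1, 0, 1, 0, 1, 0, 0, 0, 1], [0, 1, 0, 0, 0, 1], [0, 0, 1, 0, 0, 0, 1, 0], [0, 1, 0, 1, 0, 0, 0, 1, 0], [0, 0, 0, 0, 1], [1, 0, 1, 0, 0, 0, 1, 0, 1, 0, 1], [0, 1, 0, 1, 0, 1, 0, 0, 0], [1, 0, 0], [1, 0, 1, 0, 1, 0, 1, 0, 1, 0, 0], [0, 1, 0, 1, 0, 1, 0, 1, 0, 0, 0, 1, 0, 1], [0, 0, 0, 1, 0, 1], [1, 0, 0, 0, 0, 0, 1, 0, 0, 0], [1, 0, 0, 1, 0, 0, 0], [1, 0, 0, 0, 1, 0, 0, 0, 1, 0, 1], [0, 1, 0, 1, 0, 1, 0, 0, 0, 1, 0, 0, 0], [0, 1, 0, 1, 0, 1], [1, 0, 0, 0, 0, 0], [1, 0, 1, 0, 1, 0, 0, 0, 1, 0, 1, 0], [0, 0, 0, 1, 0, 0, 0, 1, 0, 1], [0, 0, 1, 0, 0, 0], [1, 0, 1, 0, 1, 0, 1, 0, 0, 0, 1, 0, 0, 0], [0, 0, 0, 0, 0], [1, 0, 1, 0, 1, 0, 1], [0, 1, 0, 1, 0,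 0, 0, 1, 0, 1, 0], [0, 1, 0, 0, 1], [1, 0, 1, 0, 1, 0, 0, 0, 1, 0, 0], [0, 1, 0, 0, 0, 1, 0, 1, 0, 1, 0], [0, 1, 0, 1, 0, 0, 0, 1, 0, 0], [0, 0, 0, 0, 1, 0], [1, 0, 1, 0, 0, 0, 1, 0, 1, 0, 1, 0], [0, 0, 1, 0, 1, 0, 1, 0], [0, 1, 0, 1, 0, 1, 0, 1, 0, 1], [0, 1], [1, 0, 1, 0, 1, 0, 1, 0, 1, 0, 0, 0, 1, 0, 0], [0, 1, 0, 0, 0, 1, 0, 0, 0], [1, 0, 0, 0, 1, 0, 0], [1, 0, 1, 0, 1, 0, 1, 0, 1, 0, 1], [0, 1, 0, 0, 0, 0, 0, 1, 0], [1, 0, 1], [1, 0, 1, 0, 0, 0, 1, 0, 0, 0], [0, 1, 0, 1, 0, 1, 0, 1, 0, 0, 0, 1, 0, 0], [0, 0, 0, 1, 0, 0], [1, 0, 0, 0, 1, 0, 1, 0], [0, 1, 0, 1, 0, 0, 0, 1, 0, 0, 0, 1, 0, 1], [0, 0, 0, 0, 0, 1, 0, 0, 0, 0], [0, 1, 0, 1, 0, 1, 0, 1, 0, 0, 0, 1, 0, 1, 0], [0, 0, 0, 1, 0, 1,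 0], [0, 0, 1, 0, 0, 0, 0, 0, 1], [1, 0, 0, 0, 1, 0, 0, 0, 1, 0], [0, 1, 0, 1, 0, 1, 0, 0, 0, 1, 0, 0, 0, 1], [0, 0, 0, 1, 0, 0, 0, 0], [0, 1, 0, 1, 0, 1, 0, 1, 0, 1, 0, 1, 0], [0, 1, 0, 1, 0], [1, 0, 0, 0, 0, 0, 1], [1, 0, 1, 0, 1, 0, 1, 0, 0, 0, 1, 0, 0, 0, 1], [0, 0, 0, 1, 0, 0, 0, 1, 0], [0, 0, 1, 0, 0, 0, 1], [1, 0, 1, 0, 1, 0], [0, 1, 0, 1, 0, 0, 0, 1, 0, 1, 0, 1], [0, 0, 0, 0, 0, 1], [0, 0, 1, 0, 1, 0, 1, 0, 0, 0], [0, 1, 0, 1, 0, 1, 0, 1, 0, 1, 0, 0], [0, 1, 0, 0], [1, 0, 1, 0, 1, 0, 1, 0, 1, 0, 1, 0, 0], [0, 1, 0, 0, 0, 0, 0, 1, 0, 0, 0], [1, 0, 1, 0, 0], [0, 1, 0, 0, 1, 0, 0, 0, 0], [1, 0, 1, 0, 1, 0, 0, 0, 1], [0, 1, 0, 0, 0, 1, 0, 0, 0, 1, 0, 1, 0], [0, 0, 0, 1, 0, 1, 0, 1, 0, 0],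 [0, 0, 1, 0], [1, 0, 1, 0, 1, 0, 1, 0, 0, 0, 1, 0], [0, 1, 0, 1, 0, 0, 0, 1], [0, 0, 0, 0, 1, 0, 0, 0, 0, 0], [1, 0, 1, 0, 0, 0, 1, 0, 0, 0, 1, 0, 1, 0], [1, 0, 0, 1, 0], [1, 0, 0, 0, 1, 0, 1, 0, 1, 0, 0], [0, 1, 0, 1, 0, 1, 0, 0, 0, 1, 0], [0, 0, 0], [1, 0, 1, 0, 0, 0, 1, 0, 1], [0, 1, 0, 1, 0, 1, 0, 1, 0, 0, 0], [0, 1, 0, 0, 0, 1, 0, 1], [1, 0, 0, 0], [1, 0, 1, 0, 1, 0, 1, 0, 1, 0, 0, 0], [0], [1, 0, 1, 0, 1, 0, 1, 0, 0], [0, 1, 0, 1, 0, 1, 0, 1, 0], [0, 1, 0, 0, 0, 1, 0, 0, 0, 1], [0, 0, 0, 0, 1, 0, 0, 0], [1, 0, 1, 0, 0, 0, 1, 0, 1, 0, 1, 0, 0, 0], [0, 1, 0, 1, 0, 1, 0, 0], [1, 0], [1, 0, 1, 0, 1, 0, 1, 0, 1, 0], [0, 1, 0, 0, 1, 0, 0], [1, 0, 1, 0, 0, 0, 1, 0, 0, 0, 1], [0, 1, 0, 0, 0, 1,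 0, 1, 0, 1, 0, 0, 0], [1, 0, 0, 1, 0, 0, 0, 0, 0], [1, 0, 0, 0, 1, 0, 1, 0, 1], [0, 1, 0, 1, 0, 0, 0, 1, 0, 0, 0, 1, 0], [0, 0, 0, 1, 0, 1, 0, 1], [0, 0, 1, 0, 0, 0, 0, 0], [1, 0, 1, 0, 1, 0, 0, 0, 1, 0, 0, 0, 1, 0], [1, 0, 1, 0, 1, 0, 0, 0], [0, 1, 0, 1, 0, 0, 0, 1, 0, 1, 0, 1, 0, 0], [0, 0, 0, 0, 0, 1, 0, 0], [1, 0, 1, 0, 1, 0, 1, 0, 0, 0, 1, 0, 1], [0, 0, 0, 1, 0, 0, 0, 0, 0, 1, 0], [0, 0, 1, 0, 1], [0, 1, 0, 1, 0, 1, 0, 1, 0, 1, 0, 1, 0, 0, 0], [0, 1, 0, 1, 0, 0, 0], [1, 0, 0, 0, 0, 0, 1, 0, 0], [0, 0, 1, 0, 0, 0, 1, 0, 1, 0], [0, 1, 0, 1, 0, 1, 0, 0, 0, 1, 0, 1], [0, 1, 0, 0, 0, 0], [1, 0, 1, 0, 0, 0, 1, 0], [0, 1, 0, 1, 0, 1, 0, 1, 0, 0, 0, 1], [0, 0, 0, 1], [1, 0, 1, 0, 1, 0, 1, 0, 1,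 0, 0, 0, 1], [0, 1, 0, 0, 0, 1, 0], [1, 0, 0, 0, 1]]

/-- element orders -/
def ords27 : List ℕ := [1, 3, 3, 2, 2, 2, 2, 2, 2, 3, 3, 3, 3, 3, 3, 2, 2, 2, 2, 2, 2, 2, 6, 6, 2, 6, 6, 6, 6, 6, 6, 6, 6, 2, 6, 6, 2, 2, 2, 2, 6, 6, 2, 6, 6, 6, 6, 6, 6, 6, 6, 2, 6, 6, 3, 3, 3, 6, 6, 6, 6, 6, 6, 3, 3, 3, 3, 3, 3, 6, 6, 6, 3, 3, 3, 6, 6, 6, 6, 6, 6, 3, 3, 3, 3, 3, 3, 6, 6, 6, 2, 2, 2, 2, 6, 6, 2, 6, 6, 6, 6, 6, 6, 6, 6, 2, 6, 6, 2, 2, 2, 4, 12, 12, 4, 12, 12, 6, 6, 6, 6, 6, 6, 4, 12, 12, 4, 12, 12, 2, 2, 2, 6, 6, 6, 4, 12, 12, 4, 12, 12, 6, 6, 6, 4, 12, 12, 6, 6, 6, 2, 2, 2, 4, 12, 12, 4, 12, 12, 6, 6, 6, 6, 6, 6, 4, 12, 12, 4, 12, 12, 6, 6, 6, 2, 2, 2, 4, 12, 12, 6, 6, 6, 4, 12, 12, 4, 12, 12, 2, 2,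 2, 6, 6, 6, 4, 12, 12, 4, 12, 12, 6, 6, 6, 6, 6, 6, 4, 12, 12, 4, 12, 12, 2, 2, 2]

theorem chk27 : chkAll e27 = true := by decide +kernel

theorem ord27 : e27.Ls.map (rord e27.d) = ords27 := by decide +kernel

theorem nz27 : ∀ k ∈ ords27, k ≠ 0 := by decide +kernel

theorem ex27 : ∀ k ∈ ords27, k ∣ 84 := by decide +kernel

/-- solvable series data -/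
def s27 : SData where
  d := 9
  series := [[[5, 3, 4, 0, 1, 2, 6, 8, 7], [1, 0, 2, 3, 4, 5, 7, 6, 8]], [[0, 2, 1, 5, 4, 3, 8, 6, 7], [2, 1, 0, 3, 5, 4, 7, 8, 6], [2, 0, 1, 5, 3, 4, 8, 6, 7]], [[1, 2, 0, 3, 4, 5, 6, 7, 8], [1, 2, 0, 5, 3, 4, 6, 7, 8]]]
  conjW := [[[([2, 0], [0, 2]), ([1, 2, 2, 0, 1], [2, 2, 1, 0, 1]), ([2, 1, 1], [2, 1, 1])], [([0, 2, 1, 0], [0, 2, 1, 0]), ([1, 2, 2, 0, 1], [1, 2, 2, 0, 1]), ([0, 1, 0, 0], [0, 1, 0, 0])]], [[([0, 0], [0, 0]), ([1, 1], [1, 1])], [([0, 0], [0, 0]), ([1, 1], [1, 1])], [([0], [0]), ([1], [1])]], [[], []]]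
  commW := [[[[], [2, 1, 0, 0]], [[1, 2, 2], []]], [[[], [1, 1], [1, 0]], [[1], [], [1, 0]], [[1, 1, 0, 0], [1, 1, 0, 0], []]], [[[], []], [[], []]]]

theorem chkS27 : chkS s27 = true := by decide +kernel

end Cfsg.Agent.Lib.Helper5.OT.D
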