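import Cfsg.Agent.Lib.Helper5.OT3

set_option autoImplicit false
set_option maxRecDepth 100000

/-! generated data: group R2_1906 of order 6 and degree 5 -/

namespace Cfsg.Agent.Lib.Helper5.OT.D

/-- enumeration data -/
def e3 : EData where
  d := 5
  gens := [[1, 0, 2, 4, 3], [1, 2, 0, 3, 4]]
  Ls := [[0, 1, 2, 3, 4], [0, 2, 1, 4, 3], [1, 0, 2, 4, 3], [1, 2, 0, 3, 4], [2, 0, 1, 3, 4], [2, 1, 0, 4, 3]]
  nxt := [[2, 3], [3, 2], [0, 5], [1, 4], [5, 0], [4, 1]]
  words := [[], [0, 1], [0], [1], [1, 1], [1, 0]]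

/-- element orders -/
def ords3 : List ℕ := [1, 2, 2, 3, 3, 2]

theorem chk3 : chkAll e3 = true := by decide +kernel

theorem ord3 : e3.Ls.map (rord e3.d) = ords3 := by decide +kernel

theorem nz3 : ∀ k ∈ ords3, k ≠ 0 := by decide +kernel

theorem ex3 : ∀ k ∈ ords3, k ∣ 84 := by decide +kernel

/-- solvable series data -/
def s3 : SData where
  d := 5
  series := [[[1, 0, 2, 4, 3], [1, 2, 0, 3, 4]], [[2, 0, 1, 3, 4]]]
  conjW := [[[([0, 0], [0, 0])], [([0], [0])]], [[]]]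
  commW := [[[[], [0, 0]], [[0], []]], [[[]]]]

theorem chkS3 : chkS s3 = true := by decide +kernel

end Cfsg.Agent.Lib.Helper5.OT.D
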