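import Cfsg.Agent.Lib.Helper5.OT3

set_option autoImplicit false
set_option maxRecDepth 100000

/-! generated data: group PSL2_7 of order 168 and degree 7 -/

namespace Cfsg.Agent.Lib.Helper5.OT.D

/-- enumeration data -/
def e33 : EData where
  d := 7
  gens := [[3, 0, 4, 1, 5, 2, 6], [0, 2, 1, 3, 4, 6, 5]]
  Ls := [[0, 1, 2, 3, 4, 5, 6], [0, 1, 2, 4, 3, 6, 5], [0, 1, 2, 5, 6, 3, 4], [0, 1, 2, 6, 5, 4, 3], [0, 2, 1, 3, 4, 6, 5], [0, 2, 1, 4, 3, 5, 6], [0, 2, 1, 5, 6, 4, 3], [0, 2, 1, 6, 5, 3, 4], [0, 3, 4, 1, 2, 5, 6], [0, 3, 4, 2, 1, 6, 5], [0, 3, 4, 5, 6, 1, 2], [0, 3, 4, 6, 5, 2, 1], [0, 4, 3, 1, 2, 6, 5], [0, 4, 3, 2, 1, 5, 6], [0, 4, 3, 5, 6, 2, 1], [0, 4, 3, 6, 5, 1, 2], [0, 5, 6, 1, 2, 3, 4],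 [0, 5, 6, 2, 1, 4, 3], [0, 5, 6, 3, 4, 1, 2], [0, 5, 6, 4, 3, 2, 1], [0, 6, 5, 1, 2, 4, 3], [0, 6, 5, 2, 1, 3, 4], [0, 6, 5, 3, 4, 2, 1], [0, 6, 5, 4, 3, 1, 2], [1, 0, 2, 3, 5, 4, 6], [1, 0, 2, 4, 6, 3, 5], [1, 0, 2, 5, 3, 6, 4], [1, 0, 2, 6, 4, 5, 3], [1, 2, 0, 3, 5, 6, 4], [1, 2, 0, 4, 6, 5, 3], [1, 2, 0, 5, 3, 4, 6], [1, 2, 0, 6, 4, 3, 5], [1, 3, 5, 0, 2, 4, 6], [1, 3, 5, 2, 0, 6, 4], [1, 3, 5, 4, 6, 0, 2], [1, 3, 5, 6, 4, 2, 0], [1, 4, 6, 0, 2, 3, 5], [1, 4, 6, 2, 0, 5, 3], [1, 4, 6, 3, 5, 0, 2], [1, 4, 6, 5, 3, 2, 0], [1, 5, 3, 0, 2, 6, 4], [1, 5, 3, 2, 0, 4, 6], [1, 5, 3, 4, 6, 2, 0], [1, 5, 3, 6, 4, 0, 2], [1, 6, 4, 0, 2, 5, 3], [1, 6, 4, 2, 0, 3, 5], [1, 6, 4, 3, 5, 2, 0], [1, 6, 4, 5, 3,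 0, 2], [2, 0, 1, 3, 6, 4, 5], [2, 0, 1, 4, 5, 3, 6], [2, 0, 1, 5, 4, 6, 3], [2, 0, 1, 6, 3, 5, 4], [2, 1, 0, 3, 6, 5, 4], [2, 1, 0, 4, 5, 6, 3], [2, 1, 0, 5, 4, 3, 6], [2, 1, 0, 6, 3, 4, 5], [2, 3, 6, 0, 1, 4, 5], [2, 3, 6, 1, 0, 5, 4], [2, 3, 6, 4, 5, 0, 1], [2, 3, 6, 5, 4, 1, 0], [2, 4, 5, 0, 1, 3, 6], [2, 4, 5, 1, 0, 6, 3], [2, 4, 5, 3, 6, 0, 1], [2, 4, 5, 6, 3, 1, 0], [2, 5, 4, 0, 1, 6, 3], [2, 5, 4, 1, 0, 3, 6], [2, 5, 4, 3, 6, 1, 0], [2, 5, 4, 6, 3, 0, 1], [2, 6, 3, 0, 1, 5, 4], [2, 6, 3, 1, 0, 4, 5], [2, 6, 3, 4, 5, 1, 0], [2, 6, 3, 5, 4, 0, 1], [3, 0, 4, 1, 5, 2, 6], [3, 0, 4, 2, 6, 1, 5], [3, 0, 4, 5, 1, 6, 2], [3, 0, 4, 6, 2, 5, 1], [3, 1, 5, 0, 4, 2, 6], [3, 1, 5, 2, 6, 0, 4], [3, 1, 5,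 4, 0, 6, 2], [3, 1, 5, 6, 2, 4, 0], [3, 2, 6, 0, 4, 1, 5], [3, 2, 6, 1, 5, 0, 4], [3, 2, 6, 4, 0, 5, 1], [3, 2, 6, 5, 1, 4, 0], [3, 4, 0, 1, 5, 6, 2], [3, 4, 0, 2, 6, 5, 1], [3, 4, 0, 5, 1, 2, 6], [3, 4, 0, 6, 2, 1, 5], [3, 5, 1, 0, 4, 6, 2], [3, 5, 1, 2, 6, 4, 0], [3, 5, 1, 4, 0, 2, 6], [3, 5, 1, 6, 2, 0, 4], [3, 6, 2, 0, 4, 5, 1], [3, 6, 2, 1, 5, 4, 0], [3, 6, 2, 4, 0, 1, 5], [3, 6, 2, 5, 1, 0, 4], [4, 0, 3, 1, 6, 2, 5], [4, 0, 3, 2, 5, 1, 6], [4, 0, 3, 5, 2, 6, 1], [4, 0, 3, 6, 1, 5, 2], [4, 1, 6, 0, 3, 2, 5], [4, 1, 6, 2, 5, 0, 3], [4, 1, 6, 3, 0, 5, 2], [4, 1, 6, 5, 2, 3, 0], [4, 2, 5, 0, 3, 1, 6], [4, 2, 5, 1, 6, 0, 3], [4, 2, 5, 3, 0, 6, 1], [4, 2, 5, 6, 1, 3, 0], [4, 3, 0, 1, 6, 5, 2], [4,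 3, 0, 2, 5, 6, 1], [4, 3, 0, 5, 2, 1, 6], [4, 3, 0, 6, 1, 2, 5], [4, 5, 2, 0, 3, 6, 1], [4, 5, 2, 1, 6, 3, 0], [4, 5, 2, 3, 0, 1, 6], [4, 5, 2, 6, 1, 0, 3], [4, 6, 1, 0, 3, 5, 2], [4, 6, 1, 2, 5, 3, 0], [4, 6, 1, 3, 0, 2, 5], [4, 6, 1, 5, 2, 0, 3], [5, 0, 6, 1, 3, 2, 4], [5, 0, 6, 2, 4, 1, 3], [5, 0, 6, 3, 1, 4, 2], [5, 0, 6, 4, 2, 3, 1], [5, 1, 3, 0, 6, 2, 4], [5, 1, 3, 2, 4, 0, 6], [5, 1, 3, 4, 2, 6, 0], [5, 1, 3, 6, 0, 4, 2], [5, 2, 4, 0, 6, 1, 3], [5, 2, 4, 1, 3, 0, 6], [5, 2, 4, 3, 1, 6, 0], [5, 2, 4, 6, 0, 3, 1], [5, 3, 1, 0, 6, 4, 2], [5, 3, 1, 2, 4, 6, 0], [5, 3, 1, 4, 2, 0, 6], [5, 3, 1, 6, 0, 2, 4], [5, 4, 2, 0, 6, 3, 1], [5, 4, 2, 1, 3, 6, 0], [5, 4, 2, 3, 1, 0, 6], [5, 4, 2, 6, 0, 1, 3],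 [5, 6, 0, 1, 3, 4, 2], [5, 6, 0, 2, 4, 3, 1], [5, 6, 0, 3, 1, 2, 4], [5, 6, 0, 4, 2, 1, 3], [6, 0, 5, 1, 4, 2, 3], [6, 0, 5, 2, 3, 1, 4], [6, 0, 5, 3, 2, 4, 1], [6, 0, 5, 4, 1, 3, 2], [6, 1, 4, 0, 5, 2, 3], [6, 1, 4, 2, 3, 0, 5], [6, 1, 4, 3, 2, 5, 0], [6, 1, 4, 5, 0, 3, 2], [6, 2, 3, 0, 5, 1, 4], [6, 2, 3, 1, 4, 0, 5], [6, 2, 3, 4, 1, 5, 0], [6, 2, 3, 5, 0, 4, 1], [6, 3, 2, 0, 5, 4, 1], [6, 3, 2, 1, 4, 5, 0], [6, 3, 2, 4, 1, 0, 5], [6, 3, 2, 5, 0, 1, 4], [6, 4, 1, 0, 5, 3, 2], [6, 4, 1, 2, 3, 5, 0], [6, 4, 1, 3, 2, 0, 5], [6, 4, 1, 5, 0, 2, 3], [6, 5, 0, 1, 4, 3, 2], [6, 5, 0, 2, 3, 4, 1], [6, 5, 0, 3, 2, 1, 4], [6, 5, 0, 4, 1, 2, 3]]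
  nxt := [[72, 4], [74, 5], [73, 7], [75, 6], [84, 0], [86, 1], [85, 3], [87, 2], [76, 9], [78, 8], [77, 11], [79, 10], [88, 13], [90, 12], [89, 15], [91, 14], [80, 21], [82, 20], [81, 22], [83, 23], [92, 17], [94, 16], [93, 18], [95, 19], [8, 48], [10, 49], [9, 51], [11, 50], [12, 52], [14, 53], [13, 55], [15, 54], [0, 56], [1, 57], [2, 58], [3, 59], [18, 60], [19, 61], [16, 62], [17, 63], [4, 68], [5, 69], [6, 70], [7, 71], [22, 64], [23, 65], [20, 66], [21, 67], [108, 24], [110, 25], [109, 27], [111, 26], [96, 28], [98, 29], [97, 31], [99, 30], [102, 32], [100, 33], [103, 34], [101, 35], [114, 36], [112, 37], [113, 38], [115, 39], [106, 44], [104, 45], [105, 46], [107, 47], [118, 40], [116, 41],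 [119, 42], [117, 43], [32, 73], [34, 72], [33, 75], [35, 74], [24, 80], [25, 81], [26, 82], [27, 83], [38, 76], [36, 77], [39, 78], [37, 79], [40, 85], [42, 84], [41, 87], [43, 86], [28, 92], [29, 93], [30, 94], [31, 95], [46, 88], [44, 89], [47, 90], [45, 91], [132, 97], [134, 96], [133, 99], [135, 98], [122, 104], [123, 105], [120, 106], [121, 107], [138, 100], [136, 101], [137, 102], [139, 103], [124, 109], [126, 108], [125, 111], [127, 110], [130, 116], [128, 117], [129, 118], [131, 119], [142, 112], [143, 113], [140, 114], [141, 115], [56, 145], [58, 144], [57, 146], [59, 147], [48, 152], [49, 153], [50, 154], [51, 155], [62, 148], [60, 149], [61, 150], [63, 151], [52, 156], [53, 157], [54, 158],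 [55, 159], [66, 160], [64, 161], [65, 162], [67, 163], [68, 165], [70, 164], [69, 166], [71, 167], [156, 121], [158, 120], [157, 122], [159, 123], [146, 128], [147, 129], [144, 130], [145, 131], [162, 124], [160, 125], [163, 126], [161, 127], [150, 132], [148, 133], [151, 134], [149, 135], [166, 136], [167, 137], [164, 138], [165, 139], [152, 141], [154, 140], [153, 142], [155, 143]]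
  words := [[], [1, 0, 0, 1, 0, 1, 0, 0, 1, 0], [0, 0, 1, 0], [1, 0, 0, 1, 0, 1], [1], [0, 0, 1, 0, 1, 0, 0, 1, 0], [0, 0, 1, 0, 1], [1, 0, 0, 1, 0], [0, 1, 0, 1, 0, 1, 0, 0, 1, 0, 1, 0, 1], [0, 1, 0, 1, 0, 0, 1, 0, 1, 0, 1, 0, 0], [1, 0, 1, 0, 1, 0, 1, 0, 0, 1, 0, 0, 1], [0, 1, 0, 1, 0, 1, 0, 0, 1, 0, 0, 1], [0, 1, 0, 1, 0, 1, 0, 0, 1, 0, 1, 0], [1, 0, 1, 0, 1, 0, 1, 0, 0, 1, 0, 1, 0], [1, 0, 1, 0, 1, 0, 1, 0, 0, 1, 0, 0], [0, 1, 0, 1, 0, 1, 0, 0, 1, 0, 0], [1, 0, 1, 0, 0, 1, 0, 1, 0, 1, 0], [0, 1, 0, 0, 1, 0, 1, 0, 1, 0, 1], [1, 0, 1, 0, 0, 1, 0, 1, 0, 0], [0, 1, 0, 1, 0, 0, 1, 0, 0, 1, 0, 1, 0], [1, 0, 1, 0, 0, 1, 0, 1, 0, 1, 0, 1], [0, 1, 0, 0, 1, 0, 1, 0, 1, 0], [0, 1, 0, 0, 1, 0, 1, 0, 0], [1,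 0, 1, 0, 1, 0, 0, 1, 0, 0, 1, 0, 1, 0], [1, 0, 1, 0, 1, 0, 0, 1, 0, 1, 0, 1], [0, 1, 0, 1, 0, 1, 0, 0, 1, 0, 1, 0, 0], [1, 0, 1, 0, 0, 1, 0, 1, 0, 1, 0, 0], [1, 0, 1, 0, 1, 0, 0, 1, 0, 0, 1], [1, 0, 1, 0, 1, 0, 0, 1, 0, 1, 0], [0, 1, 0, 0, 1, 0, 0, 1, 0, 1, 0, 0], [0, 1, 0, 0, 1, 0, 0, 1, 0, 1, 0, 1, 0], [1, 0, 1, 0, 1, 0, 0, 1, 0, 0], [0, 0], [0, 1, 0, 1, 0, 0, 1, 0, 1], [0, 1, 0], [0, 0, 1, 0, 0, 1, 0, 1], [1, 0, 0, 1, 0, 1, 0, 0, 1], [1, 0, 1, 0, 0, 1, 0, 0, 1, 0, 1, 0], [1, 0, 0, 1, 0, 1, 0, 0, 1, 0, 0, 1, 0], [1, 0, 0, 1, 0, 1, 0, 1, 0, 1], [0, 0, 1], [0, 1, 0, 1, 0, 0, 1, 0], [0, 1, 0, 1], [0, 0, 1, 0, 0, 1, 0], [1, 0, 0, 1, 0, 1, 0, 0], [1, 0, 1, 0, 0, 1, 0, 0, 1, 0, 1, 0, 1], [1, 0, 0, 1,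 0, 1, 0, 0, 1, 0, 0, 1, 0, 1], [1, 0, 0, 1, 0, 1, 0, 1, 0], [0, 1, 0, 1, 0, 0, 1, 0, 1, 0, 1], [1, 0, 1, 0, 1, 0, 1, 0, 0, 1, 0, 1, 0, 0], [0, 1, 0, 1, 0, 0, 1, 0, 0, 1], [0, 1, 0, 0, 1, 0, 1, 0, 1, 0, 0], [0, 1, 0, 1, 0, 0, 1, 0, 1, 0], [1, 0, 1, 0, 0, 1, 0, 0, 1, 0, 1, 0, 0], [0, 1, 0, 1, 0, 0, 1, 0, 0], [0, 1, 0, 0, 1, 0, 1, 0, 1, 0, 0, 1], [1, 0, 0], [1, 0, 1, 0, 1, 0, 0, 1, 0, 1], [1, 0, 1, 0], [1, 0, 0, 1, 0, 0, 1, 0, 1], [0, 0, 1, 0, 1, 0, 0, 1], [0, 1, 0, 0, 1, 0, 0, 1, 0, 1, 0], [0, 0, 1, 0, 1, 0, 0, 1, 0, 0, 1, 0], [0, 0, 1, 0, 1, 0, 1, 0, 1], [0, 0, 1, 0, 1, 0, 0], [0, 1, 0, 0, 1, 0, 0, 1, 0, 1, 0, 1], [0, 0, 1, 0, 1, 0, 0, 1, 0, 0, 1, 0, 1], [0, 0, 1, 0, 1, 0, 1, 0], [1, 0, 0, 1], [1,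 0, 1, 0, 1, 0, 0, 1, 0], [1, 0, 1, 0, 1], [1, 0, 0, 1, 0, 0, 1, 0], [0], [1, 0], [1, 0, 1, 0, 0, 1, 0, 1], [0, 1, 0, 0, 1, 0, 1], [1, 0, 1, 0, 1, 0, 0, 1, 0, 1, 0, 1, 0], [1, 0, 1, 0, 1, 0, 0, 1, 0, 1, 0, 0], [1, 0, 0, 1, 0, 0, 1, 0, 1, 0, 1, 0, 1], [0, 0, 1, 0, 1, 0, 1, 0, 0, 1, 0, 0, 1], [0, 1, 0, 1, 0, 0, 1, 0, 1, 0, 1, 0], [0, 1, 0, 1, 0, 0, 1, 0, 1, 0, 0], [0, 0, 1, 0, 0, 1, 0, 1, 0, 1, 0, 1], [0, 0, 1, 0, 1, 0, 0, 1, 0, 0, 1, 0, 1, 0], [0, 1], [1, 0, 1], [1, 0, 1, 0, 0, 1, 0], [0, 1, 0, 0, 1, 0], [0, 0, 1, 0, 1, 0, 1, 0, 0, 1, 0, 1, 0], [1, 0, 0, 1, 0, 0, 1, 0, 1, 0, 0], [1, 0, 0, 1, 0, 0, 1, 0, 1, 0, 1, 0], [0, 0, 1, 0, 1, 0, 1, 0, 0, 1, 0, 0], [0, 1, 0, 1, 0, 0, 1, 0, 1, 0, 1, 0, 1], [0, 0,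 1, 0, 0, 1, 0, 1, 0, 0], [0, 0, 1, 0, 0, 1, 0, 1, 0, 1, 0], [1, 0, 0, 1, 0, 1, 0, 1, 0, 0, 1, 0, 0], [1, 0, 0, 1, 0, 1, 0, 0, 1, 0, 0], [0, 0, 1, 0, 1, 0, 0, 1, 0, 0], [0, 1, 0, 1, 0, 0, 1, 0, 0, 1, 0, 1, 0, 0], [0, 0, 1, 0, 0, 1, 0, 1, 0, 1, 0, 0, 1], [0, 1, 0, 1, 0, 1, 0, 0, 1, 0, 1], [0, 1, 0, 0, 1, 0, 0, 1, 0, 1], [0, 1, 0, 0], [0, 1, 0, 1, 0], [1, 0, 1, 0, 1, 0, 1, 0, 0, 1, 0, 1], [1, 0, 1, 0, 0, 1, 0, 0, 1, 0, 1], [1, 0, 1, 0, 0], [1, 0, 1, 0, 1, 0], [1, 0, 0, 1, 0, 1, 0, 0, 1, 0, 0, 1], [0, 0, 1, 0, 1, 0, 0, 1, 0, 0, 1], [1, 0, 0, 1, 0, 0, 1, 0, 1, 0, 1, 0, 0], [0, 0, 1, 0, 0, 1, 0, 1, 0, 1, 0, 0], [1, 0, 1, 0, 1, 0, 1, 0, 0, 1, 0], [1, 0, 1, 0, 0, 1, 0, 0, 1, 0], [1, 0, 1, 0, 0, 1], [1, 0,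 1, 0, 1, 0, 1], [0, 1, 0, 1, 0, 1, 0, 0, 1, 0], [0, 1, 0, 0, 1, 0, 0, 1, 0], [0, 1, 0, 0, 1], [0, 1, 0, 1, 0, 1], [0, 0, 1, 0, 0], [0, 0, 1, 0, 1, 0], [0, 0, 1, 0, 1, 0, 1, 0, 0, 1, 0, 1], [1, 0, 1, 0, 1, 0, 1, 0, 0, 1], [1, 0, 1, 0, 0, 1, 0, 1, 0, 1], [0, 1, 0, 0, 1, 0, 0, 1, 0, 1, 0, 1, 0, 0], [1, 0, 1, 0, 0, 1, 0, 0, 1], [1, 0, 0, 1, 0, 1, 0, 1, 0, 0], [0, 1, 0, 1, 0, 0, 1, 0, 0, 1, 0], [0, 1, 0, 1, 0, 0, 1], [1, 0, 0, 1, 0, 0, 1, 0, 1, 0], [0, 1, 0, 1, 0, 1, 0, 1], [1, 0, 1, 0, 0, 1, 0, 1, 0], [0, 0, 1, 0, 1, 0, 0, 1, 0, 0, 1, 0, 1, 0, 0], [1, 0, 1, 0, 0, 1, 0, 0], [1, 0, 0, 1, 0, 1, 0, 1, 0, 0, 1], [0, 1, 0, 1, 0, 0, 1, 0, 0, 1, 0, 1], [0, 1, 0, 1, 0, 0], [1, 0, 0, 1, 0, 0, 1, 0, 1, 0, 1], [0,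 1, 0, 1, 0, 1, 0], [0, 0, 1, 0, 0, 1], [0, 0, 1, 0, 1, 0, 1], [0, 0, 1, 0, 1, 0, 1, 0, 0, 1, 0], [1, 0, 1, 0, 1, 0, 1, 0, 0], [1, 0, 0, 1, 0, 1, 0], [1, 0, 0, 1, 0, 0], [0, 1, 0, 1, 0, 1, 0, 0, 1, 0, 0, 1, 0], [0, 1, 0, 1, 0, 1, 0, 0, 1], [1, 0, 1, 0, 1, 0, 0, 1, 0, 0, 1, 0], [1, 0, 1, 0, 1, 0, 0, 1], [0, 0, 1, 0, 0, 1, 0, 1, 0], [0, 0, 1, 0, 0, 1, 0, 0], [0, 1, 0, 0, 1, 0, 1, 0, 1], [0, 1, 0, 0, 1, 0, 1, 0, 1, 0, 0, 1, 0], [0, 1, 0, 0, 1, 0, 0, 1], [0, 0, 1, 0, 1, 0, 1, 0, 0], [0, 1, 0, 0, 1, 0, 1, 0], [0, 0, 1, 0, 1, 0, 1, 0, 0, 1, 0, 0, 1, 0], [0, 1, 0, 0, 1, 0, 0], [0, 0, 1, 0, 1, 0, 1, 0, 0, 1], [1, 0, 1, 0, 1, 0, 0, 1, 0, 0, 1, 0, 1], [1, 0, 1, 0, 1, 0, 0], [0, 0, 1, 0, 0, 1, 0, 1, 0, 1], [1,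 0, 1, 0, 1, 0, 1, 0], [1, 0, 0, 1, 0, 1, 0, 1], [1, 0, 0, 1, 0, 0, 1], [1, 0, 0, 1, 0, 1, 0, 1, 0, 0, 1, 0], [0, 1, 0, 1, 0, 1, 0, 0]]

/-- element orders -/
def ords33 : List ℕ := [1, 2, 2, 2, 2, 2, 4, 4, 2, 4, 3, 3, 4, 2, 3, 3, 3, 3, 2, 4, 3, 3, 2, 4, 2, 4, 4, 2, 3, 3, 3, 3, 3, 7, 7, 4, 7, 3, 4, 7, 7, 4, 7, 3, 4, 7, 3, 7, 3, 3, 3, 3, 2, 4, 2, 4, 7, 4, 7, 3, 4, 7, 3, 7, 7, 3, 4, 7, 3, 7, 7, 4, 3, 7, 7, 4, 2, 4, 3, 3, 4, 7, 3, 7, 7, 3, 4, 7, 4, 7, 3, 7, 2, 4, 3, 3, 7, 4, 7, 3, 3, 3, 2, 4, 3, 7, 4, 7, 4, 7, 3, 7, 3, 3, 2, 4, 3, 7, 4, 7, 7, 3, 4, 7, 4, 2, 3, 3, 7, 4, 3, 7, 7, 3, 4, 7, 3, 3, 2, 4, 7, 4, 3, 7, 4, 7, 3, 7, 3, 3, 2, 4, 7, 3, 4, 7, 4, 2, 3, 3, 7, 4, 3, 7, 3, 7, 4, 7]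

theorem chk33 : chkAll e33 = true := by decide +kernel

theorem ord33 : e33.Ls.map (rord e33.d) = ords33 := by decide +kernel

theorem nz33 : ∀ k ∈ ords33, k ≠ 0 := by decide +kernel

theorem ex33 : ∀ k ∈ ords33, k ∣ 84 := by decide +kernel

/-- commutator witnesses -/
def cw33 : List (List ℕ × List ℕ) := [([0, 1, 0, 1, 0, 1, 0, 0, 1, 0, 1, 0, 1], [0]), ([1, 0, 0, 1, 0, 1, 0, 0, 1, 0], [1, 0, 1, 0, 0, 1, 0, 1, 0, 1, 0])]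

theorem chkP33 : chkPerfect e33.d e33.gens cw33 = true := by decide +kernel

end Cfsg.Agent.Lib.Helper5.OT.D
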