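import Cfsg.Agent.Lib.Helper5.OT3

set_option autoImplicit false
set_option maxRecDepth 100000

/-! generated data: group R13_480 of order 8 and degree 6 -/

namespace Cfsg.Agent.Lib.Helper5.OT.D

/-- enumeration data -/
def e4 : EData where
  d := 6
  gens := [[1, 0, 5, 4, 3, 2], [1, 0, 3, 4, 5, 2]]
  Ls := [[0, 1, 2, 3, 4, 5], [0, 1, 2, 5, 4, 3], [0, 1, 4, 3, 2, 5], [0, 1, 4, 5, 2, 3], [1, 0, 3, 2, 5, 4], [1, 0, 3, 4, 5, 2], [1, 0, 5, 2, 3, 4], [1, 0, 5, 4, 3, 2]]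
  nxt := [[7, 5], [6, 4], [5, 7], [4, 6], [3, 2], [2, 3], [1, 0], [0, 1]]
  words := [[], [1, 0], [0, 1], [1, 1], [1, 1, 0], [1], [0, 1, 0], [0]]

/-- element orders -/
def ords4 : List ℕ := [1, 2, 2, 2, 2, 4, 4, 2]

theorem chk4 : chkAll e4 = true := by decide +kernel

theorem ord4 : e4.Ls.map (rord e4.d) = ords4 := by decide +kernel

theorem nz4 : ∀ k ∈ ords4, k ≠ 0 := by decide +kernel

theorem ex4 : ∀ k ∈ ords4, k ∣ 84 := by decide +kernel

/-- solvable series data -/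
def s4 : SData where
  d := 6
  series := [[[1, 0, 5, 4, 3, 2], [1, 0, 3, 4, 5, 2]], [[0, 1, 4, 5, 2, 3]]]
  conjW := [[[([0], [0])], [([0], [0])]], [[]]]
  commW := [[[[], [0]], [[0], []]], [[[]]]]

theorem chkS4 : chkS s4 = true := by decide +kernel

end Cfsg.Agent.Lib.Helper5.OT.D
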