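import Cfsg.Agent.Lib.Helper5.OT3

set_option autoImplicit false
set_option maxRecDepth 100000

/-! generated data: group R4_4069 of order 12 and degree 6 -/

namespace Cfsg.Agent.Lib.Helper5.OT.D

/-- enumeration data -/
def e5 : EData where
  d := 6
  gens := [[3, 1, 0, 2, 4, 5], [1, 0, 3, 2, 4, 5], [0, 1, 2, 3, 4, 5]]
  Ls := [[0, 1, 2, 3, 4, 5], [0, 2, 3, 1, 4, 5], [0, 3, 1, 2, 4, 5], [1, 0, 3, 2, 4, 5], [1, 2, 0, 3, 4, 5], [1, 3, 2, 0, 4, 5], [2, 0, 1, 3, 4, 5], [2, 1, 3, 0, 4, 5], [2, 3, 0, 1, 4, 5], [3, 0, 2, 1, 4, 5], [3, 1, 0, 2, 4, 5], [3, 2, 1, 0, 4, 5]]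
  nxt := [[10, 3, 0], [9, 5, 1], [11, 4, 2], [5, 0, 3], [3, 2, 4], [4, 1, 5], [2, 10, 6], [0, 9, 7], [1, 11, 8], [8, 7, 9], [7, 6, 10], [6, 8, 11]]
  words := [[], [1, 0, 1], [0, 1, 0], [1], [0, 0, 1], [0, 1], [1, 0], [0, 0], [0, 1, 0, 0], [1, 0, 0], [0], [0, 0, 1, 0]]

/-- element orders -/
def ords5 : List ℕ := [1, 3, 3, 2, 3, 3, 3, 3, 2, 3, 3, 2]

theorem chk5 : chkAll e5 = true := by decide +kernel

theorem ord5 : e5.Ls.map (rord e5.d) = ords5 := by decide +kernel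

theorem nz5 : ∀ k ∈ ords5, k ≠ 0 := by decide +kernel

theorem ex5 : ∀ k ∈ ords5, k ∣ 84 := by decide +kernel

/-- solvable series data -/
def s5 : SData where
  d := 6
  series := [[[3, 1, 0, 2, 4, 5], [1, 0, 3, 2, 4, 5], [0, 1, 2, 3, 4, 5]], [[1, 0, 3, 2, 4, 5], [3, 2, 1, 0, 4, 5]]]
  conjW := [[[([1, 0], [1]), ([0], [1, 0])], [([0], [0]), ([1], [1])], [([0], [0]), ([1], [1])]], [[], []]]
  commW := [[[[], [1], []], [[1], [], []], [[], [], []]], [[[], []], [[], []]]]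

theorem chkS5 : chkS s5 = true := by decide +kernel

end Cfsg.Agent.Lib.Helper5.OT.D
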