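import Cfsg.Agent.Lib.Helper5.OT3

set_option autoImplicit false
set_option maxRecDepth 100000

/-! generated data: group R2_290 of order 12 and degree 7 -/

namespace Cfsg.Agent.Lib.Helper5.OT.D

/-- enumeration data -/
def e6 : EData where
  d := 7
  gens := [[0, 1, 2, 5, 6, 3, 4], [2, 0, 1, 3, 4, 5, 6], [2, 1, 0, 4, 5, 6, 3]]
  Ls := [[0, 1, 2, 3, 4, 5, 6], [0, 1, 2, 5, 6, 3, 4], [0, 2, 1, 4, 5, 6, 3], [0, 2, 1, 6, 3, 4, 5], [1, 0, 2, 4, 5, 6, 3], [1, 0, 2, 6, 3, 4, 5], [1, 2, 0, 3, 4, 5, 6], [1, 2, 0, 5, 6, 3, 4], [2, 0, 1, 3, 4, 5, 6], [2, 0, 1, 5, 6, 3, 4], [2, 1, 0, 4, 5, 6, 3], [2, 1, 0, 6, 3, 4, 5]]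
  nxt := [[1, 8, 10], [0, 9, 11], [3, 10, 9], [2, 11, 8], [5, 2, 7], [4, 3, 6], [7, 0, 4], [6, 1, 5], [9, 6, 2], [8, 7, 3], [11, 4, 1], [10, 5, 0]]
  words := [[], [0], [2, 1], [2, 1, 0], [1, 2], [1, 2, 0], [1, 1], [1, 1, 0], [1], [1, 0], [2], [2, 0]]

/-- element orders -/
def ords6 : List ℕ := [1, 2, 4, 4, 4, 4, 3, 6, 3, 6, 4, 4]

theorem chk6 : chkAll e6 = true := by decide +kernel

theorem ord6 : e6.Ls.map (rord e6.d) = ords6 := by decide +kernel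

theorem nz6 : ∀ k ∈ ords6, k ≠ 0 := by decide +kernel

theorem ex6 : ∀ k ∈ ords6, k ∣ 84 := by decide +kernel

/-- solvable series data -/
def s6 : SData where
  d := 7
  series := [[[0, 1, 2, 5, 6, 3, 4], [2, 0, 1, 3, 4, 5, 6], [2, 1, 0, 4, 5, 6, 3]], [[1, 2, 0, 3, 4, 5, 6]]]
  conjW := [[[([0], [0])], [([0], [0])], [([0, 0], [0, 0])]], [[]]]
  commW := [[[[], [], []], [[], [], [0]], [[], [0, 0], []]], [[[]]]]

theorem chkS6 : chkS s6 = true := by decide +kernel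

end Cfsg.Agent.Lib.Helper5.OT.D
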