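import Cfsg.Agent.Lib.Helper5.OT3

set_option autoImplicit false
set_option maxRecDepth 100000

/-! generated data: group R14_38828 of order 14 and degree 9 -/

namespace Cfsg.Agent.Lib.Helper5.OT.D

/-- enumeration data -/
def e7 : EData where
  d := 9
  gens := [[1, 0, 6, 5, 4, 3, 2, 8, 7], [2, 1, 0, 6, 5, 4, 3, 8, 7]]
  Ls := [[0, 1, 2, 3, 4, 5, 6, 7, 8], [0, 6, 5, 4, 3, 2, 1, 8, 7], [1, 0, 6, 5, 4, 3, 2, 8, 7], [1, 2, 3, 4, 5, 6, 0, 7, 8], [2, 1, 0, 6, 5, 4, 3, 8, 7], [2, 3, 4, 5, 6, 0, 1, 7, 8], [3, 2, 1, 0, 6, 5, 4, 8, 7], [3, 4, 5, 6, 0, 1, 2, 7, 8], [4, 3, 2, 1, 0, 6, 5, 8, 7], [4, 5, 6, 0, 1, 2, 3, 7, 8], [5, 4, 3, 2, 1, 0, 6, 8, 7], [5, 6, 0, 1, 2, 3, 4, 7, 8], [6, 0, 1, 2, 3, 4, 5, 7, 8], [6, 5, 4, 3, 2, 1, 0, 8, 7]]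
  nxt := [[2, 4], [3, 5], [0, 3], [1, 2], [12, 0], [13, 1], [11, 12], [10, 13], [9, 11], [8, 10], [7, 9], [6, 8], [4, 6], [5, 7]]
  words := [[], [0, 1, 0], [0], [1, 0], [1], [1, 0, 1, 0], [1, 0, 1], [1, 0, 1, 0, 1, 0], [1, 0, 1, 0, 1], [0, 1, 0, 1, 0, 1], [0, 1, 0, 1, 0, 1, 0], [0, 1, 0, 1], [0, 1], [0, 1, 0, 1, 0]]

/-- element orders -/
def ords7 : List ℕ := [1, 2, 2, 7, 2, 7, 2, 7, 2, 7, 2, 7, 7, 2]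

theorem chk7 : chkAll e7 = true := by decide +kernel

theorem ord7 : e7.Ls.map (rord e7.d) = ords7 := by decide +kernel

theorem nz7 : ∀ k ∈ ords7, k ≠ 0 := by decide +kernel

theorem ex7 : ∀ k ∈ ords7, k ∣ 84 := by decide +kernel

/-- solvable series data -/
def s7 : SData where
  d := 9
  series := [[[1, 0, 6, 5, 4, 3, 2, 8, 7], [2, 1, 0, 6, 5, 4, 3, 8, 7]], [[2, 3, 4, 5, 6, 0, 1, 7, 8]]]
  conjW := [[[([0, 0, 0, 0, 0, 0], [0, 0, 0, 0, 0, 0])], [([0, 0, 0, 0, 0, 0], [0, 0, 0, 0, 0, 0])]], [[]]]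
  commW := [[[[], [0, 0, 0, 0, 0, 0]], [[0], []]], [[[]]]]

theorem chkS7 : chkS s7 = true := by decide +kernel

end Cfsg.Agent.Lib.Helper5.OT.D
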