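import Cfsg.Agent.Lib.Helper5.OT3

set_option autoImplicit false
set_option maxRecDepth 100000

/-! generated data: group R2_156 of order 24 and degree 6 -/

namespace Cfsg.Agent.Lib.Helper5.OT.D

/-- enumeration data -/
def e8 : EData where
  d := 6
  gens := [[2, 1, 3, 0, 4, 5], [3, 2, 0, 1, 5, 4]]
  Ls := [[0, 1, 2, 3, 4, 5], [0, 1, 3, 2, 5, 4], [0, 2, 1, 3, 5, 4], [0, 2, 3, 1, 4, 5], [0, 3, 1, 2, 4, 5], [0, 3, 2, 1, 5, 4], [1, 0, 2, 3, 5, 4], [1, 0, 3, 2, 4, 5], [1, 2, 0, 3, 4, 5], [1, 2, 3, 0, 5, 4], [1, 3, 0, 2, 5, 4], [1, 3, 2, 0, 4, 5], [2, 0, 1, 3, 4, 5], [2, 0, 3, 1, 5, 4], [2, 1, 0, 3, 5, 4], [2, 1, 3, 0, 4, 5], [2, 3, 0, 1, 4, 5], [2, 3, 1, 0, 5, 4], [3, 0, 1, 2, 5, 4], [3, 0, 2, 1, 4, 5], [3, 1, 0, 2, 4, 5], [3, 1, 2, 0, 5, 4], [3, 2, 0, 1, 5, 4], [3, 2, 1, 0, 4, 5]]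
  nxt := [[15, 22], [14, 23], [17, 19], [16, 18], [12, 21], [13, 20], [9, 16], [8, 17], [11, 13], [10, 12], [6, 15], [7, 14], [23, 5], [22, 4], [21, 3], [20, 2], [19, 1], [18, 0], [2, 11], [3, 10], [0, 9], [1, 8], [5, 7], [4, 6]]
  words := [[], [1, 0, 0, 1, 1, 0], [1, 0], [0, 1, 1, 0], [1, 0, 0, 1], [0, 1], [0, 0, 1, 0, 0], [1, 1], [0, 1, 1], [1, 0, 0], [0, 1, 0, 0], [0, 0, 1, 1], [1, 1, 0, 0], [0, 0, 1], [1, 0, 0, 1, 1], [0], [0, 0, 1, 1, 0], [0, 1, 0], [0, 0, 1, 0], [1, 1, 0], [0, 0], [1, 1, 0, 0, 1], [1], [0, 1, 1, 0, 0]]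

/-- element orders -/
def ords8 : List ℕ := [1, 2, 2, 3, 3, 2, 2, 2, 3, 4, 4, 3, 3, 4, 2, 3, 2, 4, 4, 3, 3, 2, 4, 2]

theorem chk8 : chkAll e8 = true := by decide +kernel

theorem ord8 : e8.Ls.map (rord e8.d) = ords8 := by decide +kernel

theorem nz8 : ∀ k ∈ ords8, k ≠ 0 := by decide +kernel

theorem ex8 : ∀ k ∈ ords8, k ∣ 84 := by decide +kernel

/-- solvable series data -/
def s8 : SData where
  d := 6
  series := [[[2, 1, 3, 0, 4, 5], [3, 2, 0, 1, 5, 4]], [[0, 2, 3, 1, 4, 5], [3, 0, 2, 1, 4, 5]], [[1, 0, 3, 2, 4, 5], [2, 3, 0, 1, 4, 5]]]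
  conjW := [[[([1, 1], [0, 0, 1]), ([1, 1, 0], [0, 0])], [([1, 1, 0], [1]), ([0], [1, 0, 0])]], [[([1], [1, 0]), ([1, 0], [0])], [([1, 0], [1]), ([0], [1, 0])]], [[], []]]
  commW := [[[[], [0]], [[0, 0], []]], [[[], [1]], [[1], []]], [[[], []], [[], []]]]

theorem chkS8 : chkS s8 = true := by decide +kernel

end Cfsg.Agent.Lib.Helper5.OT.D
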