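import Cfsg.Agent.Lib.Helper5.OT3

set_option autoImplicit false
set_option maxRecDepth 100000

/-! generated data: group R2_6544 of order 24 and degree 12 -/

namespace Cfsg.Agent.Lib.Helper5.OT.D

/-- enumeration data -/
def e9 : EData where
  d := 12
  gens := [[2, 0, 1, 3, 6, 9, 11, 5, 8, 7, 10, 4], [2, 0, 1, 3, 7, 11, 6, 10, 5, 9, 4, 8]]
  Ls := [[0, 1, 2, 3, 4, 5, 6, 7, 8, 9, 10, 11], [0, 1, 2, 3, 5, 4, 9, 11, 10, 6, 8, 7], [0, 1, 2, 3, 6, 9, 5, 8, 11, 4, 7, 10], [0, 1, 2, 3, 7, 11, 10, 5, 6, 8, 9, 4], [0, 1, 2, 3, 8, 10, 7, 9, 5, 11, 4, 6], [0, 1, 2, 3, 9, 6, 4, 10, 7, 5, 11, 8], [0, 1, 2, 3, 10, 8, 11, 6, 4, 7, 5, 9], [0, 1, 2, 3, 11, 7, 8, 4, 9, 10, 6, 5], [1, 2, 0, 3, 4, 5, 7, 8, 6, 11, 9, 10], [1, 2, 0, 3, 5, 4, 11, 10, 9, 7, 6, 8], [1, 2, 0, 3, 6, 9, 8, 11, 5,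 10, 4, 7], [1, 2, 0, 3, 7, 11, 5, 6, 10, 4, 8, 9], [1, 2, 0, 3, 8, 10, 9, 5, 7, 6, 11, 4], [1, 2, 0, 3, 9, 6, 10, 7, 4, 8, 5, 11], [1, 2, 0, 3, 10, 8, 6, 4, 11, 9, 7, 5], [1, 2, 0, 3, 11, 7, 4, 9, 8, 5, 10, 6], [2, 0, 1, 3, 4, 5, 8, 6, 7, 10, 11, 9], [2, 0, 1, 3, 5, 4, 10, 9, 11, 8, 7, 6], [2, 0, 1, 3, 6, 9, 11, 5, 8, 7, 10, 4], [2, 0, 1, 3, 7, 11, 6, 10, 5, 9, 4, 8], [2, 0, 1, 3, 8, 10, 5, 7, 9, 4, 6, 11], [2, 0, 1, 3, 9, 6, 7, 4, 10, 11, 8, 5], [2, 0, 1, 3, 10, 8, 4, 11, 6, 5, 9, 7], [2, 0, 1, 3, 11, 7, 9, 8, 4, 6, 5, 10]]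
  nxt := [[18, 19], [21, 23], [23, 18], [17, 22], [20, 17], [19, 21], [22, 16], [16, 20], [2, 3], [5, 7], [7, 2], [1, 6], [4, 1], [3, 5], [6, 0], [0, 4], [10, 11], [13, 15], [15, 10], [9, 14], [12, 9], [11, 13], [14, 8], [8, 12]]
  words := [[], [1, 0, 0, 1, 0, 0], [1, 1, 0], [0, 0, 1, 1, 0, 0], [1, 0, 0], [0, 0, 1], [0, 1, 1], [0, 1, 0], [0, 0, 1, 1, 0], [0, 1], [1, 0], [1, 0, 0, 1, 0], [0, 0, 1, 0, 0], [0, 1, 1, 0, 0], [1, 1], [0, 0], [0, 0, 1, 0], [1, 1, 0, 0], [0], [1], [0, 1, 0, 0], [1, 0, 0, 1], [0, 0, 1, 1], [0, 1, 1, 0]]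

/-- element orders -/
def ords9 : List ℕ := [1, 2, 4, 4, 4, 4, 4, 4, 3, 6, 6, 6, 6, 3, 3, 3, 3, 6, 3, 3, 3, 6, 6, 6]

theorem chk9 : chkAll e9 = true := by decide +kernel

theorem ord9 : e9.Ls.map (rord e9.d) = ords9 := by decide +kernel

theorem nz9 : ∀ k ∈ ords9, k ≠ 0 := by decide +kernel

theorem ex9 : ∀ k ∈ ords9, k ∣ 84 := by decide +kernel

/-- solvable series data -/
def s9 : SData where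
  d := 12
  series := [[[2, 0, 1, 3, 6, 9, 11, 5, 8, 7, 10, 4], [2, 0, 1, 3, 7, 11, 6, 10, 5, 9, 4, 8]], [[0, 1, 2, 3, 10, 8, 11, 6, 4, 7, 5, 9], [0, 1, 2, 3, 7, 11, 10, 5, 6, 8, 9, 4]], [[0, 1, 2, 3, 5, 4, 9, 11, 10, 6, 8, 7]]]
  conjW := [[[([1], [0, 1]), ([0, 1], [0])], [([1, 0, 0], [0, 1]), ([1, 0], [0, 0, 0])]], [[([0], [0])], [([0], [0])]], [[]]]
  commW := [[[[], [0, 1]], [[1, 0], []]], [[[], [0]], [[0], []]], [[[]]]]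

theorem chkS9 : chkS s9 = true := by decide +kernel

end Cfsg.Agent.Lib.Helper5.OT.D
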