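import Cfsg.Agent.Lib.Helper5.OT3

set_option autoImplicit false
set_option maxRecDepth 100000

/-! generated data: group R2_1072 of order 24 and degree 13 -/

namespace Cfsg.Agent.Lib.Helper5.OT.D

/-- enumeration data -/
def e10 : EData where
  d := 13
  gens := [[1, 0, 2, 3, 5, 4, 6, 8, 7, 11, 12, 9, 10], [2, 3, 0, 1, 5, 4, 7, 6, 8, 12, 11, 10, 9]]
  Ls := [[0, 1, 2, 3, 4, 5, 6, 7, 8, 9, 10, 11, 12], [0, 1, 2, 3, 4, 5, 7, 8, 6, 9, 10, 11, 12], [0, 1, 2, 3, 4, 5, 8, 6, 7, 9, 10, 11, 12], [0, 1, 3, 2, 5, 4, 6, 8, 7, 11, 12, 9, 10], [0, 1, 3, 2, 5, 4, 7, 6, 8, 11, 12, 9, 10], [0, 1, 3, 2, 5, 4, 8, 7, 6, 11, 12, 9, 10], [1, 0, 2, 3, 5, 4, 6, 8, 7, 11, 12, 9, 10], [1, 0, 2, 3, 5, 4, 7, 6, 8, 11, 12, 9, 10], [1, 0, 2, 3, 5, 4, 8, 7, 6, 11, 12, 9, 10], [1, 0, 3, 2,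 4, 5, 6, 7, 8, 9, 10, 11, 12], [1, 0, 3, 2, 4, 5, 7, 8, 6, 9, 10, 11, 12], [1, 0, 3, 2, 4, 5, 8, 6, 7, 9, 10, 11, 12], [2, 3, 0, 1, 5, 4, 6, 8, 7, 12, 11, 10, 9], [2, 3, 0, 1, 5, 4, 7, 6, 8, 12, 11, 10, 9], [2, 3, 0, 1, 5, 4, 8, 7, 6, 12, 11, 10, 9], [2, 3, 1, 0, 4, 5, 6, 7, 8, 10, 9, 12, 11], [2, 3, 1, 0, 4, 5, 7, 8, 6, 10, 9, 12, 11], [2, 3, 1, 0, 4, 5, 8, 6, 7, 10, 9, 12, 11], [3, 2, 0, 1, 4, 5, 6, 7, 8, 10, 9, 12, 11], [3, 2, 0, 1, 4, 5, 7, 8, 6, 10, 9, 12, 11], [3, 2, 0, 1, 4, 5, 8, 6, 7, 10, 9, 12, 11], [3, 2, 1, 0, 5, 4, 6, 8, 7, 12, 11, 10, 9], [3, 2, 1, 0, 5, 4, 7, 6, 8, 12, 11, 10, 9], [3, 2, 1, 0, 5, 4, 8, 7, 6, 12, 11, 10, 9]]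
  nxt := [[6, 13], [8, 12], [7, 14], [9, 16], [11, 15], [10, 17], [0, 19], [2, 18], [1, 20], [3, 22], [5, 21], [4, 23], [15, 1], [17, 0], [16, 2], [12, 4], [14, 3], [13, 5], [21, 7], [23, 6], [22, 8], [18, 10], [20, 9], [19, 11]]
  words := [[], [1, 0, 1, 0, 1, 0, 1, 0], [0, 1, 0, 1, 0, 1, 0, 1], [1, 0, 1, 0, 1, 0, 1, 0, 1, 0, 1], [0, 1, 0, 1, 0], [1, 0, 1], [0], [1, 0, 1, 0, 1, 0, 1], [0, 1, 0, 1, 0, 1, 0, 1, 0], [1, 0, 1, 0, 1, 0, 1, 0, 1, 0, 1, 0], [0, 1, 0, 1], [1, 0, 1, 0], [0, 1, 0, 1, 0, 1, 0], [1], [1, 0, 1, 0, 1, 0, 1, 0, 1], [1, 0, 1, 0, 1, 0], [0, 1, 0, 1, 0, 1, 0, 1, 0, 1], [0, 1], [0, 1, 0, 1, 0, 1], [1, 0], [1, 0, 1, 0, 1, 0, 1, 0, 1, 0], [1, 0, 1, 0, 1], [0, 1, 0, 1, 0, 1, 0, 1, 0, 1, 0], [0, 1, 0]]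

/-- element orders -/
def ords10 : List ℕ := [1, 3, 3, 2, 2, 2, 2, 2, 2, 2, 6, 6, 2, 2, 2, 4, 12, 12, 4, 12, 12, 2, 2, 2]

theorem chk10 : chkAll e10 = true := by decide +kernel

theorem ord10 : e10.Ls.map (rord e10.d) = ords10 := by decide +kernel

theorem nz10 : ∀ k ∈ ords10, k ≠ 0 := by decide +kernel

theorem ex10 : ∀ k ∈ ords10, k ∣ 84 := by decide +kernel

/-- solvable series data -/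
def s10 : SData where
  d := 13
  series := [[[1, 0, 2, 3, 5, 4, 6, 8, 7, 11, 12, 9, 10], [2, 3, 0, 1, 5, 4, 7, 6, 8, 12, 11, 10, 9]], [[1, 0, 3, 2, 4, 5, 8, 6, 7, 9, 10, 11, 12]]]
  conjW := [[[([0, 0, 0, 0, 0], [0, 0, 0, 0, 0])], [([0, 0, 0, 0, 0], [0, 0, 0, 0, 0])]], [[]]]
  commW := [[[[], [0, 0, 0, 0, 0]], [[0], []]], [[[]]]]

theorem chkS10 : chkS s10 = true := by decide +kernel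

end Cfsg.Agent.Lib.Helper5.OT.D
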