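import Cfsg.Agent.Lib.Helper5.OT3

set_option autoImplicit false
set_option maxRecDepth 100000

/-! generated data: group R11_418 of order 168 and degree 11 -/

namespace Cfsg.Agent.Lib.Helper5.OT.D

/-- enumeration data -/
def e22 : EData where
  d := 11
  gens := [[3, 5, 0, 2, 4, 6, 1, 8, 9, 10, 7], [3, 2, 1, 0, 6, 5, 4, 8, 7, 10, 9]]
  Ls := [[0, 1, 2, 3, 4, 5, 6, 7, 8, 9, 10], [0, 1, 2, 3, 4, 5, 6, 8, 9, 10, 7], [0, 1, 2, 3, 4, 5, 6, 9, 10, 7, 8], [0, 1, 2, 3, 4, 5, 6, 10, 7, 8, 9], [0, 2, 4, 6, 1, 3, 5, 7, 8, 9, 10], [0, 2, 4, 6, 1, 3, 5, 8, 9, 10, 7], [0, 2, 4, 6, 1, 3, 5, 9, 10, 7, 8], [0, 2, 4, 6, 1, 3, 5, 10, 7, 8, 9], [0, 3, 6, 2, 5, 1, 4, 7, 10, 9, 8], [0, 3, 6, 2, 5, 1, 4, 8, 7, 10, 9],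 [0, 3, 6, 2, 5, 1, 4, 9, 8, 7, 10], [0, 3, 6, 2, 5, 1, 4, 10, 9, 8, 7], [0, 4, 1, 5, 2, 6, 3, 7, 8, 9, 10], [0, 4, 1, 5, 2, 6, 3, 8, 9, 10, 7], [0, 4, 1, 5, 2, 6, 3, 9, 10, 7, 8], [0, 4, 1, 5, 2, 6, 3, 10, 7, 8, 9], [0, 5, 3, 1, 6, 4, 2, 7, 10, 9, 8], [0, 5, 3, 1, 6, 4, 2, 8, 7, 10, 9], [0, 5, 3, 1, 6, 4, 2, 9, 8, 7, 10], [0, 5, 3, 1, 6, 4, 2, 10, 9, 8, 7], [0, 6, 5, 4, 3, 2, 1, 7, 10, 9, 8], [0, 6, 5, 4, 3, 2, 1, 8, 7, 10, 9], [0, 6, 5, 4, 3, 2, 1, 9, 8, 7, 10], [0, 6, 5, 4, 3, 2, 1, 10, 9, 8, 7], [1, 0, 6, 5, 4, 3, 2, 7, 10, 9, 8], [1, 0, 6, 5, 4, 3, 2, 8, 7, 10, 9], [1, 0, 6, 5, 4, 3, 2, 9, 8, 7, 10], [1, 0, 6, 5, 4, 3, 2, 10, 9, 8, 7], [1, 2, 3, 4, 5, 6, 0, 7, 8, 9, 10], [1, 2, 3, 4, 5, 6, 0,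 8, 9, 10, 7], [1, 2, 3, 4, 5, 6, 0, 9, 10, 7, 8], [1, 2, 3, 4, 5, 6, 0, 10, 7, 8, 9], [1, 3, 5, 0, 2, 4, 6, 7, 8, 9, 10], [1, 3, 5, 0, 2, 4, 6, 8, 9, 10, 7], [1, 3, 5, 0, 2, 4, 6, 9, 10, 7, 8], [1, 3, 5, 0, 2, 4, 6, 10, 7, 8, 9], [1, 4, 0, 3, 6, 2, 5, 7, 10, 9, 8], [1, 4, 0, 3, 6, 2, 5, 8, 7, 10, 9], [1, 4, 0, 3, 6, 2, 5, 9, 8, 7, 10], [1, 4, 0, 3, 6, 2, 5, 10, 9, 8, 7], [1, 5, 2, 6, 3, 0, 4, 7, 8, 9, 10], [1, 5, 2, 6, 3, 0, 4, 8, 9, 10, 7], [1, 5, 2, 6, 3, 0, 4, 9, 10, 7, 8], [1, 5, 2, 6, 3, 0, 4, 10, 7, 8, 9], [1, 6, 4, 2, 0, 5, 3, 7, 10, 9, 8], [1, 6, 4, 2, 0, 5, 3, 8, 7, 10, 9], [1, 6, 4, 2, 0, 5, 3, 9, 8, 7, 10], [1, 6, 4, 2, 0, 5, 3, 10, 9, 8, 7], [2, 0, 5, 3, 1, 6, 4, 7, 10, 9, 8], [2, 0, 5,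 3, 1, 6, 4, 8, 7, 10, 9], [2, 0, 5, 3, 1, 6, 4, 9, 8, 7, 10], [2, 0, 5, 3, 1, 6, 4, 10, 9, 8, 7], [2, 1, 0, 6, 5, 4, 3, 7, 10, 9, 8], [2, 1, 0, 6, 5, 4, 3, 8, 7, 10, 9], [2, 1, 0, 6, 5, 4, 3, 9, 8, 7, 10], [2, 1, 0, 6, 5, 4, 3, 10, 9, 8, 7], [2, 3, 4, 5, 6, 0, 1, 7, 8, 9, 10], [2, 3, 4, 5, 6, 0, 1, 8, 9, 10, 7], [2, 3, 4, 5, 6, 0, 1, 9, 10, 7, 8], [2, 3, 4, 5, 6, 0, 1, 10, 7, 8, 9], [2, 4, 6, 1, 3, 5, 0, 7, 8, 9, 10], [2, 4, 6, 1, 3, 5, 0, 8, 9, 10, 7], [2, 4, 6, 1, 3, 5, 0, 9, 10, 7, 8], [2, 4, 6, 1, 3, 5, 0, 10, 7, 8, 9], [2, 5, 1, 4, 0, 3, 6, 7, 10, 9, 8], [2, 5, 1, 4, 0, 3, 6, 8, 7, 10, 9], [2, 5, 1, 4, 0, 3, 6, 9, 8, 7, 10], [2, 5, 1, 4, 0, 3, 6, 10, 9, 8, 7], [2, 6, 3, 0, 4, 1, 5, 7, 8, 9, 10],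 [2, 6, 3, 0, 4, 1, 5, 8, 9, 10, 7], [2, 6, 3, 0, 4, 1, 5, 9, 10, 7, 8], [2, 6, 3, 0, 4, 1, 5, 10, 7, 8, 9], [3, 0, 4, 1, 5, 2, 6, 7, 8, 9, 10], [3, 0, 4, 1, 5, 2, 6, 8, 9, 10, 7], [3, 0, 4, 1, 5, 2, 6, 9, 10, 7, 8], [3, 0, 4, 1, 5, 2, 6, 10, 7, 8, 9], [3, 1, 6, 4, 2, 0, 5, 7, 10, 9, 8], [3, 1, 6, 4, 2, 0, 5, 8, 7, 10, 9], [3, 1, 6, 4, 2, 0, 5, 9, 8, 7, 10], [3, 1, 6, 4, 2, 0, 5, 10, 9, 8, 7], [3, 2, 1, 0, 6, 5, 4, 7, 10, 9, 8], [3, 2, 1, 0, 6, 5, 4, 8, 7, 10, 9], [3, 2, 1, 0, 6, 5, 4, 9, 8, 7, 10], [3, 2, 1, 0, 6, 5, 4, 10, 9, 8, 7], [3, 4, 5, 6, 0, 1, 2, 7, 8, 9, 10], [3, 4, 5, 6, 0, 1, 2, 8, 9, 10, 7], [3, 4, 5, 6, 0, 1, 2, 9, 10, 7, 8], [3, 4, 5, 6, 0, 1, 2, 10, 7, 8, 9], [3, 5, 0, 2, 4, 6, 1,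 7, 8, 9, 10], [3, 5, 0, 2, 4, 6, 1, 8, 9, 10, 7], [3, 5, 0, 2, 4, 6, 1, 9, 10, 7, 8], [3, 5, 0, 2, 4, 6, 1, 10, 7, 8, 9], [3, 6, 2, 5, 1, 4, 0, 7, 10, 9, 8], [3, 6, 2, 5, 1, 4, 0, 8, 7, 10, 9], [3, 6, 2, 5, 1, 4, 0, 9, 8, 7, 10], [3, 6, 2, 5, 1, 4, 0, 10, 9, 8, 7], [4, 0, 3, 6, 2, 5, 1, 7, 10, 9, 8], [4, 0, 3, 6, 2, 5, 1, 8, 7, 10, 9], [4, 0, 3, 6, 2, 5, 1, 9, 8, 7, 10], [4, 0, 3, 6, 2, 5, 1, 10, 9, 8, 7], [4, 1, 5, 2, 6, 3, 0, 7, 8, 9, 10], [4, 1, 5, 2, 6, 3, 0, 8, 9, 10, 7], [4, 1, 5, 2, 6, 3, 0, 9, 10, 7, 8], [4, 1, 5, 2, 6, 3, 0, 10, 7, 8, 9], [4, 2, 0, 5, 3, 1, 6, 7, 10, 9, 8], [4, 2, 0, 5, 3, 1, 6, 8, 7, 10, 9], [4, 2, 0, 5, 3, 1, 6, 9, 8, 7, 10], [4, 2, 0, 5, 3, 1, 6, 10, 9, 8, 7], [4, 3, 2,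 1, 0, 6, 5, 7, 10, 9, 8], [4, 3, 2, 1, 0, 6, 5, 8, 7, 10, 9], [4, 3, 2, 1, 0, 6, 5, 9, 8, 7, 10], [4, 3, 2, 1, 0, 6, 5, 10, 9, 8, 7], [4, 5, 6, 0, 1, 2, 3, 7, 8, 9, 10], [4, 5, 6, 0, 1, 2, 3, 8, 9, 10, 7], [4, 5, 6, 0, 1, 2, 3, 9, 10, 7, 8], [4, 5, 6, 0, 1, 2, 3, 10, 7, 8, 9], [4, 6, 1, 3, 5, 0, 2, 7, 8, 9, 10], [4, 6, 1, 3, 5, 0, 2, 8, 9, 10, 7], [4, 6, 1, 3, 5, 0, 2, 9, 10, 7, 8], [4, 6, 1, 3, 5, 0, 2, 10, 7, 8, 9], [5, 0, 2, 4, 6, 1, 3, 7, 8, 9, 10], [5, 0, 2, 4, 6, 1, 3, 8, 9, 10, 7], [5, 0, 2, 4, 6, 1, 3, 9, 10, 7, 8], [5, 0, 2, 4, 6, 1, 3, 10, 7, 8, 9], [5, 1, 4, 0, 3, 6, 2, 7, 10, 9, 8], [5, 1, 4, 0, 3, 6, 2, 8, 7, 10, 9], [5, 1, 4, 0, 3, 6, 2, 9, 8, 7, 10], [5, 1, 4, 0, 3, 6, 2, 10, 9, 8,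 7], [5, 2, 6, 3, 0, 4, 1, 7, 8, 9, 10], [5, 2, 6, 3, 0, 4, 1, 8, 9, 10, 7], [5, 2, 6, 3, 0, 4, 1, 9, 10, 7, 8], [5, 2, 6, 3, 0, 4, 1, 10, 7, 8, 9], [5, 3, 1, 6, 4, 2, 0, 7, 10, 9, 8], [5, 3, 1, 6, 4, 2, 0, 8, 7, 10, 9], [5, 3, 1, 6, 4, 2, 0, 9, 8, 7, 10], [5, 3, 1, 6, 4, 2, 0, 10, 9, 8, 7], [5, 4, 3, 2, 1, 0, 6, 7, 10, 9, 8], [5, 4, 3, 2, 1, 0, 6, 8, 7, 10, 9], [5, 4, 3, 2, 1, 0, 6, 9, 8, 7, 10], [5, 4, 3, 2, 1, 0, 6, 10, 9, 8, 7], [5, 6, 0, 1, 2, 3, 4, 7, 8, 9, 10], [5, 6, 0, 1, 2, 3, 4, 8, 9, 10, 7], [5, 6, 0, 1, 2, 3, 4, 9, 10, 7, 8], [5, 6, 0, 1, 2, 3, 4, 10, 7, 8, 9], [6, 0, 1, 2, 3, 4, 5, 7, 8, 9, 10], [6, 0, 1, 2, 3, 4, 5, 8, 9, 10, 7], [6, 0, 1, 2, 3, 4, 5, 9, 10, 7, 8], [6, 0, 1, 2, 3, 4,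 5, 10, 7, 8, 9], [6, 1, 3, 5, 0, 2, 4, 7, 8, 9, 10], [6, 1, 3, 5, 0, 2, 4, 8, 9, 10, 7], [6, 1, 3, 5, 0, 2, 4, 9, 10, 7, 8], [6, 1, 3, 5, 0, 2, 4, 10, 7, 8, 9], [6, 2, 5, 1, 4, 0, 3, 7, 10, 9, 8], [6, 2, 5, 1, 4, 0, 3, 8, 7, 10, 9], [6, 2, 5, 1, 4, 0, 3, 9, 8, 7, 10], [6, 2, 5, 1, 4, 0, 3, 10, 9, 8, 7], [6, 3, 0, 4, 1, 5, 2, 7, 8, 9, 10], [6, 3, 0, 4, 1, 5, 2, 8, 9, 10, 7], [6, 3, 0, 4, 1, 5, 2, 9, 10, 7, 8], [6, 3, 0, 4, 1, 5, 2, 10, 7, 8, 9], [6, 4, 2, 0, 5, 3, 1, 7, 10, 9, 8], [6, 4, 2, 0, 5, 3, 1, 8, 7, 10, 9], [6, 4, 2, 0, 5, 3, 1, 9, 8, 7, 10], [6, 4, 2, 0, 5, 3, 1, 10, 9, 8, 7], [6, 5, 4, 3, 2, 1, 0, 7, 10, 9, 8], [6, 5, 4, 3, 2, 1, 0, 8, 7, 10, 9], [6, 5, 4, 3, 2, 1, 0, 9, 8, 7, 10], [6, 5,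 4, 3, 2, 1, 0, 10, 9, 8, 7]]
  nxt := [[89, 81], [90, 80], [91, 83], [88, 82], [73, 77], [74, 76], [75, 79], [72, 78], [81, 73], [82, 72], [83, 75], [80, 74], [85, 93], [86, 92], [87, 95], [84, 94], [93, 89], [94, 88], [95, 91], [92, 90], [77, 85], [78, 84], [79, 87], [76, 86], [133, 57], [134, 56], [135, 59], [132, 58], [121, 53], [122, 52], [123, 55], [120, 54], [129, 49], [130, 48], [131, 51], [128, 50], [137, 69], [138, 68], [139, 71], [136, 70], [141, 65], [142, 64], [143, 67], [140, 66], [125, 61], [126, 60], [127, 63], [124, 62], [9, 33], [10, 32], [11, 35], [8, 34], [17, 29], [18, 28], [19, 31], [16, 30], [5, 25], [6, 24], [7, 27], [4, 26], [13, 45], [14, 44], [15, 47], [12, 46], [21, 41],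 [22, 40], [23, 43], [20, 42], [1, 37], [2, 36], [3, 39], [0, 38], [57, 9], [58, 8], [59, 11], [56, 10], [65, 5], [66, 4], [67, 7], [64, 6], [49, 1], [50, 0], [51, 3], [48, 2], [61, 21], [62, 20], [63, 23], [60, 22], [69, 17], [70, 16], [71, 19], [68, 18], [53, 13], [54, 12], [55, 15], [52, 14], [109, 157], [110, 156], [111, 159], [108, 158], [113, 153], [114, 152], [115, 155], [112, 154], [97, 149], [98, 148], [99, 151], [96, 150], [105, 145], [106, 144], [107, 147], [104, 146], [117, 165], [118, 164], [119, 167], [116, 166], [101, 161], [102, 160], [103, 163], [100, 162], [157, 133], [158, 132], [159, 135], [156, 134], [165, 129], [166, 128], [167, 131], [164, 130], [145, 125], [146, 124], [147,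 127], [144, 126], [153, 121], [154, 120], [155, 123], [152, 122], [161, 141], [162, 140], [163, 143], [160, 142], [149, 137], [150, 136], [151, 139], [148, 138], [33, 109], [34, 108], [35, 111], [32, 110], [41, 105], [42, 104], [43, 107], [40, 106], [25, 101], [26, 100], [27, 103], [24, 102], [29, 97], [30, 96], [31, 99], [28, 98], [37, 117], [38, 116], [39, 119], [36, 118], [45, 113], [46, 112], [47, 115], [44, 114]]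
  words := [[], [1, 0, 0, 0, 1], [0, 0, 0, 0, 0, 0], [0, 0, 0], [0, 0, 1, 0, 0, 1], [0, 0, 1, 0, 0, 0, 0, 0, 1], [0, 0, 1, 0, 0, 1, 0, 0, 0, 0, 0, 0], [0, 0, 1, 0, 0, 1, 0, 0, 0], [0, 0, 1, 0, 0, 0], [0, 0, 1, 0, 0, 0, 0, 0, 0], [0, 0, 0, 0, 0, 1], [0, 0, 1], [1, 0, 1, 0], [1, 0, 0, 0, 0, 1, 0], [1, 0, 1, 0, 0, 0, 0, 0, 0, 0], [1, 0, 1, 0, 0, 0, 0], [1, 0], [1, 0, 0, 0, 0], [1, 0, 0, 0, 0, 0, 0, 0], [0, 0, 0, 1, 0], [1, 0, 1, 0, 1, 0], [1, 0, 1, 0, 1, 0, 0, 0, 0], [1, 0, 1, 0, 1, 0, 0, 0, 0, 0, 0, 0], [0, 1, 0, 0, 1, 0, 1, 0, 0], [1, 0, 1, 0, 0, 1, 0, 0, 0, 0, 0, 0], [0, 1, 0, 1, 0, 0, 1, 0, 0], [1, 0, 1, 0, 0, 1], [1, 0, 1, 0, 0, 1, 0, 0, 0], [1, 0, 0, 0, 0, 0, 1, 0], [1, 0, 0, 1, 0, 0, 0, 0, 0,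 0, 0], [1, 0, 0, 1, 0, 0, 0, 0], [1, 0, 0, 1, 0], [1, 0, 0, 0, 0, 1], [1, 0, 1, 0, 0, 0, 0, 0, 0], [1, 0, 1, 0, 0, 0], [1, 0, 1], [1, 0, 0, 0, 0, 0], [1, 0, 0, 0, 0, 0, 0, 0, 0], [0, 0, 0, 1, 0, 0], [1, 0, 0], [0, 0, 1, 0, 0, 0, 0, 1, 0, 0], [0, 1, 0, 1, 0, 0, 1, 0, 1], [0, 0, 1, 0, 1, 0, 0, 0, 0, 0], [0, 0, 1, 0, 1, 0, 0], [1, 0, 0, 1, 0, 1, 0, 0, 0, 0], [1, 0, 0, 1, 0, 1, 0, 0, 0, 0, 0, 0, 0], [1, 0, 0, 1, 0, 0, 0, 0, 1, 0], [1, 0, 0, 1, 0, 1, 0], [0, 1, 0, 0, 0, 0, 0, 0], [0, 0, 0, 0, 1], [0, 1], [0, 1, 0, 0, 0], [0, 0, 1, 0, 0, 0, 0, 0, 0, 0], [0, 0, 0, 0, 0, 1, 0], [0, 0, 1, 0], [0, 0, 1, 0, 0, 0, 0], [0, 1, 0, 0, 0, 0, 0, 1], [0, 1, 0, 0, 1, 0, 0, 0, 0, 0, 0], [0, 1, 0, 0, 1, 0, 0, 0], [0, 1,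 0, 0, 1], [0, 0, 1, 0, 1, 0, 0, 0, 0, 0, 0, 0], [0, 0, 1, 0, 1, 0, 0, 0, 0], [0, 0, 1, 0, 1, 0], [0, 0, 1, 0, 0, 0, 0, 1, 0], [1, 0, 1, 0, 1, 0, 0, 1, 0, 1], [1, 0, 0, 1, 0, 0, 0, 0, 1, 0, 0], [1, 0, 0, 1, 0, 1, 0, 0], [1, 0, 0, 1, 0, 1, 0, 0, 0, 0, 0], [0, 0, 0, 0, 0, 0, 0, 0], [0, 0, 0, 0, 0], [0, 0], [1, 0, 0, 0, 1, 0, 0], [1, 0, 0, 1, 0, 0, 0, 0, 0, 0], [1, 0, 0, 1, 0, 0, 0], [1, 0, 0, 1], [1, 0, 0, 0, 0, 0, 1], [0, 0, 1, 0, 0, 1, 0, 1, 0, 0], [0, 1, 0, 1, 0, 1, 0], [0, 1, 0, 1, 0, 1, 0, 0, 0, 0], [0, 1, 0, 1, 0, 1, 0, 0, 0, 0, 0, 0, 0], [0, 0, 0, 1], [1], [1, 0, 0, 0], [1, 0, 0, 0, 0, 0, 0], [0, 1, 0, 1, 0, 0, 0, 0], [0, 1, 0, 1, 0], [0, 1, 0, 0, 0, 0, 1, 0], [0, 1, 0, 1, 0, 0, 0, 0, 0, 0, 0],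 [0, 0, 0, 0], [0], [1, 0, 0, 0, 1, 0], [0, 0, 0, 0, 0, 0, 0], [0, 0, 0, 0, 1, 0], [0, 1, 0], [0, 1, 0, 0, 0, 0], [0, 1, 0, 0, 0, 0, 0, 0, 0], [0, 1, 0, 1, 0, 1, 0, 0], [0, 1, 0, 1, 0, 1, 0, 0, 0, 0, 0], [0, 0, 1, 0, 0, 1, 0, 1], [0, 0, 1, 0, 0, 1, 0, 1, 0, 0, 0], [0, 1, 0, 0, 1, 0, 0, 0, 0, 0], [0, 1, 0, 0, 1, 0, 0], [0, 1, 0, 0, 0, 0, 0, 1, 0, 0], [1, 0, 1, 0, 1, 0, 0, 1, 0], [1, 0, 1, 0, 1, 0, 0, 0, 0, 0], [0, 1, 0, 0, 1, 0, 1], [0, 1, 0, 0, 1, 0, 1, 0, 0, 0], [1, 0, 1, 0, 1, 0, 0], [1, 0, 0, 1, 0, 1], [1, 0, 0, 1, 0, 1, 0, 0, 0], [1, 0, 0, 1, 0, 1, 0, 0, 0, 0, 0, 0], [1, 0, 0, 1, 0, 0, 0, 0, 1], [0, 1, 0, 1, 0, 1, 0, 0, 1, 0], [0, 0, 1, 0, 0, 1, 0, 0, 0, 0, 0], [0, 0, 1, 0, 0, 1, 0, 0], [1, 0,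 1, 0, 1, 0, 1], [1, 0, 0, 1, 0, 0], [1, 0, 0, 0, 0, 0, 1, 0, 0], [1, 0, 0, 1, 0, 0, 0, 0, 0, 0, 0, 0], [1, 0, 0, 1, 0, 0, 0, 0, 0], [0, 1, 0, 0, 1, 0], [0, 1, 0, 0, 0, 0, 0, 1, 0], [1, 0, 1, 0, 1, 0, 0, 1], [0, 1, 0, 0, 1, 0, 0, 0, 0], [0, 1, 0, 0, 1, 0, 1, 0], [1, 0, 1, 0, 1], [1, 0, 1, 0, 1, 0, 0, 0], [1, 0, 1, 0, 1, 0, 0, 0, 0, 0, 0], [0, 1, 0, 1], [0, 1, 0, 0, 0, 0, 1], [0, 1, 0, 1, 0, 0, 0, 0, 0, 0], [0, 1, 0, 1, 0, 0, 0], [0, 1, 0, 1, 0, 0, 1, 0, 0, 0], [1, 0, 1, 0, 0, 1, 0], [1, 0, 1, 0, 0, 1, 0, 0, 0, 0], [0, 1, 0, 1, 0, 0, 1], [0, 1, 0, 0], [0, 1, 0, 0, 0, 0, 0], [0, 1, 0, 0, 0, 0, 0, 0, 0, 0], [0, 0, 0, 0, 1, 0, 0], [1, 0, 1, 0, 0, 0, 0, 0], [1, 0, 1, 0, 0], [1, 0, 0, 0, 0, 1, 0, 0], [1,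 0, 1, 0, 0, 0, 0, 0, 0, 0, 0], [0, 0, 1, 0, 1, 0, 0, 0], [0, 0, 1, 0, 1], [0, 0, 1, 0, 0, 0, 0, 1], [0, 0, 1, 0, 1, 0, 0, 0, 0, 0, 0], [1, 0, 1, 0, 0, 1, 0, 1], [0, 1, 0, 1, 0, 0, 0, 0, 0], [0, 1, 0, 1, 0, 0], [0, 1, 0, 0, 0, 0, 1, 0, 0], [1, 0, 1, 0, 0, 1, 0, 0], [1, 0, 1, 0, 0, 1, 0, 0, 0, 0, 0], [0, 1, 0, 1, 0, 0, 1, 0], [0, 1, 0, 1, 0, 0, 1, 0, 0, 0, 0], [0, 0, 1, 0, 0, 1, 0, 0, 0, 0], [0, 0, 1, 0, 0, 1, 0], [0, 0, 1, 0, 0, 0, 0, 0, 1, 0], [0, 1, 0, 1, 0, 1, 0, 0, 1], [0, 0, 0, 0, 0, 1, 0, 0], [0, 0, 1, 0, 0], [0, 0, 1, 0, 0, 0, 0, 0], [0, 0, 1, 0, 0, 0, 0, 0, 0, 0, 0], [0, 1, 0, 1, 0, 1, 0, 0, 0, 0, 0, 0], [0, 0, 1, 0, 0, 1, 0, 1, 0], [0, 1, 0, 1, 0, 1], [0, 1, 0, 1, 0, 1, 0, 0, 0]]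

/-- element orders -/
def ords22 : List ℕ := [1, 4, 2, 4, 3, 12, 6, 12, 6, 6, 6, 6, 3, 12, 6, 12, 6, 6, 6, 6, 2, 2, 2, 2, 2, 2, 2, 2, 7, 28, 14, 28, 3, 12, 6, 12, 6, 6, 6, 6, 3, 12, 6, 12, 6, 6, 6, 6, 6, 6, 6, 6, 2, 2, 2, 2, 7, 28, 14, 28, 3, 12, 6, 12, 6, 6, 6, 6, 3, 12, 6, 12, 3, 12, 6, 12, 6, 6, 6, 6, 2, 2, 2, 2, 7, 28, 14, 28, 3, 12, 6, 12, 6, 6, 6, 6, 6, 6, 6, 6, 3, 12, 6, 12, 6, 6, 6, 6, 2, 2, 2, 2, 7, 28, 14, 28, 3, 12, 6, 12, 3, 12, 6, 12, 6, 6, 6, 6, 3, 12, 6, 12, 6, 6, 6, 6, 2, 2, 2, 2, 7, 28, 14, 28, 7, 28, 14, 28, 3, 12, 6, 12, 6, 6, 6, 6, 3, 12, 6, 12, 6, 6, 6, 6, 2, 2, 2, 2]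

theorem chk22 : chkAll e22 = true := by decide +kernel

theorem ord22 : e22.Ls.map (rord e22.d) = ords22 := by decide +kernel

theorem nz22 : ∀ k ∈ ords22, k ≠ 0 := by decide +kernel

theorem ex22 : ∀ k ∈ ords22, k ∣ 84 := by decide +kernel

/-- solvable series data -/
def s22 : SData where
  d := 11
  series := [[[3, 5, 0, 2, 4, 6, 1, 8, 9, 10, 7], [3, 2, 1, 0, 6, 5, 4, 8, 7, 10, 9]], [[4, 5, 6, 0, 1, 2, 3, 9, 10, 7, 8]]]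
  conjW := [[[([0, 0, 0, 0, 0, 0, 0, 0, 0], [0, 0, 0, 0, 0, 0, 0, 0, 0, 0, 0])], [([0, 0, 0, 0, 0, 0, 0, 0, 0, 0, 0, 0, 0], [0, 0, 0, 0, 0, 0, 0, 0, 0, 0, 0, 0, 0])]], [[]]]
  commW := [[[[], [0, 0, 0, 0, 0, 0, 0, 0, 0, 0, 0]], [[0, 0, 0], []]], [[[]]]]

theorem chkS22 : chkS s22 = true := by decide +kernel

end Cfsg.Agent.Lib.Helper5.OT.D
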